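import Cfsg.Agent.S0999
import Cfsg.Agent.H1.PSL2a
import Cfsg.Agent.H5.Iso2

/-! Orders of simple groups with a large prime divisor. -/

set_option autoImplicit false
set_option linter.unusedSectionVars false

namespace CfsgH1.Big

open Subgroup Cfsg Cfsg.Agent

variable {G : Type*} [Group G] [Finite G]

theorem card_psl {F : Type*} [Field F] [Fintype F] (e : G ≃* Matrix.ProjectiveSpecialLinearGroup (Fin 2) F) {q : ℕ}
    (h : Fintype.card F = q) : Nat.card G * Nat.gcd 2 (q - 1) = q * (q - 1) * (q + 1) := by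
  classical
  rw [Nat.card_congr e.toEquiv, ← h]; exact L2.card_P2

theorem big [IsSimpleGroup G] (hG : ¬ IsCyclic G) {p : ℕ} (hp : p.Prime) (hd : p ∣ Nat.card G) (hb : Nat.card G < p ^ 3) :
    Nat.card G * Nat.gcd 2 (p - 1) = p * (p - 1) * (p + 1) ∨
      (∃ m, p = 2 ^ m + 1) ∧ Nat.card G * Nat.gcd 2 (p - 1 - 1) = (p - 1) * (p - 1 - 1) * (p - 1 + 1) := by
  rcases S0999.result hG p hp hd hb with ⟨F, _, _, h, -, ⟨e⟩⟩ | ⟨m, F, _, _, h, k, -, ⟨e⟩⟩
  · exact .inl (card_psl e h)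
  · exact .inr ⟨⟨m, k⟩, card_psl e (by rw [h, k]; simp)⟩

theorem not_cyclic [IsSimpleGroup G] (h : ¬ (Nat.card G).Prime) : ¬ IsCyclic G := fun _ =>
  h (CfsgH3.card_prime_of_simple_of_comm fun a b => (IsCyclic.isMulCommutative (α := G)).is_comm.comm a b)

theorem pslCongr {F K : Type*} [Field F] [Field K] [Fintype F] [Fintype K] (h : Fintype.card F = Fintype.card K) :
    Nonempty (Matrix.ProjectiveSpecialLinearGroup (Fin 2) F ≃* Matrix.ProjectiveSpecialLinearGroup (Fin 2) K) := by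
  obtain ⟨e⟩ := CfsgH5.nonempty_slCongr (ι := Fin 2) h
  exact ⟨QuotientGroup.congr _ _ e (Subgroup.ext fun x => ⟨fun ⟨y, hy, k⟩ => k ▸ (centerCongr e ⟨y, hy⟩).2,
    fun k => ⟨_, (centerCongr e.symm ⟨x, k⟩).2, e.apply_symm_apply x⟩⟩)⟩

end CfsgH1.Big
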