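import Cfsg.Agent.H1.PSL2d
import Cfsg.Agent.H4.Cover2
import Cfsg.Agent.H4.Pairs2
import Cfsg.Agent.H4.LC

/-! The blocks of `SL₂(q)` in the defining characteristic, `q` odd. -/

set_option autoImplicit false
set_option linter.style.haveILetI false
set_option linter.unusedSectionVars false

namespace CfsgH1.L2

open Matrix Subgroup Cfsg CfsgH2 CfsgH3 CfsgH4

local notation "C1(" x ")" => Subgroup.centralizer (Singleton.singleton x : Set _)

section
variable {G : Type*} [Group G] [Finite G] {p : ℕ} [Fact p.Prime] {M : Ideal AlgInt} [M.IsMaximal] [CharP (Res M) p]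

theorem red_deg_ne {χ : G → ℂ} (h : IsIrrCharacter G χ) (d : ¬ p ∣ charDegree χ) : red M (χ 1) ≠ 0 := by
  rw [← coe_charDegree h.isChar]; exact red_natCast_ne_zero d

theorem red_cc {χ : G → ℂ} (h : IsIrrCharacter G χ) (d : ¬ p ∣ charDegree χ) (g : G) :
    red M (centralChar χ g) = (C1(g).index : Res M) * (red M (χ g) / red M (χ 1)) := by
  have m : χ g ∈ Loc M := (LC.irr (S := Loc M) ⟨χ, h⟩).apply_mem g
  rw [centralChar, mul_div_assoc, red_mul (natCast_mem _ _) (div_mem_Loc m (red_deg_ne h d)), red_natCast,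
    red_div' m (red_deg_ne h d)]

theorem sameBlock_of_cent {χ ψ : G → ℂ} (h : IsIrrCharacter G χ) (d : ¬ p ∣ charDegree χ) (h' : IsIrrCharacter G ψ)
    (d' : ¬ p ∣ charDegree ψ) (H : ∀ g : G, ¬ p ∣ C1(g).index → ∃ x z, g = x * z ∧ Commute x z ∧
      (∃ k, orderOf x = p ^ k) ∧ χ z / χ 1 = ψ z / ψ 1) : SameBlock M χ ψ := by
  refine (sameBlock_iff h h').2 fun g => ?_
  rw [red_cc h d, red_cc h' d']
  by_cases e : p ∣ C1(g).index
  · rw [(CharP.cast_eq_zero_iff (Res M) p _).2 e, zero_mul, zero_mul]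
  · obtain ⟨x, z, rfl, c, k, e⟩ := H g e
    rw [red_apply_mul h.isChar c k, red_apply_mul h'.isChar c k,
      ← red_div' ((LC.irr (S := Loc M) ⟨χ, h⟩).apply_mem z) (red_deg_ne h d),
      ← red_div' ((LC.irr (S := Loc M) ⟨ψ, h'⟩).apply_mem z) (red_deg_ne h' d'), e]

theorem isDefectGroup_sylow {B : Set (IrrCharacter G)} (hB : IsPBlock M B) {χ : IrrCharacter G} (h : χ ∈ B)
    (d : ¬ p ∣ charDegree χ.1) (P : Sylow p G) : IsDefectGroup p M B P := by
  rw [isDefectGroup_iff hB, isDef_iff_sylow_of_minNu hB]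
  · exact .of_sylow_top P
  · exact Nat.le_zero.1 ((minNu_le h).trans_eq (Nat.factorization_eq_zero_of_not_dvd d))

end

variable {F : Type*} [Field F] [Fintype F] [DecidableEq F] {p : ℕ} [hp : Fact p.Prime] [CharP F p]

local notation "q" => Fintype.card F

theorem not_dvd_add : ¬ p ∣ q + 1 := fun h => hp.out.ne_one (Nat.dvd_one.1 ((Nat.dvd_add_right (p_dvd_q p)).1 h))

theorem not_dvd_sub : ¬ p ∣ q - 1 := fun h => hp.out.ne_one (Nat.dvd_one.1 ((Nat.dvd_add_right h).1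
  (by rw [Nat.sub_add_cancel (by have := two_le_q (F := F); omega)]; exact p_dvd_q (F := F) p)))

theorem deg_q_iff {χ : S2 F → ℂ} (h : IsIrrCharacter _ χ) : χ 1 = q ↔ χ = St F := by
  refine ⟨fun e => ?_, fun e => e ▸ St_one⟩
  obtain ⟨r, hr⟩ := CharP.exists F
  have : Fact r.Prime := ⟨CharP.char_is_prime F r⟩
  rcases deg_cases h with k | k | k
  · exact k.2
  · exact absurd ((charDegree_eq e ▸ p_dvd_q r).trans k) (not_dvd_add (p := r))
  · exact absurd ((charDegree_eq e ▸ p_dvd_q r).trans k) (not_dvd_sub (p := r))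

theorem not_dvd_deg {χ : S2 F → ℂ} (h : IsIrrCharacter _ χ) (e : χ 1 ≠ q) : ¬ p ∣ charDegree χ := by
  rcases deg_cases h with k | k | k
  · exact absurd (k.2 ▸ St_one) e
  · exact fun d => not_dvd_add (d.trans k)
  · exact fun d => not_dvd_sub (d.trans k)

theorem St_neg_one : St F (-1) = St F 1 := by
  obtain ⟨ψ, -, e⟩ := exists_St (F := F)
  rw [← e, ← e, pr_neg]

theorem neg_one_cases {χ : S2 F → ℂ} (h : IsIrrCharacter _ χ) : χ (-1) = χ 1 ∨ χ (-1) = -χ 1 := by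
  obtain ⟨ω, e, k⟩ := h.exists_scalar_of_mem_center neg_one_mem_center
  have : ω ^ 2 = 1 := by
    obtain ⟨c, hc⟩ : orderOf (-1 : S2 F) ∣ 2 := orderOf_dvd_of_pow_eq_one (by simp)
    rw [hc, pow_mul, e, one_pow]
  have k1 := k 1
  rw [mul_one] at k1
  rcases mul_self_eq_one_iff.1 ((sq ω).symm.trans this) with rfl | rfl <;> simp [k1]

theorem decompS (h2 : p ≠ 2) {g : S2 F} (h : ¬ p ∣ C1(g).index) :
    ∃ x z, g = x * z ∧ (∃ k, orderOf x = p ^ k) ∧ (z = 1 ∨ z = -1) := by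
  rcases casesS g with k | k | ⟨x, k, k'⟩
  · exact ⟨1, g, (one_mul g).symm, ⟨0, by simp⟩, scS.1 k⟩
  · have : p ∣ Nat.card C1(g) * C1(g).index := by
      rw [card_mul_index, card_S2, mul_assoc]; exact (p_dvd_q p).mul_right _
    rcases k.card_cases with e | e <;> rw [e] at this
    · exact absurd ((hp.out.dvd_mul.1 this).resolve_right h) not_dvd_sub
    · exact absurd ((hp.out.dvd_mul.1 this).resolve_right h) not_dvd_add
  · have o : ∀ x : S2 F, x ^ p = 1 → ∃ k, orderOf x = p ^ k := fun x e => by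
      obtain ⟨k, -, e⟩ := (Nat.dvd_prime_pow hp.out).1 (pow_one p ▸ orderOf_dvd_of_pow_eq_one e)
      exact ⟨k, e⟩
    have : pr (g ^ p) = 1 := by rw [map_pow, ← jor_pr (p := p) k k', pow_orderOf_eq_one]
    rcases scS.1 (pr_eq_one.1 this) with e | e
    · exact ⟨g, 1, (mul_one g).symm, o g e, .inl rfl⟩
    · exact ⟨-g, -1, by simp, o _ (by rw [(hp.out.odd_of_ne_two h2).neg_pow, e, neg_neg]), .inr rfl⟩

variable {M : Ideal AlgInt} [M.IsMaximal] [CharP (Res M) p]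

theorem same_of_sign (h2 : p ≠ 2) {χ ψ : S2 F → ℂ} (h : IsIrrCharacter _ χ) (d : χ 1 ≠ q) (h' : IsIrrCharacter _ ψ)
    (d' : ψ 1 ≠ q) (e : χ (-1) / χ 1 = ψ (-1) / ψ 1) : SameBlock M χ ψ := by
  refine sameBlock_of_cent h (not_dvd_deg (p := p) h d) h' (not_dvd_deg h' d') fun g k => ?_
  obtain ⟨x, z, e1, o, rfl | rfl⟩ := decompS h2 k
  · exact ⟨x, 1, e1, .one_right x, o, by rw [div_self h.one_ne_zero, div_self h'.one_ne_zero]⟩
  · exact ⟨x, -1, e1, .neg_one_right x, o, e⟩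

theorem not_same_sign (h2 : p ≠ 2) {χ ψ : S2 F → ℂ} (h : IsIrrCharacter _ χ) (h' : IsIrrCharacter _ ψ)
    (e : χ (-1) = χ 1) (e' : ψ (-1) = -ψ 1) : ¬ SameBlock M χ ψ := fun k => by
  have := k (-1)
  rw [centralChar, centralChar, centralizer_eq_top_iff_subset.2 (by simpa using neg_one_mem_center), index_top, e, e',
    Nat.cast_one, one_mul, one_mul, neg_div, div_self h.one_ne_zero, div_self h'.one_ne_zero,
    (by norm_num : (1 : ℂ) - -1 = (2 : ℕ)), memLocalIdeal_natCast (p := p)] at this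
  exact h2 ((Nat.prime_dvd_prime_iff_eq hp.out Nat.prime_two).1 this)

theorem not_same_St (p : ℕ) [Fact p.Prime] [CharP F p] [CharP (Res M) p] {ψ : S2 F → ℂ} (h : IsIrrCharacter _ ψ) (d : ψ 1 ≠ q) : ¬ SameBlock M (St F) ψ := fun k => by
  have d' := not_dvd_deg (p := p) h d
  have u : utS 1 (1 : F) ∈ US F := mem_US.2 ⟨1, rfl⟩
  have := (sameBlock_iff St_irr h).1 k (utS 1 1)
  have o : ∃ k, orderOf (utS 1 (1 : F)) = p ^ k := by
    obtain ⟨k, e⟩ := IsPGroup.iff_orderOf.1 (pgroup_US (F := F) (p := p)) ⟨_, u⟩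
    exact ⟨k, by rw [← e, orderOf_mk]⟩
  have r := red_apply_mul (M := M) h.isChar (Commute.one_right _) o
  rw [mul_one] at r
  rw [red_cc h d', r, div_self (red_deg_ne h d'), mul_one, centralChar, St_jor (x := 1) (by simp [Ev, det_fin_two, trace_fin_two])
    (by simp [Sc]), mul_zero, zero_div, red_zero, eq_comm, CharP.cast_eq_zero_iff (Res M) p] at this
  have i : (US F).index = (q - 1) * (q + 1) := index_of (by rw [card_US, mul_assoc])
  have := this.trans (index_dvd_of_le (show US F ≤ _ from fun x hx => mem_centralizer_singleton_iff.2 (US_comm hx u)))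
  rw [i] at this
  exact ((Fact.out : p.Prime).dvd_mul.1 this).elim not_dvd_sub not_dvd_add

def blkA (F : Type*) [Field F] [Fintype F] : Set (IrrCharacter (S2 F)) := {χ | χ.1 1 = Fintype.card F}
def blkB (F : Type*) [Field F] [Fintype F] : Set (IrrCharacter (S2 F)) := {χ | χ.1 (-1) = χ.1 1 ∧ χ.1 1 ≠ Fintype.card F}
def blkC (F : Type*) [Field F] [Fintype F] : Set (IrrCharacter (S2 F)) := {χ | χ.1 (-1) = -χ.1 1}

theorem ne_q_of_C {χ : IrrCharacter (S2 F)} (h : χ ∈ blkC F) : χ.1 1 ≠ q := fun e => by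
  have e1 := (deg_q_iff χ.2).1 e
  have : χ.1 (-1) = -χ.1 1 := h
  rw [e1, St_neg_one, eq_neg_iff_add_eq_zero, add_self_eq_zero] at this
  exact St_irr.one_ne_zero this

theorem not_C_of {χ : IrrCharacter (S2 F)} (h : χ.1 (-1) = χ.1 1) : χ ∉ blkC F := fun e => by
  have : χ.1 (-1) = -χ.1 1 := e
  rw [h, eq_neg_iff_add_eq_zero, add_self_eq_zero] at this
  exact χ.2.one_ne_zero this

theorem blockOf_A (p : ℕ) [Fact p.Prime] [CharP F p] [CharP (Res M) p] {χ : IrrCharacter (S2 F)} (h : χ ∈ blkA F) : blockOf M χ.1 = blkA F := by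
  have e := (deg_q_iff χ.2).1 h
  refine Set.ext fun ψ => ⟨fun k => by_contra fun n => not_same_St (M := M) p ψ.2 n (e ▸ k), fun k => ?_⟩
  have : ψ.1 = χ.1 := ((deg_q_iff ψ.2).1 k).trans e.symm
  exact (this ▸ sameBlock_refl ψ.2 : SameBlock M χ.1 ψ.1)

theorem ne_q_of_same (p : ℕ) [Fact p.Prime] [CharP F p] [CharP (Res M) p] {χ ψ : IrrCharacter (S2 F)} (h : χ.1 1 ≠ q) (k : SameBlock M χ.1 ψ.1) : ψ.1 1 ≠ q := fun e =>
  not_same_St (M := M) p χ.2 h ((deg_q_iff ψ.2).1 e ▸ sameBlock_symm χ.2 ψ.2 k)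

theorem blockOf_B (h2 : p ≠ 2) {χ : IrrCharacter (S2 F)} (h : χ ∈ blkB F) : blockOf M χ.1 = blkB F :=
  Set.ext fun ψ => ⟨fun k => ⟨(neg_one_cases ψ.2).resolve_right fun n => not_same_sign h2 χ.2 ψ.2 h.1 n k,
    ne_q_of_same p h.2 k⟩, fun k => same_of_sign h2 χ.2 h.2 ψ.2 k.2
      (by rw [h.1, k.1, div_self χ.2.one_ne_zero, div_self ψ.2.one_ne_zero])⟩

theorem blockOf_C (h2 : p ≠ 2) {χ : IrrCharacter (S2 F)} (h : χ ∈ blkC F) : blockOf M χ.1 = blkC F :=
  Set.ext fun ψ => ⟨fun k => (neg_one_cases ψ.2).resolve_left fun n =>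
    not_same_sign h2 ψ.2 χ.2 n h (sameBlock_symm χ.2 ψ.2 k), fun k => same_of_sign h2 χ.2 (ne_q_of_C h) ψ.2 (ne_q_of_C k)
      (by rw [show χ.1 (-1) = _ from h, show ψ.1 (-1) = _ from k, neg_div, neg_div, div_self χ.2.one_ne_zero,
        div_self ψ.2.one_ne_zero])⟩

theorem one_mem_B : (⟨_, one_irr⟩ : IrrCharacter (S2 F)) ∈ blkB F :=
  ⟨rfl, by have := two_le_q (F := F); show (1 : ℂ) ≠ _; exact_mod_cast (by omega : 1 ≠ q)⟩

theorem exists_mem_C (h2 : p ≠ 2) : ∃ χ, χ ∈ blkC F := by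
  by_contra n
  have : (-1 : S2 F) = 1 := eq_one_of_forall_irr fun χ h => (neg_one_cases h).resolve_right fun e => n ⟨⟨χ, h⟩, e⟩
  have e : (-1 : F) = 1 := by simpa using congrArg (fun g : S2 F => g.val 0 0) this
  have : ((2 : ℕ) : F) = 0 := by push_cast; linear_combination -e
  exact h2 ((Nat.prime_dvd_prime_iff_eq hp.out Nat.prime_two).1 ((CharP.cast_eq_zero_iff F p 2).1 this))

theorem isPBlock_iff (h2 : p ≠ 2) (B : Set (IrrCharacter (S2 F))) :
    IsPBlock M B ↔ B = blkA F ∨ B = blkB F ∨ B = blkC F := by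
  refine ⟨?_, ?_⟩
  · rintro ⟨χ, rfl⟩
    by_cases e : χ.1 1 = q
    · exact .inl (blockOf_A p e)
    · exact .inr ((neg_one_cases χ.2).imp (fun k => blockOf_B h2 ⟨k, e⟩) (blockOf_C h2))
  · obtain ⟨χ, h⟩ := exists_mem_C (F := F) h2
    rintro (rfl | rfl | rfl)
    exacts [⟨⟨_, St_irr⟩, (blockOf_A p St_one).symm⟩, ⟨_, (blockOf_B h2 one_mem_B).symm⟩,
      ⟨χ, (blockOf_C h2 h).symm⟩]

theorem card_blocks (h2 : p ≠ 2) : Nat.card {B : Set (IrrCharacter (S2 F)) // IsPBlock M B} = 3 := by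
  obtain ⟨χ, h⟩ := exists_mem_C (F := F) h2
  refine Set.ncard_eq_three.2 ⟨blkA F, blkB F, blkC F, fun e => ?_, fun e => ?_, fun e => ?_,
    Set.ext fun B => isPBlock_iff h2 B⟩
  · exact one_mem_B.2 (e ▸ one_mem_B : _ ∈ blkA F)
  · exact ne_q_of_C h (e ▸ h : _ ∈ blkA F)
  · exact not_C_of (e ▸ h : _ ∈ blkB F).1 h

theorem defect_BC (h2 : p ≠ 2) (P : Sylow p (S2 F)) : IsDefectGroup p M (blkB F) P ∧ IsDefectGroup p M (blkC F) P := by
  obtain ⟨χ, h⟩ := exists_mem_C (F := F) h2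
  exact ⟨isDefectGroup_sylow ((isPBlock_iff h2 _).2 (.inr (.inl rfl))) one_mem_B (not_dvd_deg one_irr one_mem_B.2) P,
    isDefectGroup_sylow ((isPBlock_iff h2 _).2 (.inr (.inr rfl))) h (not_dvd_deg χ.2 (ne_q_of_C h)) P⟩

end CfsgH1.L2
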