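import Cfsg.Agent.H8.Def2c
import Cfsg.Agent.H8.Small3
import Cfsg.Agent.S0992
import Cfsg.Agent.FT.PF14c

/-! Groups of order dividing `175560`. -/

set_option autoImplicit false
set_option linter.style.haveILetI false
set_option linter.unusedSectionVars false

namespace CfsgH1.J1o

open Subgroup Cfsg Cfsg.Agent CfsgH8 CfsgH8.O1

local notation "C1(" x ")" => Subgroup.centralizer (Singleton.singleton x : Set _)
local notation "N(" x ")" => Subgroup.normalizer (SetLike.coe x)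

section
variable {G : Type*} [Group G] [Finite G] {p : ℕ} [hp : Fact p.Prime]

theorem exists_syl (h : ¬ p ^ 2 ∣ Nat.card G) {x : G} (hx : orderOf x = p) : ∃ P : Sylow p G, P.1 = zpowers x := by
  obtain ⟨P, hP⟩ := (IsPGroup.of_card (p := p) (n := 1) (G := zpowers x) (by simp [hx])).exists_le_sylow
  obtain ⟨k, hk⟩ := P.2.exists_card_eq
  refine ⟨P, (eq_of_le_of_card_ge hP ?_).symm⟩
  rw [hk, Nat.card_zpowers, hx]
  have : k < 2 := by_contra fun n => h ((pow_dvd_pow p (by omega)).trans (hk ▸ card_subgroup_dvd_card P.1))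
  calc p ^ k ≤ p ^ 1 := Nat.pow_le_pow_right hp.out.pos (by omega)
    _ = p := pow_one p

theorem exists_conj (h : ¬ p ^ 2 ∣ Nat.card G) {x y : G} (hx : orderOf x = p) (hy : orderOf y = p) :
    ∃ g, g * y * g⁻¹ ∈ zpowers x := by
  obtain ⟨P, hP⟩ := exists_syl h hx
  obtain ⟨Q, hQ⟩ := exists_syl h hy
  obtain ⟨g, e⟩ := MulAction.exists_smul_eq G Q P
  refine ⟨g, hP ▸ e ▸ ?_⟩
  rw [Sylow.coe_subgroup_smul]
  exact smul_mem_pointwise_smul y (MulAut.conj g) Q.1 (hQ ▸ mem_zpowers y)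

theorem count_le [Fintype G] (P : Sylow p G) [O1 P] (W : Set (CP P)) (hW : ∀ w ∈ W, p ∣ orderOf (w : G)) (T : Set G)
    (hT : ∀ w ∈ W, ∀ g : G, g * w * g⁻¹ ∈ T) : (NP P).index * W.ncard ≤ T.ncard := by
  rw [← Nat.card_coe_set_eq, ← Nat.card_coe_set_eq, index, ← Nat.card_prod]
  refine Nat.card_le_card_of_injective (fun a => ⟨_, hT a.2.1 a.2.2 a.1.out⟩) ?_
  rintro ⟨a, w, hw⟩ ⟨b, v, hv⟩ e
  have e : a.out * w * a.out⁻¹ = b.out * v * b.out⁻¹ := congrArg Subtype.val e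
  have : b.out⁻¹ * a.out ∈ NP P := mem_NP_of_conj (hW w hw) (by
    rw [show b.out⁻¹ * a.out * w * (b.out⁻¹ * a.out)⁻¹ = b.out⁻¹ * (a.out * w * a.out⁻¹) * b.out by group, e]
    simp [mul_assoc])
  obtain rfl : b = a := by rw [← a.out_eq', ← b.out_eq']; exact QuotientGroup.eq.2 this
  simpa using e

end

/-- the local data at an odd prime -/
structure Dat (G : Type*) [Group G] (r n e c : ℕ) : Prop where
  cen : ∀ x : G, orderOf x = r → Nat.card C1(x) = r * c ∧ N(zpowers x).index = n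
  cA : n * (r - 1) * c ≤ {g : G | r ∣ orderOf g}.ncard
  cB : n * (r - 1) * 1 ≤ {g : G | orderOf g = r}.ncard
  ord : ∃ g : G, e ∣ orderOf g
  opt : r ∣ Nat.card G ∧ Nat.card G = r * e * c * n ∧ n % r = 1 ∧ 2 * Nat.card G ∣ n.factorial ∧ 1 < e ∧ e ∣ r - 1 ∨
    ¬ r ∣ Nat.card G ∧ n = 0 ∧ c = 1

variable {G : Type*} [Group G] [Finite G]

theorem exists_dat (S : NAS G) {p : ℕ} (hp : p.Prime) (h : ¬ p ^ 2 ∣ Nat.card G) : ∃ n e c, Dat G p n e c := by
  by_cases d : p ∣ Nat.card G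
  swap
  · exact ⟨0, 1, 1, fun x hx => (d (hx ▸ orderOf_dvd_natCard x)).elim, by simp, by simp, ⟨1, by simp⟩, .inr ⟨d, rfl, rfl⟩⟩
  have : Fact p.Prime := ⟨hp⟩
  have := Fintype.ofFinite G
  obtain ⟨k, hk⟩ := id d
  have nk : ¬ p ∣ k := fun e => h (by rw [hk, sq]; exact mul_dvd_mul_left p e)
  obtain ⟨x, e, c, hx, h1, h2, h3, h4, h5, h6⟩ := S.sylow1 hk nk
  obtain ⟨-, h7, -, h8, -⟩ := S.sylow (a := 1) (by rw [hk, pow_one]) nk one_ne_zero
  obtain ⟨P, hP⟩ := exists_syl h hx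
  have : O1 P := ⟨by rw [hP, Nat.card_zpowers, hx]⟩
  have x1 : x ≠ 1 := by rintro rfl; exact hp.ne_one (hx.symm.trans orderOf_one)
  have hC : C1(x) = CP P := cent (hP ▸ mem_zpowers x) x1
  have hN : (NP P).index = Nat.card (Sylow p G) := by rw [h1, NP, hP]
  refine ⟨Nat.card (Sylow p G), e, c, fun y hy => ⟨?_, ?_⟩, ?_, ?_, ?_, .inl ⟨d, by rw [hk, h4]; ring, h7, h8, h6, h5⟩⟩
  · obtain ⟨g, hg⟩ := exists_conj h hx hy
    rw [← card_cent_conj (isConj_iff.2 ⟨g, rfl⟩), cent (P := P) (hP ▸ hg) (by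
      rintro e; rw [conj_eq_one_iff] at e; exact hp.ne_one (hy.symm.trans (e ▸ orderOf_one))), ← hC, h3]
  · obtain ⟨Q, hQ⟩ := exists_syl h hy
    rw [sylow_idx Q, hQ]
  · have := count_le P ((rt P).ker : Set (CP P))ᶜ (fun w hw => by_contra fun n => hw (rt_eq_one.2 n))
      {g : G | p ∣ orderOf g} fun w hw g => (by_contra fun n => hw (rt_eq_one.2 n) : p ∣ _).trans
        ((MulAut.conj g).orderOf_eq (w : G)).symm.dvd
    have i : (rt P).ker.index = p := by
      rw [index_ker, MonoidHom.range_eq_top.2 fun y => ⟨⟨y, le_C P y.2⟩, rt_coe y.2⟩, card_top, O1.card]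
    have j := (rt P).ker.card_mul_index
    rw [hC] at h3
    rw [i, h3, mul_comm, Nat.mul_right_inj hp.ne_zero] at j
    have l := Set.ncard_add_ncard_compl ((rt P).ker : Set (CP P))
    rw [← Nat.card_coe_set_eq (_ : Set (CP P)), SetLike.coe_sort_coe, j, h3] at l
    rw [hN] at this
    rwa [mul_assoc, Nat.sub_one_mul, ← l, Nat.add_sub_cancel_left]
  · have := count_le P ((P.1.subgroupOf (CP P) : Set (CP P)) \ {1}) (fun w hw => ?_) {g : G | orderOf g = p}
      (fun w hw g => ?_)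
    · rwa [hN, Set.ncard_sdiff_singleton_of_mem (one_mem _), ← Nat.card_coe_set_eq, SetLike.coe_sort_coe,
        Nat.card_congr (subgroupOfEquivOfLe (le_C P)).toEquiv, O1.card, ← mul_one (_ * _)] at this
    · rw [← Nat.card_zpowers, zp (y := (w : G)) hw.1 (by simpa using hw.2), O1.card]
    · refine ((MulAut.conj g).orderOf_eq (w : G)).trans ?_
      rw [← Nat.card_zpowers, zp (y := (w : G)) hw.1 (by simpa using hw.2), O1.card]
  · obtain ⟨⟨_, g, rfl⟩, hg⟩ := IsCyclic.exists_ofOrder_eq_natCard (α := P.1.normalizerMonoidHom.range)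
    refine ⟨g, ?_⟩
    rw [← index_ker, normalizerMonoidHom_ker, ← orderOf_coe] at hg
    rw [← h2, hC, ← hP, relIndex, ← hg, orderOf_coe g]
    exact orderOf_map_dvd _ _

theorem Dat.comm {r s n e c : ℕ} (h : Dat G r n e c) (hr : r.Prime) (hs : s.Prime) (k : s ∣ c) : ∃ x y : G, orderOf x = r ∧ orderOf y = s ∧ y * x = x * y := by
  have : Fact r.Prime := ⟨hr⟩
  have : Fact s.Prime := ⟨hs⟩
  rcases h.opt with o | ⟨-, -, rfl⟩
  · obtain ⟨x, hx⟩ := exists_prime_orderOf_dvd_card' r o.1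
    obtain ⟨y, hy⟩ := exists_prime_orderOf_dvd_card' (G := C1(x)) s ((h.cen x hx).1 ▸ k.mul_left r)
    exact ⟨x, y, hx, by simpa using hy, mem_centralizer_singleton_iff.1 y.2⟩
  · exact absurd (Nat.dvd_one.1 k) hs.ne_one

theorem Dat.dvd {r n e c : ℕ} (h : Dat G r n e c) {x y : G} (hx : orderOf x = r) (k : y * x = x * y) {s : ℕ}
    (hs : s.Coprime r) (hy : s ∣ orderOf y) : s ∣ c :=
  hs.dvd_of_dvd_mul_left ((h.cen x hx).1 ▸ hy.trans (orderOf_dvd_natCard
    (⟨y, mem_centralizer_singleton_iff.2 k⟩ : C1(x)) |> (orderOf_mk _ _).symm.dvd.trans))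

theorem Dat.symm {r s n e c n' e' c' : ℕ} (h : Dat G r n e c) (h' : Dat G s n' e' c') (hr : r.Prime) (hs : s.Prime)
    (rs : r ≠ s) : s ∣ c ↔ r ∣ c' := by
  refine ⟨fun k => ?_, fun k => ?_⟩
  · obtain ⟨x, y, hx, hy, e⟩ := h.comm hr hs k
    exact h'.dvd hy e.symm ((Nat.coprime_primes hr hs).2 rs) hx.symm.dvd
  · obtain ⟨x, y, hx, hy, e⟩ := h'.comm hs hr k
    exact h.dvd hy e.symm ((Nat.coprime_primes hs hr).2 rs.symm) hx.symm.dvd

def TT (G : Type*) [Group G] (r : ℕ) (b : Bool) : Set G := if b then {g | r ∣ orderOf g} else {g | orderOf g = r}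

theorem Dat.le_TT {r n e c : ℕ} (h : Dat G r n e c) (b : Bool) : n * (r - 1) * (if b then c else 1) ≤ (TT G r b).ncard := by
  cases b; exacts [h.cB, h.cA]

theorem Dat.disj {r s n e c : ℕ} (h : Dat G r n e c) (hr : r.Prime) (hs : s.Prime) (rs : r ≠ s) {a b : Bool}
    (k : ¬ (a ∧ b ∧ s ∣ c)) : Disjoint (TT G r a) (TT G s b) := by
  refine Set.disjoint_left.2 fun g h1 h2 => ?_
  cases a <;> cases b <;> simp [TT] at h1 h2 k
  · exact rs (h1.symm.trans h2)
  · exact rs ((Nat.prime_dvd_prime_iff_eq hs hr).1 (h1 ▸ h2)).symm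
  · exact rs ((Nat.prime_dvd_prime_iff_eq hr hs).1 (h2 ▸ h1))
  · exact k (h.dvd (orderOf_pow_orderOf_div (orderOf_pos g).ne' h1) (Commute.self_pow g _).eq
      ((Nat.coprime_primes hs hr).2 rs.symm) h2)

def opts (N r : ℕ) : List (ℕ × ℕ) :=
  if N % r = 0 then ((List.range 771).filter (N % · = 0)).flatMap fun c => ((List.range r).filter fun e =>
    1 < e ∧ (r - 1) % e = 0 ∧ N % (r * e * c) = 0 ∧ N / (r * e * c) % r = 1 ∧ 19 ≤ N / (r * e * c) ∧
      (e = 4 → N % 8 = 0)).map fun e => (N / (r * e * c), c) else [(0, 1)]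

set_option synthInstance.maxSize 100000 in
set_option synthInstance.maxHeartbeats 400000 in
theorem fin_check : ∀ m ∈ (List.range 4621).filter fun m => 9240 % m = 0 ∧ m % 4 = 0 ∧ (m % 8 = 0 ∨ m % 3 = 0) ∧
    m ≠ 40 ∧ m ≠ 120, ∀ e ∈ opts (19 * m) 19,
    ∀ a ∈ opts (19 * m) 3, (19 ∣ a.2 ↔ 3 ∣ e.2) → (3 ∣ e.2 → e.1 ∣ a.1) →
    ∀ b ∈ opts (19 * m) 5, (19 ∣ b.2 ↔ 5 ∣ e.2) → (5 ∣ e.2 → e.1 ∣ b.1) → (5 ∣ a.2 ↔ 3 ∣ b.2) →
    ∀ c ∈ opts (19 * m) 7, (19 ∣ c.2 ↔ 7 ∣ e.2) → (7 ∣ e.2 → e.1 ∣ c.1) → (7 ∣ a.2 ↔ 3 ∣ c.2) → (7 ∣ b.2 ↔ 5 ∣ c.2) →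
    ∀ d ∈ opts (19 * m) 11, (19 ∣ d.2 ↔ 11 ∣ e.2) → (11 ∣ e.2 → e.1 ∣ d.1) → (11 ∣ a.2 ↔ 3 ∣ d.2) →
      (11 ∣ b.2 ↔ 5 ∣ d.2) → (11 ∣ c.2 ↔ 7 ∣ d.2) →
    ∃ fa fb fc fd fe : Bool, (¬ (fa ∧ fb ∧ 5 ∣ a.2) ∧ ¬ (fa ∧ fc ∧ 7 ∣ a.2) ∧ ¬ (fa ∧ fd ∧ 11 ∣ a.2) ∧
      ¬ (fa ∧ fe ∧ 19 ∣ a.2) ∧ ¬ (fb ∧ fc ∧ 7 ∣ b.2) ∧ ¬ (fb ∧ fd ∧ 11 ∣ b.2) ∧ ¬ (fb ∧ fe ∧ 19 ∣ b.2) ∧
      ¬ (fc ∧ fd ∧ 11 ∣ c.2) ∧ ¬ (fc ∧ fe ∧ 19 ∣ c.2) ∧ ¬ (fd ∧ fe ∧ 19 ∣ d.2)) ∧
      19 * m < a.1 * (3 - 1) * (if fa then a.2 else 1) + b.1 * (5 - 1) * (if fb then b.2 else 1) +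
        c.1 * (7 - 1) * (if fc then c.2 else 1) + d.1 * (11 - 1) * (if fd then d.2 else 1) +
        e.1 * (19 - 1) * (if fe then e.2 else 1) := by
  decide +kernel

theorem Dat.mem {r n e c : ℕ} (h : Dat G r n e c) (hr : 3 ≤ r) (h19 : 19 ∣ Nat.card G) (hN : Nat.card G ≤ 87780)
    (h4 : (∃ g : G, 4 ∣ orderOf g) → Nat.card G % 8 = 0) : (n, c) ∈ opts (Nat.card G) r := by
  rcases h.opt with ⟨h1, h2, h3, h5, h6, h7⟩ | ⟨h1, rfl, rfl⟩
  · have n19 : 19 ≤ n := (Nat.Prime.dvd_factorial (by norm_num)).1 (h19.trans ((dvd_mul_left _ 2).trans h5))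
    have c0 : 0 < c := Nat.pos_of_ne_zero (by rintro rfl; simp [Nat.card_pos.ne'] at h2)
    have q : Nat.card G / (r * e * c) = n := by rw [h2]; exact Nat.mul_div_cancel_left _ (by positivity)
    have : 3 * 2 * c * 19 ≤ r * e * c * n := by gcongr; omega
    have := Nat.le_of_dvd (by omega) h7
    simp only [opts, Nat.mod_eq_zero_of_dvd h1, if_true, List.mem_flatMap, List.mem_filter, List.mem_range, List.mem_map,
      decide_eq_true_eq]
    exact ⟨c, ⟨by omega, Nat.mod_eq_zero_of_dvd ⟨r * e * n, by rw [h2]; ring⟩⟩, e, ⟨by omega, h6,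
      Nat.mod_eq_zero_of_dvd h7, Nat.mod_eq_zero_of_dvd ⟨n, h2⟩, q ▸ h3, q ▸ n19, fun k => h4 (k ▸ h.ord)⟩, by rw [q]⟩
  · simp [opts, ← Nat.dvd_iff_mod_eq_zero, h1]

/-- a unique subgroup of order `19` -/
def U (G : Type*) [Group G] : Prop := ∀ x y : G, orderOf x = 19 → orderOf y = 19 → y ∈ zpowers x

theorem U.mem {H : Subgroup G} (h : U H) {x y : G} (hx : orderOf x = 19) (hy : orderOf y = 19) (k : x ∈ H) (k' : y ∈ H) :
    y ∈ zpowers x := by
  obtain ⟨n, e⟩ := h ⟨x, k⟩ ⟨y, k'⟩ (by simpa) (by simpa)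
  exact ⟨n, congrArg Subtype.val e⟩

theorem U.le {H : Subgroup G} (h : U H) {x : G} (hx : orderOf x = 19) (k : x ∈ H) : H ≤ N(zpowers x) := fun g hg =>
  mem_norm_of_conj (p := 19) (by norm_num) (by simp [hx]) (mem_zpowers x) (by rintro rfl; simp at hx)
    (h.mem hx (((MulAut.conj g).orderOf_eq x).trans hx) k (mul_mem (mul_mem hg k) (inv_mem hg)))

theorem not_nas (S : NAS G) (hd : Nat.card G ∣ 175560) (hne : Nat.card G ≠ 175560) (h19 : 19 ∣ Nat.card G)
    (ih : ∀ H : Subgroup G, H ≠ ⊤ → U H) : False := by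
  have nc : ¬ IsMulCommutative G := fun h => by
    obtain ⟨a, b, e⟩ := S.na
    exact e (h.is_comm.comm a b)
  have := S.simple
  obtain ⟨m, hm⟩ := id h19
  have m1 : m ∣ 9240 := Nat.dvd_of_mul_dvd_mul_left (by norm_num : 0 < 19) (hm ▸ hd)
  have m2 : m ≤ 4620 := by
    obtain ⟨k, e⟩ := m1
    rcases k with _ | _ | k
    · omega
    · omega
    · nlinarith
  have sq : ∀ r ∈ [3, 5, 7, 11, 19], ¬ r ^ 2 ∣ Nat.card G := fun r hr k => absurd (k.trans hd) (by clear k; revert r; decide)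
  have two : Fact (Nat.Prime 2) := ⟨Nat.prime_two⟩
  have ev : Even (Nat.card G) := Nat.not_odd_iff_even.1 fun o => S.not_solv (CfsgPF.feit_thompson o)
  have kl := fun h => S0992.result nc ev h
  obtain ⟨T⟩ : Nonempty (Sylow 2 G) := inferInstance
  have h4 : (∃ g : G, 4 ∣ orderOf g) → Nat.card G % 8 = 0 := fun ⟨g, hg⟩ => by_contra fun n => by
    have o := orderOf_pow_orderOf_div (orderOf_pos g).ne' hg
    obtain ⟨P, hP⟩ := (IsPGroup.of_card (p := 2) (n := 2) (G := zpowers (g ^ (orderOf g / 4))) (by simp [o])).exists_le_sylow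
    have := Monoid.order_dvd_exponent (⟨_, hP (mem_zpowers _)⟩ : P.1)
    rw [(kl (by omega) P).1.exponent_two, orderOf_mk, o] at this
    omega
  have m3 : m % 4 = 0 ∧ (m % 8 = 0 ∨ m % 3 = 0) := by
    by_cases h8 : 8 ∣ Nat.card G
    · omega
    · have a := card_subgroup_dvd_card T.1
      have b : 3 ∣ Nat.card G := (kl h8 T).2 ▸ (relIndex_dvd_card _ _).trans (card_subgroup_dvd_card _)
      rw [(kl h8 T).1.card_four] at a
      omega
  have m4 : m ≠ 40 := by rintro rfl; simpa using (NAS.psl_of_card.{_, 0} S (p := 19) (d := 2) (by norm_num) hm (by norm_num)).1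
  have m5 : m ≠ 120 := by rintro rfl; simpa using (NAS.psl_of_card.{_, 0} S (p := 19) (d := 6) (by norm_num) hm (by norm_num)).1
  obtain ⟨n3, e3, c3, D3⟩ := exists_dat S (by norm_num) (sq 3 (by simp))
  obtain ⟨n5, e5, c5, D5⟩ := exists_dat S (by norm_num) (sq 5 (by simp))
  obtain ⟨n7, e7, c7, D7⟩ := exists_dat S (by norm_num) (sq 7 (by simp))
  obtain ⟨n11, e11, c11, D11⟩ := exists_dat S (by norm_num) (sq 11 (by simp))
  obtain ⟨n19, e19, c19, D19⟩ := exists_dat S (by norm_num) (sq 19 (by simp))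
  have mem : ∀ {r n e c : ℕ}, Dat G r n e c → 3 ≤ r → (n, c) ∈ opts (19 * m) r := fun D k =>
    hm ▸ D.mem k h19 (by omega) h4
  have nd : ∀ {r n e c : ℕ}, Dat G r n e c → r.Prime → r ≠ 19 → r ^ 2 < 19 * m → r ∣ c19 → n19 ∣ n := fun {r n e c} D hr k l d => by
    obtain ⟨x, y, hx, hy, e⟩ := D19.comm (by norm_num) hr d
    have y1 : y ≠ 1 := by rintro rfl; exact hr.ne_one (hy.symm.trans orderOf_one)
    rw [← (D19.cen x hx).2, ← (D.cen y hy).2]
    refine index_dvd_of_le ((ih _ (S.norm_ne_top (by simpa using y1) fun e => ?_)).le hx (centralizer_le_normalizer _ ?_))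
    · have := card_top (G := G) ▸ e ▸ Nat.card_zpowers y
      nlinarith [hr.two_le]
    · rw [cent_zpowers]; exact mem_centralizer_singleton_iff.2 e.symm
  have m0 : 8 ≤ m := by have := Nat.card_pos (α := G); omega
  obtain ⟨fa, fb, fc, fd, fe, ⟨k1, k2, k3, k4, k5, k6, k7, k8, k9, k10⟩, lt⟩ := fin_check m (by simp; omega) _
    (mem D19 (by norm_num)) _ (mem D3 (by norm_num)) (D3.symm D19 (by norm_num) (by norm_num) (by norm_num))
    (nd D3 (by norm_num) (by norm_num) (by omega)) _ (mem D5 (by norm_num))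
    (D5.symm D19 (by norm_num) (by norm_num) (by norm_num)) (nd D5 (by norm_num) (by norm_num) (by omega))
    (D3.symm D5 (by norm_num) (by norm_num) (by norm_num)) _ (mem D7 (by norm_num))
    (D7.symm D19 (by norm_num) (by norm_num) (by norm_num)) (nd D7 (by norm_num) (by norm_num) (by omega))
    (D3.symm D7 (by norm_num) (by norm_num) (by norm_num)) (D5.symm D7 (by norm_num) (by norm_num) (by norm_num)) _
    (mem D11 (by norm_num)) (D11.symm D19 (by norm_num) (by norm_num) (by norm_num))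
    (nd D11 (by norm_num) (by norm_num) (by omega)) (D3.symm D11 (by norm_num) (by norm_num) (by norm_num))
    (D5.symm D11 (by norm_num) (by norm_num) (by norm_num)) (D7.symm D11 (by norm_num) (by norm_num) (by norm_num))
  have := Set.ncard_le_card (TT G 3 fa ∪ TT G 5 fb ∪ TT G 7 fc ∪ TT G 11 fd ∪ TT G 19 fe)
  rw [Set.ncard_union_eq, Set.ncard_union_eq, Set.ncard_union_eq, Set.ncard_union_eq] at this
  · have := D3.le_TT fa; have := D5.le_TT fb; have := D7.le_TT fc; have := D11.le_TT fd; have := D19.le_TT fe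
    dsimp only at lt
    omega
  all_goals try simp only [Set.disjoint_union_left, and_assoc]
  exacts [D3.disj (by norm_num) (by norm_num) (by norm_num) k1,
    ⟨D3.disj (by norm_num) (by norm_num) (by norm_num) k2, D5.disj (by norm_num) (by norm_num) (by norm_num) k5⟩,
    ⟨D3.disj (by norm_num) (by norm_num) (by norm_num) k3, D5.disj (by norm_num) (by norm_num) (by norm_num) k6,
      D7.disj (by norm_num) (by norm_num) (by norm_num) k8⟩,
    ⟨D3.disj (by norm_num) (by norm_num) (by norm_num) k4, D5.disj (by norm_num) (by norm_num) (by norm_num) k7,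
      D7.disj (by norm_num) (by norm_num) (by norm_num) k9, D11.disj (by norm_num) (by norm_num) (by norm_num) k10⟩]

theorem sq19 (hd : Nat.card G ∣ 175560) : ¬ 19 ^ 2 ∣ Nat.card G := fun k => absurd (k.trans hd) (by norm_num)

theorem main (n : ℕ) : ∀ (G : Type*) [Group G] [Finite G], Nat.card G = n → n ∣ 175560 →
    (n ≠ 175560 ∨ ¬ IsSimpleGroup G) → U G := by
  induction n using Nat.strong_induction_on with | _ n ih => ?_
  rintro G _ _ rfl hd hs x y hx hy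
  have : Fact (Nat.Prime 19) := ⟨by norm_num⟩
  have le := Nat.le_of_dvd (by norm_num) hd
  have sub : ∀ H : Subgroup G, H ≠ ⊤ → U H := fun H h => by
    have : Nat.card H < Nat.card G := (card_le_card_group H).lt_of_ne fun e => h (eq_top_of_card_eq H e)
    exact ih _ this H rfl ((card_subgroup_dvd_card H).trans hd) (.inl (by omega))
  have h19 : 19 ∣ Nat.card G := hx ▸ orderOf_dvd_natCard x
  have x1 : x ≠ 1 := by rintro rfl; simp at hx
  have : Nontrivial G := ⟨⟨x, 1, x1⟩⟩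
  by_cases si : IsSimpleGroup G
  · by_cases pr : (Nat.card G).Prime
    · rw [zpowers_eq_top_of_prime_card (hp := ⟨pr⟩) rfl x1]; trivial
    · exact (not_nas (.of_card pr) hd (hs.resolve_right (· si)) h19 sub).elim
  obtain ⟨K, hK, K0, K1⟩ : ∃ K : Subgroup G, K.Normal ∧ K ≠ ⊥ ∧ K ≠ ⊤ := by
    by_contra! h
    exact si ⟨fun K k => or_iff_not_imp_left.2 (h K k)⟩
  have B : ∀ K : Subgroup G, K.Normal → K ≠ ⊥ → zpowers x ⊔ K ≠ ⊤ → ∀ y, orderOf y = 19 → y ∈ zpowers x :=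
      fun K hK K0 K1 y hy => by
    refine (sub _ K1).mem hx hy (mem_sup_left (mem_zpowers x)) ?_
    have o : ∀ z : G, orderOf z = 19 → z ∉ K → orderOf (z : G ⧸ K) = 19 := fun z hz k =>
      ((Nat.dvd_prime Fact.out).1 (hz ▸ orderOf_map_dvd (QuotientGroup.mk' K) z)).resolve_left fun e =>
        k ((QuotientGroup.eq_one_iff z).1 (orderOf_eq_one_iff.1 e))
    by_cases ky : y ∈ K
    · exact mem_sup_right ky
    obtain ⟨g, hg⟩ := exists_conj (sq19 hd) hy hx
    have kx : x ∉ K := fun k => ky ((zpowers_eq_of_prime (p := 19) Fact.out (by simp [hy]) hg (by simpa using x1) ▸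
      zpowers_le.2 (hK.conj_mem x k g) : zpowers y ≤ K) (mem_zpowers y))
    have lt : K.index < Nat.card G := by
      have := K.index_mul_card
      have := K.one_lt_card_iff_ne_bot.2 K0
      have := K.index_ne_zero_of_finite
      nlinarith [Nat.pos_of_ne_zero this]
    obtain ⟨k, e⟩ := ih _ lt (G ⧸ K) rfl (K.index_dvd_card.trans hd) (.inl (by omega)) _ _ (o x hx kx) (o y hy ky)
    have : (x ^ k)⁻¹ * y ∈ K := QuotientGroup.eq.1 e
    simpa using mul_mem (mem_sup_left (zpow_mem_zpowers x k)) (mem_sup_right this : _ ∈ zpowers x ⊔ K)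
  by_cases t : zpowers x ⊔ K = ⊤
  swap
  · exact B K hK K0 t y hy
  have iK : K.index = 19 := by
    have : K.index ∣ 19 := by
      rw [← relIndex_top_right, ← t, relIndex_sup_right, ← hx, ← Nat.card_zpowers]; exact relIndex_dvd_card _ _
    exact ((Nat.dvd_prime Fact.out).1 this).resolve_left fun e => K1 (index_eq_one.1 e)
  obtain ⟨P, hP⟩ := exists_syl (sq19 hd) hx
  have idx : ∀ z : G, orderOf z = 19 → N(zpowers z).index = Nat.card (Sylow 19 G) := fun z hz => by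
    obtain ⟨Q, hQ⟩ := exists_syl (sq19 hd) hz
    rw [sylow_idx Q, hQ]
  suffices h : Nat.card (Sylow 19 G) = 1 by
    obtain ⟨Q, hQ⟩ := exists_syl (sq19 hd) hy
    rw [← hP, (Nat.card_eq_one_iff_unique.1 h).1.elim P Q, hQ]; exact mem_zpowers y
  have md := card_sylow_modEq_one 19 G
  by_contra ne
  obtain ⟨r, hr, dr⟩ := Nat.exists_prime_and_dvd ne
  have : Fact r.Prime := ⟨hr⟩
  have r19 : r ≠ 19 := by rintro rfl; exact not_dvd_card_sylow 19 G dr
  obtain ⟨R⟩ : Nonempty (Sylow r G) := inferInstance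
  have dG : r ∣ Nat.card G := dr.trans (idx x hx ▸ index_dvd_card _)
  have RK : R.1 ≤ K := by
    rw [← relIndex_eq_one]
    obtain ⟨k, hk⟩ := R.2.exists_card_eq
    exact Nat.eq_one_of_dvd_coprimes ((Nat.coprime_primes hr Fact.out).2 r19 |>.pow_left k)
      (hk ▸ relIndex_dvd_card K R.1) (iK ▸ relIndex_dvd_index_of_normal K R.1)
  by_cases nr : N(R.1) = ⊤
  · have nR : R.1.Normal := normalizer_eq_top_iff.1 nr
    by_cases t' : zpowers x ⊔ R.1 = ⊤
    · have i1 : (zpowers x).index ∣ Nat.card R.1 := by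
        have a : R.1.index ∣ 19 := by
          rw [← relIndex_top_right, ← t', relIndex_sup_right, ← hx, ← Nat.card_zpowers]; exact relIndex_dvd_card _ _
        have b := (zpowers x).card_mul_index
        rw [Nat.card_zpowers, hx, ← R.1.index_mul_card] at b
        exact Nat.dvd_of_mul_dvd_mul_left (by norm_num : 0 < 19) (b ▸ mul_dvd_mul_right a _)
      have i2 : Nat.card (Sylow 19 G) ∣ Nat.card R.1 := (idx x hx ▸ index_dvd_of_le le_normalizer).trans i1
      obtain ⟨k, hk⟩ := R.2.exists_card_eq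
      obtain ⟨j, -, e⟩ := (Nat.dvd_prime_pow hr).1 (hk ▸ i2)
      have i3 : r ^ j ∣ 175560 := e ▸ (i2.trans (card_subgroup_dvd_card _)).trans hd
      have i4 : r ∈ Nat.primeFactors 175560 := Nat.mem_primeFactors.2 ⟨hr, dG.trans hd, by norm_num⟩
      have i5 : j < 4 := by_contra fun k => absurd ((pow_dvd_pow r (by omega : 4 ≤ j)).trans i3) (by
        rw [show Nat.primeFactors 175560 = {2, 3, 5, 7, 11, 19} by decide +kernel] at i4
        simp only [Finset.mem_insert, Finset.mem_singleton] at i4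
        rcases i4 with rfl | rfl | rfl | rfl | rfl | rfl <;> norm_num)
      rw [e] at md ne
      rw [show Nat.primeFactors 175560 = {2, 3, 5, 7, 11, 19} by decide +kernel] at i4
      simp only [Finset.mem_insert, Finset.mem_singleton] at i4
      rcases i4 with rfl | rfl | rfl | rfl | rfl | rfl <;> interval_cases j <;> simp_all [Nat.ModEq]
    · refine ne ?_
      rw [← idx x hx, index_eq_one, eq_top_iff]
      exact fun g _ => mem_norm_of_conj (p := 19) Fact.out (by simp [hx]) (mem_zpowers x) x1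
        (B _ nR (R.ne_bot_of_dvd_card dG) t' _ (((MulAut.conj g).orderOf_eq x).trans hx))
  · have d : 19 ∣ Nat.card N(R.1) := by
      rw [← iK, ← relIndex_top_right, ← R.normalizer_sup_eq_top' RK, relIndex_sup_right]; exact relIndex_dvd_card _ _
    obtain ⟨z, hz⟩ := exists_prime_orderOf_dvd_card' 19 d
    have hz' : orderOf (z : G) = 19 := by simpa using hz
    exact R.not_dvd_index ((idx z hz' ▸ dr).trans ((index_dvd_of_le ((sub _ nr).le hz' z.2)).trans
      (index_dvd_of_le le_normalizer)))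

theorem normal19 (hG : Nat.card G = 175560) (hs : ¬ IsSimpleGroup G) [Fact (Nat.Prime 19)] (P : Sylow 19 G) :
    P.1.Normal := by
  obtain ⟨x, hx⟩ := exists_prime_orderOf_dvd_card' (G := G) 19 (by rw [hG]; norm_num)
  obtain ⟨Q, hQ⟩ := exists_syl (sq19 hG.dvd) hx
  have u := main _ G rfl hG.dvd (.inr hs)
  have : Q.1.Normal := normalizer_eq_top_iff.1 (eq_top_iff.2 (hQ ▸ U.le (H := ⊤) (fun a b ha hb => by
    obtain ⟨k, e⟩ := u a b (by simpa using ha) (by simpa using hb)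
    exact ⟨k, Subtype.ext e⟩) hx trivial))
  have := Sylow.unique_of_normal Q this
  rwa [Subsingleton.elim P Q]

end CfsgH1.J1o
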