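import Cfsg.Agent.H8.Def3a
import Cfsg.Agent.H1.J1o

/-! Numerical consequences of the principal block of defect one in a simple group. -/

set_option autoImplicit false
set_option linter.style.haveILetI false
set_option linter.unusedSectionVars false

namespace CfsgH1.BlkJ

open Subgroup Cfsg CfsgH2 CfsgH3 CfsgH3.IP CfsgH4 CfsgH8 CfsgH8.O1 CfsgH8.FinSub
open scoped ComplexConjugate

local notation "C1(" x ")" => Subgroup.centralizer (Singleton.singleton x : Set _)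

variable {G : Type*} [Group G] [Fintype G]

/-- the number of ways to write an element as a product of two conjugates of `t` -/
noncomputable def pc (t y : G) : ℂ := Nat.card {q : G × G // q.1 * t * q.1⁻¹ * (q.2 * t * q.2⁻¹) = y}

theorem pc_class (t : G) : IsClassFunction G (pc t) := fun y g => by
  refine congrArg Nat.cast (Nat.card_congr (((Equiv.mulLeft g⁻¹).prodCongr (Equiv.mulLeft g⁻¹)).subtypeEquiv fun q => ?_))
  simp only [Equiv.prodCongr_apply, Prod.map_fst, Prod.map_snd, Equiv.coe_mulLeft]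
  rw [show g⁻¹ * q.1 * t * (g⁻¹ * q.1)⁻¹ * (g⁻¹ * q.2 * t * (g⁻¹ * q.2)⁻¹) =
    g⁻¹ * (q.1 * t * q.1⁻¹ * (q.2 * t * q.2⁻¹)) * g by group]
  exact ⟨fun e => by rw [e]; group, fun e => by rw [← e]; group⟩

theorem ip_pc (t : G) {α : G → ℂ} (hα : IsClassFunction G α) : classInner (pc t) α = conj (Jsum t α) := by
  classical
  have h9 : ∑ y, α y * conj (pc t y) = Nat.card G * Jsum t α := by
    calc _ = ∑ q : G × G, α (q.1 * t * q.1⁻¹ * (q.2 * t * q.2⁻¹)) := by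
          rw [← Finset.sum_fiberwise (s := Finset.univ) (g := fun q : G × G => q.1 * t * q.1⁻¹ * (q.2 * t * q.2⁻¹))]
          refine Finset.sum_congr rfl fun y _ => ?_
          rw [Finset.sum_congr rfl (g := fun _ => α y) (fun q hq => by rw [(Finset.mem_filter.mp hq).2]), pc,
            Finset.sum_const, Nat.card_eq_fintype_card, Fintype.card_subtype, map_natCast, nsmul_eq_mul, mul_comm]
      _ = ∑ b : G, Jsum t α := by
          rw [Fintype.sum_prod_type_right]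
          refine Finset.sum_congr rfl fun b _ => ?_
          rw [Jsum, ← Equiv.sum_comp (Equiv.mulLeft b)]
          refine Finset.sum_congr rfl fun a _ => ?_
          rw [← hα (a * t * a⁻¹ * t) b]
          congr 1; simp only [Equiv.coe_mulLeft]; group
      _ = _ := by simp [Nat.card_eq_fintype_card]
  rw [← CfsgH3.inner_conj_symm, classInner, h9, ← mul_assoc, inv_mul_cancel₀ (card_ne_zero_complex G), one_mul]

/-- the conditions on a signed degree and a signed value -/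
def Gd (N k : ℕ) (d u : ℤ) : Prop := 1 < |d| ∧ d ∣ N ∧ d ∣ k * u ∧ u.natAbs < d.natAbs

theorem sq_le (s : Finset (IrrCharacter G)) (g : G) (f : IrrCharacter G → ℤ) (h : ∀ χ ∈ s, χ.1 g = f χ) :
    ∑ χ ∈ s, f χ ^ 2 ≤ Nat.card C1(g) := by
  have := Finset.sum_le_univ_sum_of_nonneg (s := s) fun χ : IrrCharacter G => sq_nonneg ‖χ.1 g‖
  rw [sum_irr_normSq, Finset.sum_congr rfl (g := fun χ => ((f χ ^ 2 : ℤ) : ℝ)) fun χ k => by
    rw [h χ k, Complex.norm_intCast]; simp] at this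
  exact_mod_cast this

theorem blockJ (S : NAS G) {p : ℕ} [hp : Fact p.Prime] (P : Sylow p G) [h : O1 P] (p2 : p ≠ 2) {t : G}
    (ht : orderOf t = 2) : ∃ (T : Finset (IrrCharacter G)) (D U : IrrCharacter G → ℤ), T.card + 1 = fN P ∧
      (∀ χ ∈ T, D χ % p = 1 ∧ Gd (Nat.card G) C1(t).index (D χ) (U χ) ∧ (D χ = 1 - p → CP P ≤ P)) ∧
      Gd (Nat.card G) C1(t).index (1 + ∑ χ ∈ T, D χ) (1 + ∑ χ ∈ T, U χ) ∧
      1 + ∑ χ ∈ T, D χ ^ 2 + (1 + ∑ χ ∈ T, D χ) ^ 2 ≤ Nat.card G ∧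
      1 + ∑ χ ∈ T, U χ ^ 2 + (1 + ∑ χ ∈ T, U χ) ^ 2 ≤ Nat.card C1(t) ∧
      (CP P ≤ P → ∃ n : ℕ, (n = 0 ∨ n = p) ∧ Nat.card G + ∑ χ ∈ T, Nat.card G / D χ * U χ ^ 2 -
        Nat.card G / (1 + ∑ χ ∈ T, D χ) * (1 + ∑ χ ∈ T, U χ) ^ 2 = n * (Nat.card C1(t) : ℤ) ^ 2) := by
  classical
  obtain ⟨X, ζ, a, δ, B⟩ := exists_PBl P
  obtain ⟨i⟩ : Nonempty (I0 P) := inferInstance
  choose u hu using fun χ : IrrCharacter G => gen_int_inv χ.2.isGen ht
  have u1 : u (i1 G) = 1 := by exact_mod_cast (show (u (i1 G) : ℂ) = 1 from (hu (i1 G)).symm)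
  have d1 : deg (i1 G) = 1 := by exact_mod_cast (show (deg (i1 G) : ℂ) = 1 from (deg_spec (i1 G)).symm)
  have gd : ∀ (χ : IrrCharacter G) (ε : ℤ), (ε = 1 ∨ ε = -1) → χ ≠ i1 G →
      Gd (Nat.card G) C1(t).index (ε * deg χ) (ε * u χ) := fun χ ε he k => by
    have a1 : deg χ ≠ 1 := fun e => k (eq_i1_of_perfect S.perfect (by rw [deg_spec, e, Nat.cast_one]))
    have a2 := deg_pos χ
    have a3 : (deg χ : ℤ) ∣ C1(t).index * u χ := int_dvd_of_isIntegral_div (by omega) (by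
      have := χ.2.isIntegral_central t
      rw [hu, deg_spec] at this
      exact_mod_cast this)
    have a4 : (deg χ : ℤ) ∣ Nat.card G := Int.natCast_dvd_natCast.2 (deg_dvd_card χ)
    have a5 : (u χ).natAbs < deg χ := by
      have := (S.dirr_deg χ.2.isDirr (χ.2.inner_of_ne isIrr_one fun e => k (Subtype.ext e)) (n := deg χ)
        (by simp [deg_spec])).2 t (by rintro rfl; simp at ht)
      rw [hu, deg_spec, Complex.norm_intCast, Complex.norm_natCast] at this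
      zify; exact_mod_cast this
    rcases he with rfl | rfl
    · exact ⟨by rw [one_mul, Nat.abs_cast]; omega, by rwa [one_mul], by simpa, by simpa⟩
    · exact ⟨by rw [neg_one_mul, abs_neg, Nat.abs_cast]; omega, by rwa [neg_one_mul, neg_dvd], by simpa, by simpa⟩
  have js : ∀ (χ : IrrCharacter G) (ε : ℤ), (ε = 1 ∨ ε = -1) → ε * classInner (pc t) χ.1 =
      ((Nat.card G / (ε * deg χ) * (ε * u χ) ^ 2 : ℤ) : ℂ) := fun χ ε he => by
    obtain ⟨m, hm⟩ := deg_dvd_card χ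
    have a1 := Jsum_dirr t χ.2.isDirr
    have a2 : (deg χ : ℂ) ≠ 0 := by exact_mod_cast (deg_pos χ).ne'
    have a3 : (deg χ : ℤ) ≠ 0 := by exact_mod_cast (deg_pos χ).ne'
    rw [deg_spec, hu, hm, Nat.cast_mul, mul_assoc, mul_right_inj' a2] at a1
    rw [ip_pc t χ.2.classFun, a1, hm]
    rcases he with rfl | rfl <;> simp [Int.mul_ediv_cancel_left _ a3, sq]
  have sX : ∀ {W : Type} [AddCommMonoid W] (F : IrrCharacter G → W), ∑ χ ∈ X, F χ = F (i1 G) + ∑ χ ∈ X.erase (i1 G), F χ :=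
    fun F => (Finset.add_sum_erase _ _ B.one).symm
  have r1 : 1 + ∑ χ ∈ X.erase (i1 G), a χ * deg χ = δ * deg (ζ i) := by
    have := B.rel i 1 (by simpa using hp.out.one_lt.ne')
    simp only [deg_spec, sX, B.a_one, d1] at this
    exact_mod_cast this.symm
  have r2 : 1 + ∑ χ ∈ X.erase (i1 G), a χ * u χ = δ * u (ζ i) := by
    have := B.rel i t (by rw [ht]; exact fun k => p2 ((Nat.prime_dvd_prime_iff_eq hp.out Nat.prime_two).1 k))
    simp only [hu, sX, B.a_one, u1] at this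
    exact_mod_cast this.symm
  have sq : ∀ (g : G) (f : IrrCharacter G → ℤ), f (i1 G) = 1 → (∀ χ, χ.1 g = f χ) →
      1 + ∑ χ ∈ X.erase (i1 G), (a χ * f χ) ^ 2 + (δ * f (ζ i)) ^ 2 ≤ Nat.card C1(g) := fun g f f1 hf => by
    have := sq_le (insert (ζ i) X) g f fun χ _ => hf χ
    rw [Finset.sum_insert (B.disj i), sX, f1] at this
    rw [Finset.sum_congr rfl (g := fun χ => f χ ^ 2) fun χ k => by
      rcases B.sg χ (Finset.mem_of_mem_erase k) with e | e <;> simp [e]]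
    have : (δ * f (ζ i)) ^ 2 = f (ζ i) ^ 2 := by rcases B.sign with e | e <;> simp [e]
    linarith
  refine ⟨X.erase (i1 G), fun χ => a χ * deg χ, fun χ => a χ * u χ, by rw [Finset.card_erase_add_one B.one, B.card],
    fun χ k => ?_, ?_, ?_, ?_, fun c => ?_⟩
  · obtain ⟨k1, k⟩ := Finset.mem_erase.1 k
    dsimp only
    obtain ⟨m, hm⟩ := exists_fix_nat (P := P) χ.2.isChar
    rw [B.LP_X k, deg_spec] at hm
    have hm' : (deg χ : ℤ) + (p - 1) * a χ = p * m := by exact_mod_cast hm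
    have p1 : (1 : ℤ) < p := by exact_mod_cast hp.out.one_lt
    refine ⟨?_, gd χ _ (B.sg χ k) k1, fun e => CP_le_of_fix (fun N hN d => S.eq_bot fun e => d ?_) (χ := χ) ?_ (B.rt_X k)⟩
    · have : a χ * deg χ = 1 + p * (a χ * m - 1) := by
        rcases B.sg χ k with e | e <;> rw [e] at hm' ⊢ <;> linarith
      rw [this, Int.add_mul_emod_self_left, Int.emod_eq_of_lt (by norm_num) p1]
    · rw [e, card_top, ← h.card]; exact card_subgroup_dvd_card _
    · rw [B.LP_X k, deg_spec]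
      have := deg_pos χ
      have : (deg χ : ℤ) + (p - 1) * a χ = 0 := by
        rcases B.sg χ k with e' | e' <;> rw [e'] at e ⊢ <;> omega
      exact_mod_cast this
  · rw [r1, r2]; exact gd _ _ B.sign fun e => B.disj i (e ▸ B.one)
  · have := sq 1 (fun χ => deg χ) (by simp [d1]) fun χ => by simp [deg_spec]
    rwa [centralizer_eq_top_iff_subset.2 (by simp), card_top, ← r1] at this
  · rw [r2]; exact sq t u u1 hu
  · obtain ⟨x, hx, x1⟩ := exists_gen P
    obtain ⟨n, h6, h7⟩ := count_pairs hp.out (ord_of_mem hx x1) (by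
      rw [cent hx x1, zp hx x1]; exact le_antisymm c (le_C P)) p2 ht
    refine ⟨n, h6, ?_⟩
    have := B.ip i _ (pc_class t) (n * (Nat.card C1(t) : ℂ) ^ 2) fun z hz => by
      rw [pc, h7 z (zp hx x1 ▸ c z.2) (by rintro e; simp [e, hp.out.ne_one] at hz)]; simp
    rw [Finset.sum_congr rfl fun χ k => js χ _ (B.sg χ k), js _ _ B.sign, sX, B.a_one, d1, u1] at this
    rw [r1, r2]
    simp only [Nat.cast_one, mul_one, one_pow, Int.ediv_one] at this
    exact_mod_cast this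

theorem setup (S : NAS G) {p k : ℕ} [hp : Fact p.Prime] (hG : Nat.card G = p * k) (nk : ¬ p ∣ k) :
    ∃ (P : Sylow p G) (_ : O1 P) (n c : ℕ), k = n * fN P * c ∧ n % p = 1 ∧ 1 < fN P ∧ fN P ∣ p - 1 ∧
      2 * Nat.card G ∣ n.factorial ∧ (CP P ≤ P ↔ c = 1) ∧ ∃ x : G, orderOf x = p ∧ Nat.card C1(x) = p * c := by
  obtain ⟨x, e, c, hx, h1, h2, h3, h4, h5, h6⟩ := S.sylow1 hG nk
  obtain ⟨-, h7, -, h8, -⟩ := S.sylow (a := 1) (by rw [hG, pow_one]) nk one_ne_zero
  obtain ⟨P, hP⟩ := J1o.exists_syl (fun e => nk (Nat.dvd_of_mul_dvd_mul_left hp.out.pos (by rwa [← hG, ← sq]))) hx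
  have : O1 P := ⟨by rw [hP, Nat.card_zpowers, hx]⟩
  have hC : C1(x) = CP P := cent (hP ▸ mem_zpowers x) (by rintro rfl; exact hp.out.ne_one (hx.symm.trans orderOf_one))
  obtain rfl : fN P = e := by rw [← h2, hC, ← hP]
  refine ⟨P, this, _, c, h4, h7, h6, h5, h8, ⟨fun k => ?_, fun k => (eq_of_le_of_card_ge (le_C P) ?_).ge⟩, x, hx, h3⟩
  · rw [hC, le_antisymm k (le_C P), this.card] at h3
    exact (Nat.mul_eq_left hp.out.ne_zero).1 h3.symm
  · rw [← hC, h3, k, this.card, mul_one]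

def rg (b : ℕ) : List ℤ := (List.range (2 * b + 1)).map fun i : ℕ => (i : ℤ) - b

theorem mem_rg {b : ℕ} {x : ℤ} (h : x ^ 2 < (b + 1) ^ 2) : x ∈ rg b := by
  have := abs_lt.1 (abs_lt_of_sq_lt_sq h (by positivity))
  exact List.mem_map.2 ⟨(x + b).toNat, List.mem_range.2 (by omega), by omega⟩

instance (N k : ℕ) (d u : ℤ) : Decidable (Gd N k d u) := inferInstanceAs (Decidable (_ ∧ _))

theorem mem_rg' {a x : ℤ} (h : x.natAbs < a.natAbs) : x ∈ rg a.natAbs :=
  List.mem_map.2 ⟨(x + a.natAbs).toNat, List.mem_range.2 (by omega), by omega⟩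

set_option synthInstance.maxSize 100000 in
theorem chk4 : ∀ N ∈ [720, 4320],
    ∀ a ∈ rg 66, a % 5 = 1 → 1 < |a| → a ∣ (N : ℕ) → ∀ b ∈ rg 66, b % 5 = 1 → 1 < |b| → b ∣ N →
    ∀ d ∈ rg 66, d % 5 = 1 → 1 < |d| → d ∣ N → 1 + (a + b + d) ∣ N → 1 < |1 + (a + b + d)| →
    1 + (a ^ 2 + b ^ 2 + d ^ 2) + (1 + (a + b + d)) ^ 2 ≤ N → ∀ c ∈ [16, 32, 48, 96, 288], c ∣ N → ¬ 2 ∣ N / c →
    ∀ u ∈ rg a.natAbs, a ∣ (N / c : ℕ) * u → u.natAbs < a.natAbs → ∀ v ∈ rg b.natAbs, b ∣ (N / c : ℕ) * v →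
    u ^ 2 + v ^ 2 ≤ c → ∀ w ∈ rg d.natAbs, d ∣ (N / c : ℕ) * w → 1 + (a + b + d) ∣ (N / c : ℕ) * (1 + (u + v + w)) →
    1 + (u ^ 2 + v ^ 2 + w ^ 2) + (1 + (u + v + w)) ^ 2 ≤ c → ∀ n ∈ [0, 5],
    (N : ℤ) + (N / a * u ^ 2 + N / b * v ^ 2 + N / d * w ^ 2) - N / (1 + (a + b + d)) * (1 + (u + v + w)) ^ 2 ≠
      (n : ℕ) * (c : ℤ) ^ 2 := by
  decide +kernel

theorem not4 (S : NAS G) {a b : ℕ} (hG : Nat.card G = 2 ^ a * 3 ^ b * 5) (hN : Nat.card G ∈ [720, 4320]) : False := by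
  classical
  have : Fact (Nat.Prime 5) := ⟨by norm_num⟩
  have hN' : Nat.card G = 720 ∨ Nat.card G = 4320 := by simpa using hN
  obtain ⟨P, _, n, c, h1, h2, h3, h4, -, h6, x, hx, h7⟩ := setup S (p := 5) (k := Nat.card G / 5) (by omega) (by omega)
  rw [S.cent_eq Nat.prime_two Nat.prime_three (by norm_num) (by norm_num) (by norm_num) (by norm_num) hG hx,
    Nat.card_zpowers, hx] at h7
  obtain rfl : c = 1 := by omega
  have e4 : fN P = 4 := by
    have := Nat.le_of_dvd (by norm_num) h4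
    obtain ⟨e, -, a1, a2, a3, a4, a5⟩ := S.sc3 (p := 2) (q := 3) (r := 5) (k := Nat.card G / 5) (a := a) (b := b)
      (by norm_num) (by norm_num) (by norm_num) (by norm_num) (by norm_num) (by norm_num) (by omega) (by omega)
    generalize fN P = f at *
    interval_cases f <;> omega
  obtain ⟨t, ht, ht'⟩ := exists_central (G := G) (p := 2) (by omega)
  obtain ⟨T, D, U, k1, k2, k3, k4, k5, k6⟩ := blockJ S P (by norm_num) ht
  obtain ⟨m, k8, k7⟩ := k6 (h6.2 rfl)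
  obtain ⟨χ, ψ, ξ, n1, n2, n3, rfl⟩ := Finset.card_eq_three.1 (by omega : T.card = 3)
  have ci := C1(t).card_mul_index
  have c0 : 0 < Nat.card C1(t) := Nat.card_pos
  have ie : C1(t).index = Nat.card G / Nat.card C1(t) := by rw [← ci, Nat.mul_div_cancel_left _ c0]
  have c5 : ¬ 5 ∣ Nat.card C1(t) := fun d => by
    obtain ⟨y, hy⟩ := exists_prime_orderOf_dvd_card' 5 d
    exact S.self_cent Nat.prime_two Nat.prime_three (by norm_num) (by norm_num) (by norm_num) (by norm_num) hG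
      ((orderOf_coe y).trans hy) ht (mem_centralizer_singleton_iff.1 y.2)
  have c8 : Nat.card C1(t) ∈ [16, 32, 48, 96, 288] := by
    have a1 := S.dvd_fact (H := C1(t)) fun e => c5 (by rw [e, card_top]; omega)
    have a2 : 6 ≤ C1(t).index := by_contra fun k => absurd (Nat.le_of_dvd (Nat.factorial_pos _)
      (a1.trans (Nat.factorial_dvd_factorial (by omega : _ ≤ 5)))) (by rw [show Nat.factorial 5 = 120 from rfl]; omega)
    have : Nat.card C1(t) * 6 ≤ Nat.card G := ci ▸ Nat.mul_le_mul_left _ a2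
    exact (by decide +kernel : ∀ N ∈ [720, 4320], ∀ c ∈ List.range 721, c ∣ N → ¬ 2 ∣ N / c → ¬ 5 ∣ c → c * 6 ≤ N →
      c ∈ [16, 32, 48, 96, 288]) _ hN _ (List.mem_range.2 (by omega)) (card_subgroup_dvd_card _) (ie ▸ ht') c5 this
  simp only [Finset.sum_insert, Finset.mem_insert, Finset.mem_singleton, n1, n2, n3, or_self, not_false_eq_true,
    Finset.sum_singleton, forall_eq_or_imp, forall_eq, ← add_assoc (D χ), ← add_assoc (U χ), ← add_assoc (D χ ^ 2),
    ← add_assoc (U χ ^ 2), ← add_assoc (_ / D χ * _), ie] at k2 k3 k4 k5 k7 ht'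
  obtain ⟨⟨a1, ⟨a2, a3, a4, a5⟩, -⟩, ⟨b1, ⟨b2, b3, b4, b5⟩, -⟩, d1, ⟨d2, d3, d4, d5⟩, -⟩ := k2
  have := sq_nonneg (D χ); have := sq_nonneg (D ψ); have := sq_nonneg (D ξ); have := sq_nonneg (1 + (D χ + D ψ + D ξ))
  have := sq_nonneg (U χ); have := sq_nonneg (U ψ); have := sq_nonneg (U ξ); have := sq_nonneg (1 + (U χ + U ψ + U ξ))
  exact chk4 _ hN _ (mem_rg (by omega)) a1 a2 a3 _ (mem_rg (by omega)) b1 b2 b3 _ (mem_rg (by omega)) d1 d2 d3 k3.2.1 k3.1 k4
    _ c8 (card_subgroup_dvd_card _) ht' _ (mem_rg' a5) a4 a5 _ (mem_rg' b5) b4 (by omega) _ (mem_rg' d5) d4 k3.2.2.1 k5 m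
    (by simpa using k8) k7

theorem not756 (S : NAS G) (hG : Nat.card G = 756) : False := by
  classical
  have : Fact (Nat.Prime 7) := ⟨by norm_num⟩
  obtain ⟨P, _, n, c, h1, h2, h3, h4, -, h6, x, hx, h7⟩ := setup S (p := 7) (k := 108) hG (by omega)
  rw [S.cent_eq (a := 2) (b := 3) Nat.prime_two Nat.prime_three (by norm_num) (by norm_num) (by norm_num) (by norm_num) hG
    hx, Nat.card_zpowers, hx] at h7
  obtain rfl : c = 1 := by omega
  have e4 : fN P = 3 := by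
    have := Nat.le_of_dvd (by norm_num) h4
    generalize fN P = f at *
    interval_cases f <;> omega
  obtain ⟨t, ht, -⟩ := exists_central (G := G) (p := 2) (by omega)
  obtain ⟨T, D, U, k1, k2, k3, k4, -⟩ := blockJ S P (by norm_num) ht
  obtain ⟨χ, ψ, n1, rfl⟩ := Finset.card_eq_two.1 (by omega : T.card = 2)
  simp only [Finset.sum_pair n1, Finset.mem_insert, Finset.mem_singleton, forall_eq_or_imp, forall_eq, hG] at k2 k3 k4
  have := sq_nonneg (D χ); have := sq_nonneg (D ψ); have := sq_nonneg (1 + (D χ + D ψ))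
  exact (by decide +kernel : ∀ a ∈ rg 28, a % (7 : ℕ) = 1 → 1 < |a| → a ∣ (756 : ℕ) → ∀ b ∈ rg 28, b % (7 : ℕ) = 1 →
    1 < |b| → b ∣ (756 : ℕ) → 1 < |1 + (a + b)| → ¬ 1 + (a + b) ∣ (756 : ℕ)) _ (mem_rg (by omega)) k2.1.1 k2.1.2.1.1
    k2.1.2.1.2.1 _ (mem_rg (by omega)) k2.2.1 k2.2.2.1.1 k2.2.2.1.2.1 k3.1 k3.2.1

theorem not420 (S : NAS G) (hG : Nat.card G = 420 ∨ Nat.card G = 840) : False := by
  classical
  have : Fact (Nat.Prime 7) := ⟨by norm_num⟩
  obtain ⟨P, _, n, c, h1, h2, h3, h4, h5, h6, x, hx, h7⟩ := setup S (p := 7) (k := Nat.card G / 7) (by omega) (by omega)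
  have := Nat.le_of_dvd (by norm_num) h4
  have c5 : ¬ 5 ∣ c := fun d => by
    obtain ⟨n', e', c', D⟩ := J1o.exists_dat S (p := 5) (by norm_num) (by omega)
    have : Fact (Nat.Prime 5) := ⟨by norm_num⟩
    obtain ⟨y, hy⟩ := exists_prime_orderOf_dvd_card' (G := C1(x)) 5 (h7 ▸ d.mul_left 7)
    obtain ⟨j, rfl⟩ := D.dvd ((orderOf_coe y).trans hy) (mem_centralizer_singleton_iff.1 y.2).symm (by norm_num) hx.symm.dvd
    rcases D.opt with ⟨-, a1, a2, a3, a4, a5⟩ | ⟨a1, -⟩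
    · have := Nat.le_of_dvd (by norm_num) a5
      have a7 : 7 ≤ n' := (Nat.Prime.dvd_factorial Fact.out).1 ((by omega : 7 ∣ 2 * Nat.card G).trans a3)
      have a8 : n' ∣ 24 := Nat.dvd_of_mul_dvd_mul_left (by norm_num : 0 < 35)
        (Dvd.dvd.trans (b := Nat.card G) ⟨e' * j, by rw [a1]; ring⟩ (by rcases hG with e | e <;> rw [e] <;> norm_num))
      have := Nat.le_of_dvd (by norm_num) a8
      interval_cases n' <;> omega
    · omega
  have n1 : n ∣ 120 := Dvd.dvd.trans (b := Nat.card G / 7) ⟨fN P * c, by rw [h1, mul_assoc]⟩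
    (by rcases hG with e | e <;> rw [e] <;> norm_num)
  have n7 : 7 ≤ n := (Nat.Prime.dvd_factorial Fact.out).1 ((by omega : 7 ∣ 2 * Nat.card G).trans h5)
  have e2 : fN P = 2 ∧ c ≠ 1 := by
    have n2 : n = 8 ∨ n = 15 ∨ n = 120 := by
      have := Nat.le_of_dvd (by norm_num) n1
      interval_cases n <;> omega
    generalize fN P = f at *
    rcases n2 with rfl | rfl | rfl <;> interval_cases f <;> omega
  obtain ⟨t, ht, -⟩ := exists_central (G := G) (p := 2) (by omega)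
  obtain ⟨T, D, U, k1, k2, k3, k4, -⟩ := blockJ S P (by norm_num) ht
  obtain ⟨χ, rfl⟩ := Finset.card_eq_one.1 (by omega : T.card = 1)
  simp only [Finset.sum_singleton, Finset.mem_singleton, forall_eq] at k2 k3 k4
  have := sq_nonneg (1 + D χ)
  have d : (Nat.card G : ℤ) ∣ 840 := by rcases hG with e | e <;> rw [e] <;> norm_num
  exact (by decide +kernel : ∀ a ∈ rg 29, a % (7 : ℕ) = 1 → 1 < |a| → a ∣ 840 → a ≠ 1 - (7 : ℕ) → ¬ 1 + a ∣ 840) _
    (mem_rg (by omega)) k2.1 k2.2.1.1 (k2.2.1.2.1.trans d) (fun e => e2.2 (h6.1 (k2.2.2 e))) (k3.2.1.trans d)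

end CfsgH1.BlkJ
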