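import Cfsg.Agent.H1.Frob
import Cfsg.Agent.H2.Cls
import Cfsg.Agent.FT.Hall
import Cfsg.Agent.S0081

/-! Camina pairs. -/

set_option autoImplicit false
set_option linter.style.haveILetI false
set_option linter.unusedSectionVars false

namespace CfsgH1

open Subgroup Cfsg CfsgH2 CfsgFT

variable {G : Type*} [Group G] [Finite G]

def Cam (N : Subgroup G) : Prop := ∀ g : G, g ∉ N → ∀ n ∈ N, ∃ x : G, x * g * x⁻¹ = g * n

theorem card_cent_quo {N : Subgroup G} [N.Normal] {g : G} (h : ∀ n ∈ N, ∃ x : G, x * g * x⁻¹ = g * n) :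
    Nat.card C1(g) = Nat.card C1((g : G ⧸ N)) := by
  have h1 := card_cls_in ((C1((g : G ⧸ N))).comap (QuotientGroup.mk' N)) g
  rw [inf_eq_right.2 fun x hx => mem_cent1.2 (congrArg (QuotientGroup.mk (s := N)) (mem_cent1.1 hx)),
    card_comap_of_surjective _ (QuotientGroup.mk'_surjective N), QuotientGroup.ker_mk'] at h1
  have k : ∀ a : G, a ∈ (C1((g : G ⧸ N))).comap (QuotientGroup.mk' N) ↔ g⁻¹ * (a * g * a⁻¹) ∈ N := fun a => by
    rw [← QuotientGroup.eq, mem_comap, mem_cent1, QuotientGroup.mk_mul, QuotientGroup.mk_inv, eq_mul_inv_iff_mul_eq]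
    rfl
  let f : {y // ∃ a ∈ (C1((g : G ⧸ N))).comap (QuotientGroup.mk' N), a * g * a⁻¹ = y} → N := fun y =>
    ⟨g⁻¹ * y, by obtain ⟨a, h, e⟩ := y.2; exact e ▸ (k a).1 h⟩
  have hf : Function.Injective f := fun x y h => Subtype.ext (mul_left_cancel (congrArg Subtype.val h))
  rw [Nat.card_congr (Equiv.ofBijective f ⟨hf, fun n => ?_⟩), mul_comm] at h1
  · exact Nat.eq_of_mul_eq_mul_right Nat.card_pos h1
  obtain ⟨x, hx⟩ := h n n.2
  exact ⟨⟨_, x, (k x).2 (by simp [hx]), rfl⟩, Subtype.ext (by simp [f, hx])⟩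

theorem gen_of_cyc {T : Subgroup G} (h : IsCyclic T) : ∃ a, T = zpowers a := by
  obtain ⟨a, ha⟩ := (Subgroup.isCyclic_iff_exists_zpowers_eq_top T).1 h
  exact ⟨a, ha.symm⟩

namespace Cam

variable {N : Subgroup G}

theorem ord (h : Cam N) {g n : G} (hg : g ∉ N) (hn : n ∈ N) (c : Commute g n) : orderOf n ∣ orderOf g := by
  obtain ⟨x, e⟩ := h g hg n hn
  have : (x * g * x⁻¹) ^ orderOf g = (g * n) ^ orderOf g := by rw [e]
  rw [conj_pow, c.mul_pow, pow_orderOf_eq_one, mul_one, mul_inv_cancel, one_mul] at this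
  exact orderOf_dvd_of_pow_eq_one this.symm

theorem quo (h : Cam N) (L : Subgroup G) [L.Normal] : Cam (N.map (QuotientGroup.mk' L)) := by
  rintro g hg _ ⟨n, hn, rfl⟩
  obtain ⟨g, rfl⟩ := QuotientGroup.mk'_surjective L g
  obtain ⟨x, e⟩ := h g (fun k => hg ⟨g, k, rfl⟩) n hn
  exact ⟨QuotientGroup.mk' L x, by rw [← map_inv, ← map_mul, ← map_mul, e, map_mul]⟩

theorem npc [N.Normal] (h : Cam N) {p : ℕ} [hp : Fact p.Prime] (hd : p ∣ N.index) : HasNormalPComplement p N := by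
  classical
  obtain ⟨P⟩ : Nonempty (Sylow p G) := inferInstance
  refine Cfsg.Agent.S0081.result P N fun n ⟨h1, h2⟩ => ⟨⟨n, h2⟩, mem_frattini_iff.2 fun M hM => by_contra fun hn => ?_, rfl⟩
  obtain ⟨hM1, hM2⟩ := coatom_normal_index P.isPGroup' hM
  obtain ⟨x, hx, hxN⟩ : ∃ x ∈ (P : Subgroup G), x ∉ N := by
    by_contra k; push Not at k
    exact P.not_dvd_index (hd.trans (index_dvd_of_le k))
  let X := {g : G // g⁻¹ * x * g ∈ (P : Subgroup G)}
  let f : X → P ⧸ M := fun g => QuotientGroup.mk ⟨_, g.2⟩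
  choose! c hc using fun u (hu : u ∉ N) => h u hu n h1
  have hu : ∀ g : G, g⁻¹ * x * g ∉ N := fun g k => hxN (by simpa [mul_assoc] using ‹N.Normal›.conj_mem _ k g)
  have e1 : ∀ g : G, (g * (c (g⁻¹ * x * g))⁻¹)⁻¹ * x * (g * (c (g⁻¹ * x * g))⁻¹) = g⁻¹ * x * g * n := fun g => by
    rw [← hc _ (hu g)]; group
  let s : X → X := fun g => ⟨g.1 * (c (g.1⁻¹ * x * g.1))⁻¹, by rw [e1]; exact mul_mem g.2 h2⟩
  have hs : Function.Injective s := fun a b e => by
    have e' : a.1 * (c (a.1⁻¹ * x * a.1))⁻¹ = b.1 * (c (b.1⁻¹ * x * b.1))⁻¹ := congrArg Subtype.val e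
    have := e1 a
    rw [e', e1, mul_left_inj] at this
    rw [this] at e'
    exact Subtype.ext (mul_right_cancel e')
  let t : P ⧸ M := QuotientGroup.mk ⟨n, h2⟩
  have fs : ∀ g, f (s g) = f g * t := fun g => by
    simp only [f, t, ← QuotientGroup.mk_mul]; congr 1; exact Subtype.ext (e1 g)
  let σ := Equiv.ofBijective s (Finite.injective_iff_bijective.1 hs)
  have k1 : ∀ i : ℕ, Nat.card {g // f g = t ^ i} = Nat.card {g // f g = 1} := fun i => by
    induction i with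
    | zero => rw [pow_zero]
    | succ i ih => rw [← ih]; exact (Nat.card_congr (σ.subtypeEquiv fun g => by
        rw [show σ g = s g from rfl, fs, pow_succ, mul_left_inj])).symm
  have k2 : ∀ i, Nat.card {g // f g = i} = Nat.card {g // f g = 1} := fun i => by
    obtain ⟨j, rfl⟩ := mem_powers_iff_mem_zpowers.2 (mem_zpowers_of_prime_card (p := p) hM2
      (show t ≠ 1 from fun e => hn ((QuotientGroup.eq_one_iff _).1 e)) (g' := i))
    exact k1 j
  haveI := Fintype.ofFinite (P ⧸ M)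
  have k3 : Nat.card X = p * Nat.card {g // f g = 1} := by
    rw [← Nat.card_congr (Equiv.sigmaFiberEquiv f), Nat.card_sigma, Finset.sum_congr rfl fun i _ => k2 i]
    simp [← hM2, index_eq_card]
  have k4 : Nat.card X = Nat.card P * Nat.card (MulAction.fixedPoints (zpowers x⁻¹) (G ⧸ (P : Subgroup G))) := by
    rw [← QuotientGroup.card_preimage_mk]
    refine Nat.card_congr (Equiv.subtypeEquivRight fun g => ?_)
    have : g⁻¹ * x * g ∈ (P : Subgroup G) ↔ x⁻¹ ∈ MulAction.stabilizer G (g : G ⧸ (P : Subgroup G)) := by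
      rw [MulAction.mem_stabilizer_iff, MulAction.Quotient.smul_mk, QuotientGroup.eq]; simp
    rw [this, ← zpowers_le]
    exact ⟨fun k y => k y.2, fun k y hy => k ⟨y, hy⟩⟩
  have k5 : Nat.card P ∣ Nat.card {g // f g = 1} := by
    refine ⟨_, Eq.trans ?_ (QuotientGroup.card_preimage_mk (P : Subgroup G)
      (QuotientGroup.mk '' {g | ∃ k : g⁻¹ * x * g ∈ (P : Subgroup G), ⟨_, k⟩ ∈ M}))⟩
    refine Nat.card_congr ⟨fun g => ⟨g.1.1, _, ⟨g.1.2, (QuotientGroup.eq_one_iff _).1 g.2⟩, rfl⟩, fun g => ?_, ?_, ?_⟩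
    · have : ∃ k : g.1⁻¹ * x * g.1 ∈ (P : Subgroup G), ⟨_, k⟩ ∈ M := by
        obtain ⟨g, a, ⟨k1, k2⟩, e⟩ := g
        have m := QuotientGroup.eq.1 e
        have e2 : g⁻¹ * x * g = (a⁻¹ * g)⁻¹ * (a⁻¹ * x * a) * (a⁻¹ * g) := by group
        refine ⟨e2 ▸ mul_mem (mul_mem (inv_mem m) k1) m, ?_⟩
        convert hM1.conj_mem' _ k2 ⟨_, m⟩ using 1
        exact Subtype.ext e2
      exact ⟨⟨g.1, this.1⟩, (QuotientGroup.eq_one_iff _).2 this.2⟩
    · exact fun _ => rfl
    · exact fun _ => rfl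
  have k6 := ((P.isPGroup'.to_le (zpowers_le.2 (inv_mem hx))).card_modEq_card_fixedPoints (G ⧸ (P : Subgroup G)))
  refine P.not_dvd_index ((k6.dvd_iff dvd_rfl).2 (Nat.dvd_of_mul_dvd_mul_left (Nat.card_pos (α := P)) ?_))
  rw [← k4, k3, mul_comm]; exact Nat.mul_dvd_mul_left _ k5

theorem key [N.Normal] (h : Cam N) {p : ℕ} [hp : Fact p.Prime] (hd : p ∣ N.index) {A : Subgroup G} [A.Normal]
    (hA : A < N) (h0 : A ≠ ⊥) (h1 : IsPGroup p A) (h2 : ¬ p ∣ A.relIndex N) : False := by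
  classical
  let π := QuotientGroup.mk' A
  have cN : Nat.card (N.map π) = A.relIndex N := by
    have := card_map_mul_card_inf_ker π N
    rw [QuotientGroup.ker_mk', inf_eq_right.2 hA.le, ← CfsgH2.card_mul_relIndex hA.le, mul_comm] at this
    exact Nat.eq_of_mul_eq_mul_left Nat.card_pos this
  have nm : ∀ y : G ⧸ A, y ≠ 1 → IsPGroup p (zpowers y) → y ∉ N.map π := fun y e k m => by
    obtain ⟨n, hn⟩ := k.exists_card_eq
    have := orderOf_dvd_natCard _ m
    rw [← Nat.card_zpowers, hn, cN] at this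
    rcases n with _ | n
    · exact e (orderOf_eq_one_iff.1 (by rwa [Nat.card_zpowers] at hn))
    · exact h2 ((dvd_pow_self p n.succ_ne_zero).trans this)
  obtain ⟨x', hx, mx⟩ := Set.exists_max_image {y : G ⧸ A | IsPGroup p (zpowers y)} orderOf (Set.toFinite _)
    ⟨1, show IsPGroup p (zpowers 1) from zpowers_one_eq_bot (G := G ⧸ A) ▸ IsPGroup.of_bot⟩
  obtain ⟨x, rfl⟩ := QuotientGroup.mk'_surjective A x'
  have x1 : π x ≠ 1 := fun e => by
    obtain ⟨y, hy⟩ := exists_prime_orderOf_dvd_card' (G := G ⧸ A) p (hd.trans (index_dvd_of_le hA.le))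
    have := mx y (IsPGroup.of_card (n := 1) (by rw [Nat.card_zpowers, hy, pow_one]))
    rw [show QuotientGroup.mk' A x = 1 from e, orderOf_one, hy] at this
    exact hp.out.one_lt.not_ge this
  have xN : x ∉ N := fun k => nm _ x1 hx ⟨x, k, rfl⟩
  have c := card_cent_quo fun n hn => h x xN n (hA.le hn)
  have pV : IsPGroup p ((zpowers (π x)).comap π) := hx.comap_of_ker_isPGroup _ (by rwa [QuotientGroup.ker_mk'])
  obtain ⟨z, z1, z2, z3, z4⟩ := exists_central_of_ne_bot pV (N := A)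
    (fun a ha => by rw [mem_comap, show π a = 1 from (QuotientGroup.eq_one_iff _).2 ha]; exact one_mem _)
    (le_top.trans (normalizer_eq_top _).ge) h0
  have d : orderOf (π x) * p ∣ Nat.card C1((x : G ⧸ A)) := by
    rw [← c, ← card_map_mul_card_inf_ker π]
    refine Nat.mul_dvd_mul (orderOf_dvd_natCard _ ⟨x, self_mem_cent1 x, rfl⟩) ?_
    rw [← orderOf_eq_prime z3 z2]
    exact orderOf_dvd_natCard _ ⟨mem_cent1.2 (mem_cent.1 z4 x (mem_zpowers _)), (QuotientGroup.eq_one_iff _).2 z1⟩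
  obtain ⟨S, hS, k⟩ := IsSylowIn.exists_le hx (zpowers_le.2 (self_mem_cent1 (π x)))
  have : S ≤ zpowers (π x) := fun y hy => by
    have cm : zpowers (π x) ⊔ zpowers y ≤ C((zpowers (π x) ⊔ zpowers y : Subgroup _)) := by
      have e := mem_cent1.1 (hS.le hy)
      refine sup_le (le_cent_sup ?_ ?_) (le_cent_sup ?_ ?_) <;> simp [cent_zpowers, mem_cent1, e]
    haveI := comm_iff.2 cm
    have pg := hS.pgroup.to_le (sup_le k (zpowers_le.2 hy))
    have co : (Nat.card (zpowers (π x) ⊔ zpowers y : Subgroup _)).Coprime (Nat.card (N.map π)) := by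
      obtain ⟨n, hn⟩ := pg.exists_card_eq
      rw [hn, cN]; exact ((Nat.Prime.coprime_iff_not_dvd hp.out).2 h2).pow_left n
    obtain ⟨w, hw⟩ := gen_of_cyc (isCyclic_of_fpf (le_top.trans (normalizer_eq_top _).ge) co
      (fun e => hA.not_ge (by rwa [Subgroup.map_eq_bot_iff, QuotientGroup.ker_mk'] at e)) fun a ha a1 =>
        eq_bot_iff.2 fun n ⟨n1, n2⟩ => orderOf_eq_one_iff.1 (Nat.eq_one_of_dvd_coprimes co
          (((h.quo A).ord (nm a a1 (pg.to_le (zpowers_le.2 ha))) n1 (mem_cent1.1 n2)).trans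
            (orderOf_dvd_natCard _ ha)) (orderOf_dvd_natCard _ n1)))
    have : zpowers (π x) = zpowers w := CfsgH2.eq_of_le_of_card_le (hw ▸ le_sup_left) (by
      rw [Nat.card_zpowers, Nat.card_zpowers]; exact mx w (show IsPGroup p (zpowers w) from hw ▸ pg))
    rw [this, ← hw]; exact mem_sup_right (mem_zpowers y)
  refine hS.not_dvd (Nat.dvd_of_mul_dvd_mul_left (orderOf_pos (π x)) (d.trans ?_))
  rw [← Nat.card_zpowers, le_antisymm k this, CfsgH2.card_mul_relIndex hS.le]; rfl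

theorem cop [N.Normal] (h : Cam N) (h1 : ¬ IsPrimePow (Nat.card N)) (h2 : ¬ IsPrimePow N.index) :
    N.index.Coprime (Nat.card N) := Nat.coprime_of_dvd fun p pp d1 d2 => by
  haveI := Fact.mk pp
  have ex : ∀ n : ℕ, 0 < n → p ∣ n → ¬ IsPrimePow n → ∃ q : ℕ, q.Prime ∧ q ∣ n ∧ q ≠ p := fun n n0 d k => by
    by_contra e; push Not at e
    exact k ((isPrimePow_iff_unique_prime_dvd).2 ⟨p, ⟨pp, d⟩, fun q hq => e q hq.1 hq.2⟩)
  obtain ⟨r, pr, d3, rp, hr⟩ : ∃ r : ℕ, r.Prime ∧ r ∣ Nat.card N ∧ r ≠ p ∧ HasNormalPComplement r N := by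
    obtain ⟨q, pq, d, qp⟩ := ex _ (Nat.pos_of_ne_zero N.index_ne_zero_of_finite) d1 h2
    haveI := Fact.mk pq
    by_cases k : q ∣ Nat.card N
    · exact ⟨q, pq, k, qp, h.npc d⟩
    obtain ⟨r, pr, d', rp⟩ := ex _ Nat.card_pos d2 h1
    haveI := Fact.mk pr
    obtain ⟨y, hy⟩ := exists_prime_orderOf_dvd_card' (G := G) q (d.trans N.index_dvd_card)
    refine ⟨r, pr, d', rp, npc_of_nilpotent (nilpotent_of_fpf_prime N (zpowers y)
      (le_top.trans (normalizer_eq_top _).ge) (by rwa [Nat.card_zpowers, hy]) fun a ha a1 => ?_)⟩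
    have oa : orderOf a = q := ((Nat.dvd_prime pq).1 (hy ▸ orderOf_dvd_of_mem_zpowers ha)).resolve_left
      (by rwa [orderOf_eq_one_iff])
    refine eq_bot_iff.2 fun n ⟨n1, n2⟩ => orderOf_eq_one_iff.1 (((Nat.dvd_prime pq).1 (oa ▸ h.ord
      (fun m => k (oa ▸ orderOf_dvd_natCard _ m)) n1 (mem_cent1.1 n2))).resolve_right fun e => k ?_)
    exact e ▸ orderOf_dvd_natCard _ n1
  haveI := Fact.mk pr
  have a := npc_iff_hall.1 (h.npc d1)
  have b := npc_iff_hall.1 hr
  haveI nO : ∀ s, (Opi s N).Normal := fun s => normal_of_top_le (le_normalizer_Opi_of s (normalizer_eq_top _).ge)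
  set L := Opi {p}ᶜ N ⊓ Opi {r}ᶜ N
  have lL : L ≤ (QuotientGroup.mk' L).ker := (QuotientGroup.ker_mk' L).ge
  have kL : (QuotientGroup.mk' L).ker ≤ Opi {r}ᶜ N := (QuotientGroup.ker_mk' L).le.trans inf_le_right
  have e : ((Opi {r}ᶜ N).map (QuotientGroup.mk' L)).relIndex (N.map (QuotientGroup.mk' L)) = (Opi {r}ᶜ N).relIndex N := by
    rw [← relIndex_comap, comap_map_eq_self kL]
  have nb : ¬ p ∣ (Opi {r}ᶜ N).relIndex N := fun k => rp.symm (by simpa using b.idx p pp k)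
  have c := card_map_mul_card_inf_ker (QuotientGroup.mk' L) (Opi {r}ᶜ N)
  rw [QuotientGroup.ker_mk', inf_eq_right.2 inf_le_right, ← CfsgH2.card_mul_relIndex (inf_le_right : L ≤ _),
    mul_comm, inf_relIndex_right] at c
  have c' := Nat.eq_of_mul_eq_mul_left Nat.card_pos c
  haveI := ‹N.Normal›.map _ (QuotientGroup.mk'_surjective L)
  haveI := (nO {r}ᶜ).map _ (QuotientGroup.mk'_surjective L)
  refine (h.quo L).key (p := p) (A := (Opi {r}ᶜ N).map (QuotientGroup.mk' L)) ?_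
    (lt_of_le_of_ne (map_mono b.le) fun k => ?_) (fun k => ?_) ?_ (e ▸ nb)
  · rwa [index_map_eq _ (QuotientGroup.mk'_surjective L) (kL.trans b.le)]
  · rw [k, relIndex_self, eq_comm, relIndex_eq_one] at e
    exact b.isPi r pr (d3.trans (card_dvd_of_le e)) rfl
  · rw [Subgroup.map_eq_bot_iff, QuotientGroup.ker_mk'] at k
    rw [← CfsgH2.card_mul_relIndex b.le] at d2
    exact (pp.dvd_mul.1 d2).elim (fun d => a.isPi p pp (d.trans (card_dvd_of_le (k.trans inf_le_left))) rfl) nb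
  · refine IsPGroup.of_card (n := _) (Nat.eq_prime_pow_of_unique_prime_dvd Nat.card_pos.ne' fun {d} pd k => ?_)
    rw [c'] at k
    simpa using a.idx d pd (k.trans (relIndex_dvd_of_le_right _ b.le))

end Cam

end CfsgH1
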