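import Mathlib
import Cfsg.Agent.H1.Prim

/-! System normalizers and Carter subgroups. -/

set_option autoImplicit false
set_option linter.style.haveILetI false
set_option linter.unusedSectionVars false

namespace CfsgH1

open Cfsg Subgroup CfsgFT CfsgLead
open CfsgH2 (IsSylowIn cj)
open scoped Pointwise commutatorElement

universe u

variable {G : Type*} [Group G] {π σ : Set ℕ} [Finite G] {K : Nat.Primes → Subgroup G}

omit [Finite G] in
theorem mem_sysNorm {x : G} : x ∈ systemNormalizer K ↔ ∀ p, x ∈ N(K p) := mem_iInf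

omit [Finite G] in
theorem sysNorm_le (K : Nat.Primes → Subgroup G) (p : Nat.Primes) : systemNormalizer K ≤ N(K p) :=
  iInf_le _ p

theorem sys_conj_in (hK : IsComplementSystem K) {N : Subgroup G} [N.Normal]
    {L : Nat.Primes → Subgroup G} (h : ∀ p, ∃ m ∈ N, cj m (L p) = K p) :
    ∃ n ∈ N, ∀ p, cj n (L p) = K p := by
  classical
  have hK' := complSys_iff.1 hK
  have key : ∀ T : Finset Nat.Primes, ∃ n ∈ N, ∀ p ∈ T, cj n (L p) = K p := by
    intro T
    induction T using Finset.induction_on with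
    | empty => exact ⟨1, one_mem _, by simp⟩
    | insert r T hr ih =>
      obtain ⟨n, hn, h1⟩ := ih
      obtain ⟨m, hm, h2⟩ := h r
      have a1 := (hK' r).inf_normal (L := N) le_top le_normalizer_of_normal
      have a2 := (hall_sysHall hK {(r : ℕ)}).inf_normal (L := N) le_top le_normalizer_of_normal
      obtain ⟨k, hk, j, hj, e⟩ := Fac.of_coprime a1.le a2.le
        ((IsPiNum.compl_compl.1 a1.idx).coprime a2.idx) (m * n⁻¹) (mul_mem hm (inv_mem hn))
      refine ⟨j * n, mul_mem (mem_inf.1 hj).2 hn, fun p hp => ?_⟩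
      rcases Finset.mem_insert.1 hp with rfl | hp
      · rw [show j * n = k⁻¹ * m by rw [eq_inv_mul_iff_mul_eq, ← mul_assoc, ← e]; group,
          ← CfsgH2.cj_cj, h2, CfsgH2.cj_eq_of_mem (inv_mem (mem_inf.1 hk).1)]
      · rw [← CfsgH2.cj_cj, h1 p hp]
        exact CfsgH2.cj_eq_of_mem (sysHall_le K (q := p)
          (π := {(r : ℕ)}) (fun e => hr ((Subtype.ext e : p = r) ▸ hp)) hj.1)
  obtain ⟨n, hn, h1⟩ := key ((Nat.card G).primeFactors.subtype Nat.Prime)
  refine ⟨n, hn, fun p => ?_⟩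
  by_cases hd : (p : ℕ) ∣ Nat.card G
  · exact h1 p (Finset.mem_subtype.2 (Nat.mem_primeFactors.2 ⟨p.2, hd, Nat.card_pos.ne'⟩))
  · obtain ⟨m, -, h2⟩ := h p
    have e := (hK' p).eq_self fun r _ hr e => hd (by rwa [card_top, e] at hr)
    rw [e, CfsgH2.cj_eq_iff_eq_cj_inv, CfsgH2.cj_top] at h2
    rw [e, h2, CfsgH2.cj_top]

theorem complSys_conj [Group.IsSolvable G] {L : Nat.Primes → Subgroup G}
    (hK : IsComplementSystem K) (hL : IsComplementSystem L) : ∃ g, ∀ p, cj g (K p) = L p := by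
  obtain ⟨g, -, h⟩ := sys_conj_in hL (N := ⊤) fun p =>
    (complSys_iff.1 hK p).exists_cj_eq inferInstance (complSys_iff.1 hL p)
  exact ⟨g, h⟩

theorem complSys_cj (hK : IsComplementSystem K) (g : G) : IsComplementSystem fun p => cj g (K p) :=
  fun p => (CfsgH2.index_cj g (K p)).trans (hK p)

omit [Finite G] in
theorem sysNorm_cj (K : Nat.Primes → Subgroup G) (g : G) :
    systemNormalizer (fun p => cj g (K p)) = cj g (systemNormalizer K) := by
  ext x
  simp only [CfsgH2.mem_cj, mem_sysNorm, ← CfsgH2.cj_normalizer]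

omit [Finite G] in
theorem sysNorm_le_norm_sysHall (K : Nat.Primes → Subgroup G) (π : Set ℕ) :
    systemNormalizer K ≤ N(sysHall K π) := fun x hx => by
  rw [mem_normalizer_iff]
  intro y
  simp only [sysHall, mem_iInf]
  exact forall₂_congr fun q _ => mem_normalizer_iff.1 (mem_sysNorm.1 hx q) y

theorem sysNorm_nilpotent (hK : IsComplementSystem K) : Group.IsNilpotent (systemNormalizer K) := by
  refine nilpotent_of_forall_sylow fun q _ _ => ?_
  obtain ⟨P, hP⟩ := IsSylowIn.exists_sylowIn q (systemNormalizer K)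
  have h1 := hall_sysHall hK {q}
  have h2 := sysNorm_le_norm_sysHall K {q}
  have h3 : P ≤ sysHall K {q} := h1.le_of_le_norm hP.hall.isPi le_top (hP.le.trans h2)
  have h4 := hP.eq_of_le (Q := systemNormalizer K ⊓ sysHall K {q})
    ((isPi_singleton_iff.1 h1.isPi).to_le inf_le_right) (le_inf hP.le h3) inf_le_left
  exact ⟨P, hP, h4 ▸ CfsgH1.le_normalizer_inf le_normalizer h2⟩

theorem mem_sup_sysNorm [Group.IsSolvable G] (hK : IsComplementSystem K) {N : Subgroup G} [N.Normal]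
    {x : G} (h : ∀ p, x ∈ N(N ⊔ K p)) : x ∈ N ⊔ systemNormalizer K := by
  obtain ⟨n, hn, h1⟩ := sys_conj_in hK (N := N) (L := fun p => cj x (K p)) fun p => by
    have h2 := (complSys_iff.1 hK p).mono (le_sup_right (a := N)) le_top
    obtain ⟨g, hg, e⟩ := (h2.cj_norm (h p)).exists_cj_eq inferInstance h2
    rw [sup_comm] at hg
    obtain ⟨k, hk, m, hm, rfl⟩ := (mem_sup_of_le_normalizer' le_normalizer_of_normal).1 hg
    refine ⟨m, hm, ?_⟩
    rw [← CfsgH2.cj_cj, CfsgH2.cj_eq_iff_eq_cj_inv, CfsgH2.cj_eq_of_mem (inv_mem hk)] at e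
    exact e
  have h2 : n * x ∈ systemNormalizer K := mem_sysNorm.2 fun p => by
    rw [mem_norm_iff_cj, ← CfsgH2.cj_cj]; exact h1 p
  simpa using mul_mem_sup (inv_mem hn) h2

theorem complSys_map {G' : Type*} [Group G'] [Finite G'] (hK : IsComplementSystem K) (f : G →* G')
    (hf : Function.Surjective f) : IsComplementSystem fun p => (K p).map f :=
  complSys_iff.2 fun p => by
    have := (complSys_iff.1 hK p).map f
    rwa [map_top_of_surjective f hf] at this

omit [Finite G] in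
theorem mem_norm_map_mk' {N H : Subgroup G} [N.Normal] {x : G} :
    (x : G ⧸ N) ∈ N(H.map (QuotientGroup.mk' N)) ↔ x ∈ N(N ⊔ H) := by
  rw [sup_comm, ← comap_map_mk', ← comap_normalizer_eq_of_surjective _ (QuotientGroup.mk'_surjective N)]
  rfl

theorem sysNorm_map [Group.IsSolvable G] (hK : IsComplementSystem K) (N : Subgroup G) [N.Normal] :
    systemNormalizer (fun p => (K p).map (QuotientGroup.mk' N)) =
      (systemNormalizer K).map (QuotientGroup.mk' N) := by
  refine le_antisymm (fun x hx => ?_) (le_iInf fun p => map_le_norm _ (sysNorm_le K p))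
  obtain ⟨x, rfl⟩ := QuotientGroup.mk'_surjective N x
  have := mem_sup_sysNorm hK fun p => mem_norm_map_mk'.1 (mem_sysNorm.1 hx p)
  rwa [sup_comm, ← comap_map_mk'] at this

theorem sysNorm_cover [Group.IsSolvable G] (hK : IsComplementSystem K) {A B : Subgroup G} [A.Normal]
    (h : ⁅B, (⊤ : Subgroup G)⁆ ≤ A) : B ≤ A ⊔ systemNormalizer K := fun _ hb =>
  mem_sup_sysNorm hK fun p => le_norm_of_comm_le (A := A ⊔ K p) (B := B) (by
    rw [Subgroup.commutator_comm]
    exact ((commutator_mono le_rfl le_top).trans h).trans le_sup_left) hb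

theorem normalClosure_sysNorm [Group.IsSolvable G] (hK : IsComplementSystem K) :
    normalClosure (systemNormalizer K : Set G) = ⊤ := by
  set N := normalClosure (systemNormalizer K : Set G)
  have h1 := sysNorm_cover hK (A := N ⊔ _root_.commutator G) (B := ⊤) le_sup_right
  have h2 : (⊤ : Subgroup (G ⧸ N)) ≤ ⁅(⊤ : Subgroup (G ⧸ N)), (⊤ : Subgroup (G ⧸ N))⁆ := by
    have := map_mono (f := QuotientGroup.mk' N) (h1.trans (sup_le le_rfl
      (le_normalClosure.trans le_sup_left)))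
    rwa [Subgroup.map_sup, (map_mk'_eq_bot_iff N).2 le_rfl, bot_sup_eq, commutator_def,
      Subgroup.map_commutator, map_top_of_surjective _ (QuotientGroup.mk'_surjective N)] at this
  by_contra e
  refine (commutator_lt_of_isSolvable (M := (⊤ : Subgroup (G ⧸ N))) inferInstance ?_).not_ge h2
  rw [← map_top_of_surjective _ (QuotientGroup.mk'_surjective N), Ne, map_mk'_eq_bot_iff]
  exact fun h => e (top_unique h)

/-- A `p'`-Hall subgroup has no fixed points on an eccentric minimal normal `p`-subgroup. -/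
theorem minNormal_inf_cent_hall [Group.IsSolvable G] {p : ℕ} [Fact p.Prime] {V H : Subgroup G}
    [V.Normal] (hV : IsPGroup p V) (hmin : ∀ K : Subgroup G, K.Normal → K ≤ V → K = ⊥ ∨ K = V)
    (hc : ¬ ⊤ ≤ C(V)) (hH : Hall {p}ᶜ H ⊤) : V ⊓ C(H) = ⊥ := by
  haveI : Nontrivial (G ⧸ C(V)) := by
    rw [QuotientGroup.nontrivial_iff]; exact fun e => hc e.ge
  obtain ⟨M, r, hr, nM, bM, -, pM, -⟩ := exists_minNormal_of_isSolvable (G := G ⧸ C(V))
  haveI := Fact.mk hr
  set L := M.comap (QuotientGroup.mk' C(V))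
  have h1 : C(V) ≤ L := le_comap_mk' _ M
  have h2 : IsPiNum {r} (C(V).relIndex L) := by
    rw [relIndex_comap_mk']; exact isPi_singleton_iff.2 pM
  have h3 : V ⊓ C(L) = ⊥ := (hmin _ inferInstance inf_le_left).resolve_right fun e => bM (by
    rw [← card_eq_one, ← relIndex_comap_mk', relIndex_eq_one]
    exact cent_symm (inf_eq_left.1 e))
  have key : ∀ X : Subgroup G, X ⊔ C(V) = L → V ⊓ C(X) = ⊥ := fun X hX => by
    rw [eq_bot_iff, ← h3, ← hX]
    exact le_inf inf_le_left (le_cent_sup inf_le_right (inf_le_left.trans (cent_symm le_rfl)))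
  by_cases e : r = p
  · subst e
    obtain ⟨P, hP⟩ := IsSylowIn.exists_sylowIn r L
    by_cases hb : V = ⊥
    · simp [hb]
    exact absurd (key P (hP.hall.sup_eq_of_idx h1 h2))
      (inf_cent_ne_bot_of_pgroup hP.pgroup hV le_normalizer_of_normal hb)
  · have h4 := hH.inf_normal (L := L) le_top le_normalizer_of_normal
    exact eq_bot_iff.2 ((inf_le_inf_left V (cent_anti inf_le_left)).trans
      (key _ (h4.sup_eq_of_idx h1 (h2.mono fun s hs => by simp at hs; simp [hs, e]))).le)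

theorem sysNorm_avoid [Group.IsSolvable G] (hK : IsComplementSystem K) {V : Subgroup G}
    [V.Normal] (hmin : ∀ K : Subgroup G, K.Normal → K ≤ V → K = ⊥ ∨ K = V)
    (hc : ¬ ⊤ ≤ C(V)) : V ⊓ systemNormalizer K = ⊥ := by
  by_cases hb : V = ⊥
  · simp [hb]
  obtain ⟨-, p, hp, he⟩ := minNormal_elementary (M := V) inferInstance hb hmin
  haveI := Fact.mk hp
  have hV := isPGroup_of_forall_pow_eq_one he
  have h1 := complSys_iff.1 hK ⟨p, hp⟩
  rw [eq_bot_iff, ← minNormal_inf_cent_hall hV hmin hc h1]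
  refine le_inf inf_le_left (cent_of_comm_eq_bot (eq_bot_iff.2 ?_))
  rw [← (isPi_singleton_iff.2 hV).inf_eq_bot h1.isPi]
  exact le_inf ((commutator_mono inf_le_left le_rfl).trans (comm_le_left le_normalizer_of_normal))
    (comm_le_right (inf_le_right.trans (sysNorm_le K ⟨p, hp⟩)))

/-! ### Carter subgroups -/

omit [Finite G] in
theorem carter_cj {C : Subgroup G} (h : IsCarterSubgroup C) (g : G) : IsCarterSubgroup (cj g C) :=
  ⟨isNilpotent_map h.1 _, by rw [← CfsgH2.cj_normalizer, h.2]⟩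

omit [Finite G] in
theorem carter_subgroupOf {C L : Subgroup G} (h : IsCarterSubgroup C) (hle : C ≤ L) :
    IsCarterSubgroup (C.subgroupOf L) :=
  ⟨isNilpotent_subgroupOf h.1 L, by rw [norm_subgroupOf hle, h.2]⟩

theorem exists_carter_sys {G : Type u} [Group G] [Finite G] [Group.IsSolvable G]
    {K : Nat.Primes → Subgroup G} (hK : IsComplementSystem K) : ∃ C, IsCarterSubgroup C ∧
      systemNormalizer K ≤ C ∧ ∀ p : Nat.Primes, Hall {(p : ℕ)}ᶜ (K p ⊓ C) C := by
  induction hn : Nat.card G using Nat.strong_induction_on generalizing G with | _ n ih => ?_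
  subst hn
  have hK' := complSys_iff.1 hK
  rcases subsingleton_or_nontrivial G with _ | _
  · exact ⟨⊤, ⟨inferInstance, Subsingleton.elim _ _⟩, le_top, fun p => by simpa using hK' p⟩
  obtain ⟨N, p, hp, nN, bN, -, pN, -⟩ := exists_minNormal_of_isSolvable (G := G)
  haveI := Fact.mk hp
  have hs := QuotientGroup.mk'_surjective N
  obtain ⟨C₀, ⟨c1, c2⟩, c3, c4⟩ := ih _ (card_quotient_lt bN) (complSys_map hK _ hs) rfl
  set L := C₀.comap (QuotientGroup.mk' N) with hL
  have hNL : N ≤ L := le_comap_mk' N C₀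
  have hmap : L.map (QuotientGroup.mk' N) = C₀ := map_comap_eq_self_of_surjective hs C₀
  have nN' : ∀ X : Subgroup G, X ≤ N(N) := fun _ => le_normalizer_of_normal
  have a1 : ∀ r : Nat.Primes, Hall {(r : ℕ)}ᶜ (K r ⊓ L) L ∧ L ≤ N(N ⊔ (K r ⊓ L)) := fun r => by
    have e : N ⊔ (K r ⊓ L) = ((K r).map (QuotientGroup.mk' N) ⊓ C₀).comap (QuotientGroup.mk' N) := by
      rw [comap_inf, comap_map_mk', ← hL, sup_comm (K r), inf_comm (N ⊔ K r),
        CfsgFT.inf_sup_left hNL (nN' _), inf_comm]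
    refine ⟨⟨inf_le_right, (hK' r).isPi.mono inf_le_left, ?_⟩, ?_⟩
    · rw [← relIndex_mul_relIndex _ (N ⊔ (K r ⊓ L)) L le_sup_right (sup_le hNL inf_le_right)]
      refine IsPiNum.mul ?_ ?_
      · rw [relIndex_sup_norm' (nN' _), ← inf_relIndex_right, inf_assoc, inf_eq_right.2 hNL]
        exact ((hK' r).inf_normal le_top (nN' _)).idx
      · rw [e, hL, relIndex_comap_comap_mk']; exact (c4 r).idx
    · rw [e, ← comap_normalizer_eq_of_surjective _ hs, (c4 r).normal_of_nilpotent c1]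
      exact comap_mono (le_normalizer_Opi _ _)
  obtain ⟨hQ, nQ⟩ := a1 ⟨p, hp⟩
  set Q := K ⟨p, hp⟩ ⊓ L with hQd
  have hQN : Q ⊓ N = ⊥ := by rw [inf_comm]; exact (isPi_singleton_iff.2 pN).inf_eq_bot hQ.isPi
  have hQC : Q ≤ L ⊓ N(Q) := le_inf hQ.le le_normalizer
  have hQ2 := hQ.mono hQC inf_le_left
  have f : N ⊔ (L ⊓ N(Q)) = L := by
    have := (hQ.mono le_sup_right (sup_le hNL hQ.le)).frattini_sup inferInstance (sup_le hNL hQ.le) nQ
    rwa [sup_assoc, sup_eq_right.2 hQC] at this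
  refine ⟨L ⊓ N(Q), ⟨?_, le_antisymm (fun x hx => mem_inf.2 ⟨?_, ?_⟩) le_normalizer⟩,
    le_inf ?_ ?_, fun r => ?_⟩
  · obtain ⟨P, hP⟩ := IsSylowIn.exists_sylowIn p (L ⊓ N(Q))
    have h1 := hP.hall.sup_eq hQ2
    have h2 : Group.IsNilpotent Q := by
      have := isNilpotent_of_le c1 (hmap ▸ map_mono hQ.le)
      exact Group.nilpotent_of_mulEquiv (G := Q.map (QuotientGroup.mk' N)) (MulEquiv.ofBijective
        ((QuotientGroup.mk' N).subgroupMap Q) ⟨by
          rw [← MonoidHom.ker_eq_bot_iff, ker_subgroupMap, QuotientGroup.ker_mk', subgroupOf_eq_bot,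
            disjoint_iff, inf_comm, hQN], MonoidHom.subgroupMap_surjective _ _⟩).symm
    rw [← h1]
    refine nilpotent_sup_of_cent hP.pgroup.isNilpotent h2 (cent_of_comm_eq_bot (eq_bot_iff.2 ?_))
    rw [← hQN]
    refine le_inf (comm_le_right (hP.le.trans inf_le_right)) ?_
    rw [← map_mk'_eq_bot_iff, Subgroup.map_commutator]
    exact comm_eq_bot (commute_of_nilpotent c1 (hmap ▸ map_mono (hP.le.trans inf_le_left))
      (hmap ▸ map_mono hQ.le) (coprime_pgroup_p' (hP.pgroup.map _) (hQ.isPi.map _)))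
  · have h1 : x ∈ N(N ⊔ L) := by
      rw [sup_eq_right.2 hNL, ← f]
      exact CfsgH1.le_normalizer_sup (nN' _) le_rfl hx
    rwa [← mem_norm_map_mk', hmap, c2] at h1
  · exact hQ2.norm_le_norm inf_le_right hx
  · exact map_le_iff_le_comap.1 (sysNorm_map hK N ▸ c3)
  · exact CfsgH1.le_normalizer_inf (sysNorm_le K _)
      (le_norm_of_le (map_le_iff_le_comap.1 (sysNorm_map hK N ▸ c3)))
  · by_cases e : r = ⟨p, hp⟩
    · rw [e, ← inf_assoc, inf_eq_left.2 le_normalizer]; exact hQ2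
    · obtain ⟨h1, h2⟩ := a1 r
      have h3 : N ≤ K r ⊓ L := h1.le_of_norm (isPi_compl_of_isPGroup pN fun e' =>
        e (Subtype.ext (Set.mem_singleton_iff.1 e').symm)) hNL (nN' _)
      rw [sup_eq_right.2 h3] at h2
      have := h1.normal_inf h2 (inf_le_left (b := N(Q)))
      rwa [inf_assoc, ← inf_assoc L, inf_idem] at this

theorem carter_conj {G : Type u} [Group G] [Finite G] [Group.IsSolvable G] {C D : Subgroup G}
    (hC : IsCarterSubgroup C) (hD : IsCarterSubgroup D) : ∃ g, cj g C = D := by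
  induction hn : Nat.card G using Nat.strong_induction_on generalizing G with | _ n ih => ?_
  subst hn
  have sub : ∀ {C D L : Subgroup G}, IsCarterSubgroup C → IsCarterSubgroup D → C ≤ L → D ≤ L →
      L ≠ ⊤ → ∃ g ∈ L, cj g C = D := fun hC hD h1 h2 hL => by
    obtain ⟨g, hg⟩ := ih _ (card_lt_of_ne_top hL) (carter_subgroupOf hC h1) (carter_subgroupOf hD h2) rfl
    exact ⟨g, g.2, conj_smul_eq_of_subgroupOf h1 h2 hg⟩
  rcases subsingleton_or_nontrivial G with _ | _
  · exact ⟨1, Subsingleton.elim _ _⟩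
  obtain ⟨N, p, hp, nN, bN, -, pN, -⟩ := exists_minNormal_of_isSolvable (G := G)
  haveI := Fact.mk hp
  have hs := QuotientGroup.mk'_surjective N
  have nN' : ∀ X : Subgroup G, X ≤ N(N) := fun _ => le_normalizer_of_normal
  have q : ∀ {C : Subgroup G}, IsCarterSubgroup C → IsCarterSubgroup (C.map (QuotientGroup.mk' N)) :=
    fun {C} hC => ⟨isNilpotent_map hC.1 _, le_antisymm (fun x hx => by
      obtain ⟨x, rfl⟩ := hs x
      rw [← mem_comap, comap_map_mk', sup_comm]
      by_cases e : N ⊔ C = ⊤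
      · rw [e]; trivial
      obtain ⟨g, hg, h⟩ := sub (carter_cj hC x) hC
        (cj_le_of_norm (mem_norm_map_mk'.1 hx) le_sup_right) le_sup_right e
      rw [CfsgH2.cj_cj, ← mem_norm_iff_cj, hC.2] at h
      simpa using mul_mem (inv_mem hg) (mem_sup_right h)) le_normalizer⟩
  obtain ⟨g, hg⟩ := ih _ (card_quotient_lt bN) (q hC) (q hD) rfl
  obtain ⟨g, rfl⟩ := hs g
  rw [CfsgH2.cj_eq_smul, ← map_conj_smul, ← CfsgH2.cj_eq_smul] at hg
  have hC' := carter_cj hC g
  suffices h : ∃ x, cj x (cj g C) = D by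
    obtain ⟨x, hx⟩ := h
    exact ⟨x * g, by rwa [← CfsgH2.cj_cj]⟩
  generalize cj g C = C at hg hC'
  have e1 : C ⊔ N = D ⊔ N := by rw [← comap_map_mk', hg, comap_map_mk']
  by_cases e : C ⊔ N = ⊤
  swap
  · obtain ⟨x, -, hx⟩ := sub hC' hD le_sup_left (e1 ▸ le_sup_left) e
    exact ⟨x, hx⟩
  have key : ∀ C : Subgroup G, IsCarterSubgroup C → C ⊔ N = ⊤ → Hall {p}ᶜ (Opi {p}ᶜ C) ⊤ ∧
      (N(Opi {p}ᶜ C) = ⊤ → C = ⊤) := fun C hC e => by
    have h1 : Hall {p}ᶜ (Opi {p}ᶜ C) ⊤ := (hall_Opi_of_nilpotent hC.1 _).trans_idx le_top (by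
      rw [← e, sup_comm]; exact IsPiNum.compl_compl.2 (idx_sup' (nN' _) (isPi_singleton_iff.2 pN)))
    refine ⟨h1, fun h2 => ?_⟩
    obtain ⟨P, hP, h3⟩ := IsSylowIn.exists_le (isPGroup_Opi (p := p) C) le_top
    have h4 : P ≤ Opi {p} C := by
      by_contra h4
      refine (CfsgH2.lt_inf_normalizer hP.pgroup (lt_of_le_of_ne h3 fun e => h4 e.ge)).not_ge ?_
      refine le_Opi_of_nilpotent hC.1 ?_ (hP.hall.isPi.mono inf_le_left)
      conv_rhs => rw [← hC.2, ← Opi_sup_Opi_compl hC.1 {p}]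
      exact CfsgH1.le_normalizer_sup inf_le_right (h2 ▸ le_top)
    exact top_unique ((hP.hall.sup_eq h1).ge.trans (sup_le (h4.trans (Opi_le _ _)) (Opi_le _ _)))
  obtain ⟨h1, h2⟩ := key C hC' e
  obtain ⟨h3, h4⟩ := key D hD (e1 ▸ e)
  obtain ⟨x, -, hx⟩ := h1.exists_cj_eq inferInstance h3
  by_cases e' : N(Opi {p}ᶜ D) = ⊤
  · refine ⟨x, ?_⟩
    rw [h4 e', h2, CfsgH2.cj_top]
    rwa [← hx, ← CfsgH2.cj_normalizer, CfsgH2.cj_eq_iff_eq_cj_inv, CfsgH2.cj_top] at e'
  · obtain ⟨y, -, hy⟩ := sub (carter_cj hC' x) hD (by rw [← hx, ← Opi_cj]; exact le_normalizer_Opi _ _)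
      (le_normalizer_Opi _ _) e'
    exact ⟨y * x, by rwa [← CfsgH2.cj_cj]⟩

theorem carter_norm_sup [Group.IsSolvable G] {C N : Subgroup G} [N.Normal]
    (hC : IsCarterSubgroup C) : N(N ⊔ C) = N ⊔ C := by
  refine le_antisymm (fun x hx => ?_) le_normalizer
  obtain ⟨g, hg⟩ := carter_conj (carter_subgroupOf (carter_cj hC x)
    (cj_le_of_norm hx (le_sup_right (a := N)))) (carter_subgroupOf hC le_sup_right)
  have h := conj_smul_eq_of_subgroupOf (cj_le_of_norm hx le_sup_right) le_sup_right hg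
  rw [← CfsgH2.cj_eq_smul, CfsgH2.cj_cj, ← mem_norm_iff_cj, hC.2] at h
  simpa using mul_mem (inv_mem g.2) (mem_sup_right h)

theorem carter_sup_eq_top [Group.IsSolvable G] {C N : Subgroup G} [N.Normal]
    (hC : IsCarterSubgroup C) (h : Group.IsNilpotent (G ⧸ N)) : N ⊔ C = ⊤ := by
  have h1 : C.map (QuotientGroup.mk' N) = ⊤ := by
    by_contra e
    obtain ⟨x, hx, hx'⟩ := SetLike.exists_of_lt (lt_inf_normalizer_of_nilpotent (K := ⊤) inferInstance
      (lt_top_iff_ne_top.2 e))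
    obtain ⟨x, rfl⟩ := QuotientGroup.mk'_surjective N x
    have := mem_norm_map_mk'.1 hx.2
    rw [carter_norm_sup hC, sup_comm, ← comap_map_mk'] at this
    exact hx' this
  rw [sup_comm, ← comap_map_mk', h1, comap_top]

theorem carter_sysNorm {F : Subgroup G} [F.Normal] (hF : Group.IsNilpotent F)
    (hGF : Group.IsNilpotent (G ⧸ F)) (hK : IsComplementSystem K) :
    IsCarterSubgroup (systemNormalizer K) := by
  haveI := isSolvable_of_normal_of_quotient F (isSolvable_of_nilpotent hF) inferInstance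
  obtain ⟨C, hC, h1, h2⟩ := exists_carter_sys hK
  refine le_antisymm h1 (le_iInf fun p => ?_) ▸ hC
  have h3 := complSys_iff.1 hK p
  have h4 := hall_Opi_of_nilpotent hF {(p : ℕ)}ᶜ
  have n : ∀ X : Subgroup G, X ≤ N(Opi {(p : ℕ)}ᶜ F) := fun _ =>
    le_normalizer_Opi_of _ le_normalizer_of_normal
  have h5 := h3.le_of_norm h4.isPi le_top (n _)
  have f : Fac F C ⊤ := carter_sup_eq_top hC hGF ▸ Fac.of_norm le_normalizer_of_normal
  rw [← (f.hall le_top le_top h3.isPi le_top h4 (h2 p) h5 inf_le_left).sup h5 inf_le_left]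
  refine CfsgH1.le_normalizer_sup (n _) ?_
  rw [(h2 p).normal_of_nilpotent hC.1]
  exact le_normalizer_Opi _ _

end CfsgH1
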