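import Cfsg.Prelude.Def_SporadicCombinatorics

/-! Monomial automorphisms of codes. -/

set_option autoImplicit false
set_option linter.style.haveILetI false
set_option linter.unusedSectionVars false

namespace CfsgH1.Code

open Cfsg Equiv

section Gen
variable {α F : Type*} [Field F] [Fintype α] [Fintype F] [DecidableEq α]

theorem mono_mul (σ τ : Perm α) (c d : α → Fˣ) (x : α → F) :
    monomialMap (σ * τ) (fun i => c i * d (σ.symm i)) x = monomialMap σ c (monomialMap τ d x) := by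
  ext i; simp [monomialMap, mul_assoc, Perm.mul_def]

theorem mono_inv (σ : Perm α) (c : α → Fˣ) (x : α → F) :
    monomialMap σ⁻¹ (fun i => (c (σ i))⁻¹) (monomialMap σ c x) = x := by
  ext i; simp [monomialMap, Perm.inv_def]

theorem mono_surj {C : Submodule F (α → F)} {σ : Perm α} {c : α → Fˣ} (h : ∀ x ∈ C, monomialMap σ c x ∈ C)
    {y : α → F} (hy : y ∈ C) : ∃ x ∈ C, monomialMap σ c x = y := by
  have : Function.Injective (fun x : C => (⟨_, h x.1 x.2⟩ : C)) := fun a b e => Subtype.ext (by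
    rw [← mono_inv σ c a.1, ← mono_inv σ c b.1]; exact congrArg _ (congrArg Subtype.val e))
  obtain ⟨x, e⟩ := Finite.injective_iff_surjective.1 this ⟨y, hy⟩
  exact ⟨x.1, x.2, congrArg Subtype.val e⟩

def K (C : Submodule F (α → F)) : Subgroup (Perm α) where
  carrier := {σ | ∃ c : α → Fˣ, ∀ x ∈ C, monomialMap σ c x ∈ C}
  one_mem' := ⟨1, fun x hx => by
    rwa [show monomialMap 1 1 x = x by ext i; simp [monomialMap, Perm.one_def]]⟩
  mul_mem' := fun ⟨c, hc⟩ ⟨d, hd⟩ => ⟨_, fun x hx => by rw [mono_mul]; exact hc _ (hd _ hx)⟩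
  inv_mem' := fun ⟨c, hc⟩ => ⟨_, fun y hy => by
    obtain ⟨x, hx, rfl⟩ := mono_surj hc hy
    rwa [mono_inv]⟩

theorem card_mono [Nonempty α] (C : Submodule F (α → F))
    (hd : ∀ c : α → Fˣ, (∀ x ∈ C, monomialMap 1 c x ∈ C) → ∀ i j, c i = c j) :
    Nat.card {f : Perm α × (α → Fˣ) // ∀ x ∈ C, monomialMap f.1 f.2 x ∈ C} = Nat.card (K C) * Nat.card Fˣ := by
  rw [← Nat.card_prod]
  obtain ⟨i0⟩ : Nonempty α := inferInstance
  symm
  refine Nat.card_eq_of_bijective (fun s => ⟨(s.1.1, fun i => s.2 * s.1.2.choose i), fun x hx => ?_⟩) ⟨?_, ?_⟩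
  · have := C.smul_mem (s.2 : F) (s.1.2.choose_spec x hx)
    convert this using 1
    ext i; simp [monomialMap, mul_assoc]
  · rintro ⟨σ, a⟩ ⟨τ, b⟩ e
    have e1 : σ = τ := Subtype.ext (congrArg (fun f => f.1.1) e)
    subst e1
    have e2 := congrFun (congrArg (fun f => f.1.2) e) i0
    simpa using e2
  · rintro ⟨⟨σ, c⟩, h⟩
    have hσ : σ ∈ K C := ⟨c, h⟩
    have := hd (fun i => c i * (hσ.choose i)⁻¹) fun y hy => by
      obtain ⟨x, hx, rfl⟩ := mono_surj hσ.choose_spec hy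
      convert h x hx using 1
      ext i; simp [monomialMap, mul_assoc, Perm.one_def]
    refine ⟨(⟨σ, hσ⟩, c i0 * (hσ.choose i0)⁻¹), Subtype.ext (Prod.ext rfl (funext fun i => ?_))⟩
    show c i0 * (hσ.choose i0)⁻¹ * hσ.choose i = c i
    rw [this i0 i, inv_mul_cancel_right]

theorem chain {n : ℕ} (H : Subgroup (Perm α)) (b : Fin n → α)
    (h : ∀ (k : Fin n) (j : α), (∀ i < k, j ≠ b i) → ∃ g ∈ H, (∀ i < k, g (b i) = b i) ∧ g j = b k)
    {x : Fin n → α} (hx : Function.Injective x) : ∃ g ∈ H, ∀ i, g (x i) = b i := by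
  have : ∀ m ≤ n, ∃ g ∈ H, ∀ i : Fin n, i.1 < m → g (x i) = b i := fun m hm => by
    induction m with
    | zero => exact ⟨1, one_mem _, by simp⟩
    | succ m ih =>
      obtain ⟨g, hg, e⟩ := ih (by omega)
      obtain ⟨g', hg', e1, e2⟩ := h ⟨m, hm⟩ (g (x ⟨m, hm⟩)) fun i hi k => by
        rw [← e i hi] at k
        exact hi.ne' (hx (g.injective k))
      refine ⟨g' * g, mul_mem hg' hg, fun i hi => ?_⟩
      rcases Nat.lt_succ_iff_lt_or_eq.1 hi with k | k
      · rw [Perm.mul_apply, e i k, e1 i k]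
      · rw [show i = ⟨m, hm⟩ from Fin.ext k]; exact e2
  obtain ⟨g, hg, e⟩ := this n le_rfl
  exact ⟨g, hg, fun i => e i i.2⟩

theorem mem_K {C : Submodule F (α → F)} {S : Set (α → F)} (hS : C ≤ Submodule.span F S) {f : α → α}
    (hf : Function.Injective f) (c : α → Fˣ) (h : ∀ x ∈ S, (fun i => (c i : F) * x (f i)) ∈ C) :
    ∃ g ∈ K C, ∀ i, g (f i) = i := by
  let e := Equiv.ofBijective f (Finite.injective_iff_bijective.1 hf)
  refine ⟨e.symm, ⟨c, fun x hx => ?_⟩, fun i => e.symm_apply_apply i⟩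
  show (fun i => (c i : F) * x (f i)) ∈ C
  have hx' := hS hx
  clear hx
  induction hx' using Submodule.span_induction with
  | mem x hx => exact h x hx
  | zero => convert C.zero_mem using 1; ext i; simp
  | add x y _ _ h1 h2 => convert C.add_mem h1 h2 using 1; ext i; simp [mul_add]
  | smul a x _ h1 => convert C.smul_mem a h1 using 1; ext i; simp [mul_left_comm]

end Gen

end CfsgH1.Code
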