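import Cfsg.Agent.H1.Dk6
import Cfsg.Agent.H2.MC
import Cfsg.Agent.H2.Diag

/-! Applications of Dickson's theorem. -/

set_option autoImplicit false
set_option linter.style.haveILetI false
set_option linter.unusedSectionVars false

namespace CfsgH1.L2

open Matrix Subgroup Cfsg CfsgH2 CfsgH9
open Matrix.SpecialLinearGroup (toGL)
open scoped commutatorElement

local notation "C1(" x ")" => Subgroup.centralizer (Singleton.singleton x : Set _)
local notation "N(" x ")" => Subgroup.normalizer (SetLike.coe x)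
local notation "C(" x ")" => Subgroup.centralizer (SetLike.coe x)

section
variable {G : Type*} [Group G] [Finite G]

theorem sl23_of (hz : ∀ z : G, orderOf z = 2 → z ∈ center G) {P : Subgroup G} (e : P ≃* QuaternionGroup 2) {g : G}
    (hg : g ∈ N(P)) (h3 : g ^ 3 = 1) (hc : g ∉ C(P)) :
    Nonempty (↥(P ⊔ zpowers g) ≃* Matrix.SpecialLinearGroup (Fin 2) (ZMod 3)) := by
  obtain ⟨a, b, k⟩ := mc_of_quaternion (n := 0) e
  obtain ⟨j, ⟨-, -, e⟩ | ⟨e0, e1, e2⟩⟩ := k.odd_act le_rfl hg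
    (Odd.of_dvd_nat (by decide : Odd 3) (orderOf_dvd_of_pow_eq_one h3)) hc
  · rw [mem_center_iff.1 (hz _ k.orderOf_z) g, mul_inv_cancel_right] at e
    exact absurd (e ▸ zpow_mem (mem_zpowers a) _) (k.toIdx2.pow_mul_notMem j)
  have h4 := k.q8_of e0
  rw [← e1] at h4
  exact sl23_of_act h4 k.orderOf_c hg h3 e2

theorem der_sup_zp {R : Subgroup G} {a : G} (h : a ∈ N(R)) : ⁅R ⊔ zpowers a, R ⊔ zpowers a⁆ ≤ R := by
  have hn : zpowers a ≤ N(R) := zpowers_le.2 h
  refine commutator_le.2 fun x hx y hy => ?_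
  obtain ⟨r, hr, _, ⟨i, rfl⟩, rfl⟩ := (mem_sup_of_normalizer hn).1 hx
  obtain ⟨s, hs, _, ⟨j, rfl⟩, rfl⟩ := (mem_sup_of_normalizer hn).1 hy
  have e : ⁅r * a ^ i, s * a ^ j⁆ = r * (a ^ i * s * (a ^ i)⁻¹) * (a ^ j * r⁻¹ * (a ^ j)⁻¹) * s⁻¹ := by
    rw [commutatorElement_def]; group
  show ⁅r * a ^ i, s * a ^ j⁆ ∈ R
  rw [e]
  exact mul_mem (mul_mem (mul_mem hr (conj_mem_of_mem_normalizer (zpow_mem h i) hs))
    (conj_mem_of_mem_normalizer (zpow_mem h j) (inv_mem hr))) (inv_mem hs)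

theorem mem_of_sq_mem {H : Subgroup G} {a : G} (ho : Odd (orderOf a)) (h : a * a ∈ H) : a ∈ H := by
  obtain ⟨m, hm⟩ := exists_pow_eq_self_of_coprime (x := a) (n := 2) (Nat.coprime_two_left.2 ho)
  rw [← hm, sq]; exact pow_mem h m

theorem klein_of {H R : Subgroup G} (hn : NCN H) (hR : R ≤ H) (hH : H ≤ N(R)) (h0 : R ≠ ⊥) {C : Subgroup R}
    (hC : IsCyclic C) (hi : C.index ≤ 2) : IsKleinFour R := by
  have hc : IsCyclic (C.map R.subtype) := (C.equivMapOfInjective _ R.subtype_injective).isCyclic.1 hC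
  have sq : ∀ x ∈ R, x * x ∈ C.map R.subtype := fun x hx => ⟨⟨x, hx⟩ * ⟨x, hx⟩, by
    rcases (show C.index = 1 ∨ C.index = 2 by have := C.index_ne_zero_of_finite; omega) with e | e
    · rw [index_eq_one.1 e]; trivial
    · exact mul_self_mem_of_index_two e _, rfl⟩
  have hM : closure {y | ∃ x ∈ R, x * x = y} ≤ C.map R.subtype := (closure_le _).2 fun _ ⟨x, hx, e⟩ => e ▸ sq x hx
  obtain ⟨m, hm⟩ := exists_gen (cyc_of_le hc hM)
  have m1 : m = 1 := ncn_zp hn (hR (map_subtype_le _ (hM (hm ▸ mem_zpowers m)))) fun g hg => by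
    rw [← hm]
    refine mem_normalizer_of_cj_le ?_
    rw [CfsgH2.cj, MonoidHom.map_closure, closure_le]
    rintro _ ⟨_, ⟨x, hx, rfl⟩, rfl⟩
    exact subset_closure ⟨_, conj_mem_of_mem_normalizer (hH hg) hx, by simp [mul_assoc]⟩
  have s1 : ∀ x ∈ R, x * x = 1 := fun x hx => by
    have : x * x ∈ closure {y | ∃ x ∈ R, x * x = y} := subset_closure ⟨x, hx, rfl⟩
    rwa [hm, m1, zpowers_one_eq_bot, mem_bot] at this
  refine isKleinFour_iff.2 ⟨?_, s1⟩
  have nc : ¬ IsCyclic R := fun k => by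
    obtain ⟨r, hr⟩ := exists_gen k
    subst hr
    exact h0 (by rw [ncn_zp hn (hR (mem_zpowers r)) hH, zpowers_one_eq_bot])
  have c2 : Nat.card C ∣ 2 := by
    rw [← hC.exponent_eq_card]
    exact Monoid.exponent_dvd_of_forall_pow_eq_one fun x => by
      rw [pow_two]; exact Subtype.ext (Subtype.ext (s1 _ x.1.2))
  have e := C.card_mul_index
  have c3 := Nat.le_of_dvd two_pos c2
  have : Nat.card R ≤ 4 := by nlinarith
  have p : 0 < Nat.card R := Nat.card_pos
  haveI : Fact (Nat.Prime 3) := ⟨by norm_num⟩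
  interval_cases k : Nat.card R
  · exact (h0 (card_eq_one.1 k)).elim
  · exact (nc (isCyclic_of_prime_card k)).elim
  · exact (nc (isCyclic_of_prime_card k)).elim
  · rfl
end

variable {F : Type*} [Field F] [Fintype F] [DecidableEq F]

local notation "q" => Fintype.card F

theorem neg_mem_of_even (h2 : (2 : F) ≠ 0) {H : Subgroup (S2 F)} (h : 2 ∣ Nat.card H) : -1 ∈ H := by
  obtain ⟨z, hz⟩ := exists_prime_orderOf_dvd_card' 2 h
  rw [← orderOf_coe] at hz
  rcases scS.1 ((mul_self_iff h2).1 (mul_self_of_orderOf_two hz)) with e | e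
  · exact absurd e (ne_one_of_orderOf_two hz)
  · exact e ▸ z.2

variable (p : ℕ) [hp : Fact p.Prime] [CharP F p]

theorem two_ne' (hp2 : p ≠ 2) : (2 : F) ≠ 0 := fun e =>
  hp2 ((Nat.prime_dvd_prime_iff_eq hp.out Nat.prime_two).1 ((CharP.cast_eq_zero_iff F p 2).1 (by exact_mod_cast e)))

theorem unip_not_TN (hp2 : p ≠ 2) {a : S2 F} (h : a ^ p = 1) (h1 : a ≠ 1) {w : G2 F} (hw : Ss w.val) :
    sp a ∉ N(C1(w)).map pg := fun k => by
  have o : orderOf a = p := orderOf_eq_prime h h1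
  have u := unip_of_order p (g := toGL a) ((orderOf_tG a).trans o)
  have k' := (mem_map_pg ((center_le_centralizer _).trans le_normalizer)).1 k
  exact (hw.of_mem (mem_of_sq_mem (by rw [orderOf_tG, o]; exact hp.out.odd_of_ne_two hp2) (hw.sq_mem k'))
    u.2).not_ev u.1

theorem s3740 (hp2 : p ≠ 2) (a : S2 F) (ha : IsPGroup p (zpowers a)) (R : Subgroup (S2 F))
    (hR : (Nat.card R).Coprime p) (haR : a ∈ N(R)) (hnt : ⁅R, zpowers a⁆ ≠ ⊥) :
    p = 3 ∧ Nonempty (R ≃* QuaternionGroup 2) ∧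
      Nonempty (↥(R ⊔ zpowers a) ≃* Matrix.SpecialLinearGroup (Fin 2) (ZMod 3)) := by
  have h2 : (2 : F) ≠ 0 := two_ne' p hp2
  obtain ⟨k, hk⟩ := exists_orderOf_eq_pow ha (mem_zpowers a)
  have ta : tr a = 2 := tr_of_pow p (k := k) (hk ▸ pow_orderOf_eq_one a)
  have ap : a ^ p = 1 := pow_char_of_tr p ta
  have one : ∀ x ∈ R, x ^ p = 1 → x = 1 := fun x hx e =>
    orderOf_eq_one_iff.1 (Nat.eq_one_of_dvd_coprimes hR (orderOf_dvd_natCard R hx) (orderOf_dvd_of_pow_eq_one e))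
  have hc : a ∉ C(R) := fun e => hnt (by
    rw [commutator_comm, commutator_eq_bot_iff_le_centralizer]; exact zpowers_le.2 e)
  have a1 : a ≠ 1 := fun e => hc (e ▸ one_mem _)
  have cm : ∀ r ∈ R, r * a * r⁻¹ * a⁻¹ ∈ R := fun r hr => by
    simpa only [mul_assoc] using mul_mem hr (conj_mem_of_mem_normalizer haR (inv_mem hr))
  obtain ⟨r, hr, hn⟩ : ∃ r ∈ R, a * (r * a * r⁻¹) ≠ r * a * r⁻¹ * a := by
    by_contra e
    push Not at e
    refine hc fun r hr => ?_
    have := one _ (cm r hr) (by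
      rw [(Commute.inv_right (e r hr).symm).mul_pow, conj_pow, inv_pow, ap]; simp)
    rwa [mul_inv_eq_one, mul_inv_eq_iff_eq_mul] at this
  have p3 : p = 3 := by
    by_contra h3
    obtain ⟨c, hc⟩ := dickson_pair p hp2 (R ⊔ zpowers a) (mem_sup_right (mem_zpowers a))
      (mul_mem (mul_mem (mem_sup_left hr) (mem_sup_right (mem_zpowers a))) (mem_sup_left (inv_mem hr))) ta
      ((tr_conj r a).trans ta) hn
    have t : ∀ n : ℕ, ((n : ℕ) : ZMod p) = 0 → p ∣ n := fun n => (CharP.cast_eq_zero_iff _ p n).1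
    have pf := CfsgH5.commutator_SL (ι := Fin 2) (F := ZMod p) (Or.inr ⟨2, two_ne' p hp2, fun e =>
      h3 ((Nat.prime_dvd_prime_iff_eq hp.out Nat.prime_three).1 (t 3 (by push_cast; linear_combination e)))⟩)
    let φ := (conjSL c).comp (slp p F)
    have m : φ (Tm 1) ∈ R := der_sup_zp haR (by
      have : φ (Tm 1) ∈ (_root_.commutator _).map φ := ⟨_, pf ▸ mem_top _, rfl⟩
      rw [_root_.commutator, map_commutator] at this
      have k : (⊤ : Subgroup _).map φ ≤ R ⊔ zpowers a := by rintro _ ⟨x, _, rfl⟩; exact hc x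
      exact commutator_mono k k this)
    have := one _ m (by rw [← map_pow, Tm_pow, CharP.cast_eq_zero, zero_mul, Tm_zero, map_one])
    have := ((conjSL_injective c).comp (slp_injective p)) (this.trans (map_one φ).symm)
    simpa using congrArg (fun m : S2 (ZMod p) => m.1 0 1) this
  have spk : ∀ x : S2 F, sp x = 1 → x = 1 ∨ x = -1 := fun x e => scS.1 (pg_eq_one.1 e)
  have hn : NCN ((R ⊔ zpowers a).map sp) := by
    by_contra k
    obtain ⟨w, hw, k⟩ := of_not_ncn k
    rcases ss_or_B hw with e | ⟨c, e⟩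
    · exact unip_not_TN p hp2 ap a1 e (k ⟨_, mem_sup_right (mem_zpowers a), rfl⟩)
    have m : ∀ {x}, x ∈ R ⊔ zpowers a → sp x ∈ cj c (BP F) := fun hx => e (k ⟨_, hx, rfl⟩)
    have s : sp a ^ p = 1 := by rw [← map_pow, ap, map_one]
    have := comm_of_B p (m (mem_sup_right (mem_zpowers a))) (m (mul_mem (mul_mem (mem_sup_left hr)
      (mem_sup_right (mem_zpowers a))) (mem_sup_left (inv_mem hr)))) s (by rw [← map_pow, conj_pow, ap]; simp)
    rw [← map_mul, ← map_mul, ← mul_inv_eq_one, ← map_inv, ← map_mul] at this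
    rcases spk _ this with e | e
    · exact hn (mul_inv_eq_one.1 e)
    · have t1 := (tr_conj (r * a * r⁻¹)⁻¹ a).trans ta
      rw [mul_inv_eq_iff_eq_mul] at e
      rw [inv_inv, mul_assoc, e, neg_one_mul, mul_neg, inv_mul_cancel_left] at t1
      have : tr (-a) = -tr a := by simp [tr]; ring
      rw [this, ta] at t1
      exact mul_ne_zero h2 h2 (by linear_combination -t1)
  have nd : ¬ p ∣ Nat.card (R.map sp) := fun k =>
    (hp.out.coprime_iff_not_dvd.1 hR.symm) (k.trans (card_map_dvd _ _))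
  have h0 : R.map sp ≠ ⊥ := fun e => hc fun x hx => by
    have : sp x ∈ R.map sp := ⟨x, hx, rfl⟩
    rcases spk x (by rwa [e] at this) with rfl | rfl <;> simp
  subst p3
  obtain ⟨C, c1, -, c2⟩ : ∃ C : Subgroup (R.map sp), IsCyclic C ∧ C ≠ ⊥ ∧ C.index ≤ 2 := by
    refine (ncn_caseA 3 nd h0).resolve_right ?_
    rintro (e | e | e) <;> exact nd (by rw [e]; norm_num)
  have kl := klein_of hn (map_mono le_sup_left) (by
    refine le_trans (map_mono (sup_le le_normalizer (zpowers_le.2 haR))) (le_normalizer_map _)) h0 c1 c2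
  rw [← map_io_pr] at kl
  have kl' := isKleinFour_of_equiv ((R.map pr).equivMapOfInjective _ io_inj).symm kl
  obtain ⟨i, j, hq, e⟩ := klein_qu h2 kl'
  rw [comap_map_pr (neg_mem_of_even h2 ((show 2 ∣ Nat.card (R.map pr) by
    rw [(isKleinFour_iff.1 kl').1]; norm_num).trans (card_map_dvd _ _)))] at e
  obtain ⟨f⟩ := hq.equiv
  rw [← e] at f
  refine ⟨rfl, ⟨f⟩, sl23_of (fun z hz => ?_) f haR ap hc⟩
  exact mem_centerS.2 ((mul_self_iff h2).1 (mul_self_of_orderOf_two hz))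

omit hp in
theorem top_of_sub {K : Type*} [Field K] (f : K →+* F) {lam : F} (hgen : Subfield.closure {lam} = ⊤)
    (h : ∃ k, f k = lam) : Function.Surjective f := fun x => by
  have : Subfield.closure {lam} ≤ f.fieldRange := Subfield.closure_le.2 (Set.singleton_subset_iff.2 h)
  exact this (hgen ▸ trivial : x ∈ Subfield.closure {lam})

theorem s0801 (hp2 : p ≠ 2) {lam : F} (hlam : lam ≠ 0) (hgen : Subfield.closure {lam} = ⊤) :
    (closure {Lm 1, Tm lam} = (⊤ : Subgroup (S2 F)) ∧ ¬ (q = 9 ∧ lam ^ 2 = -1)) ∨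
      (q = 9 ∧ lam ^ 2 = -1 ∧ Nat.card (closure ({Lm 1, Tm lam} : Set (S2 F))) = 120) := by
  have h2 : (2 : F) ≠ 0 := two_ne' p hp2
  have ho := odd_q h2
  obtain ⟨H, hH⟩ : ∃ H, H = closure ({Lm 1, Tm lam} : Set (S2 F)) := ⟨_, rfl⟩
  have hL : Lm 1 ∈ H := hH ▸ subset_closure (by simp)
  have hT : Tm lam ∈ H := hH ▸ subset_closure (by simp)
  rw [← hH]
  have t1 : (Lm 1 * Tm lam : S2 F).val.trace = 2 + lam := by simp [trace_fin_two]; ring
  have t2 : ((Lm 1)⁻¹ * Tm lam : S2 F).val.trace = 2 - lam := by rw [Lm_inv]; simp [trace_fin_two]; ring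
  by_cases e : H.map pr = ⊤
  · have c := card_P2 (F := F)
    rw [d_odd ho] at c
    have q3 : 3 ≤ q := by have := two_le_q (F := F); obtain ⟨k, hk⟩ := ho; omega
    have ev : 2 ∣ Nat.card (H.map pr) := by
      obtain ⟨V, hV⟩ := exists_klein ho
      exact Dvd.dvd.trans (by rw [(isKleinFour_iff.1 hV).1]; norm_num) (card_dvd_of_le (e ▸ le_top : V ≤ _))
    refine .inl ⟨by rw [← comap_map_pr (neg_mem_of_even h2 (ev.trans (card_map_dvd _ _))), e, comap_top], ?_⟩
    rintro ⟨h9, hl⟩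
    have h3 : (3 : F) = 0 := by
      have := FiniteField.cast_card_eq_zero F
      rw [h9] at this
      exact pow_eq_zero_iff two_ne_zero |>.1 (by exact_mod_cast (by linear_combination this : (3 : F) ^ 2 = 0))
    have x3 : pr (Lm (1 : F)) ^ 3 = 1 := by rw [← map_pow, Lm_pow]; simp [h3, Lm_zero]
    have c5 : pr (Lm 1 * Tm lam) ^ 5 = 1 := (pr_pow (by simp [Sc])).2.2.2 (by
      rw [t1]; linear_combination (lam ^ 2 + 8 * lam + 20) * hl + (4 * lam - 5) * h3)
    have a2 : pr (Lm 1 * (Tm lam)⁻¹ * (Lm 1)⁻¹ * (Tm lam)⁻¹) ^ 2 = 1 := by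
      rw [← map_pow, sq, sq_of_tr, pr_neg, map_one]
      rw [Tm_inv, Lm_inv]; simp [trace_fin_two]; linear_combination -hl + h3
    simp only [map_mul, map_inv] at c5 a2
    have k : closure {pr (Lm (1 : F)), pr (Tm lam)} = ⊤ := by
      rw [← e, hH, MonoidHom.map_closure, Set.image_pair]
    generalize pr (Lm (1 : F)) = x at *
    generalize pr (Tm lam) = y at *
    have le := card_le_60 (a := x⁻¹ * ((x * y) ^ 2)⁻¹) (c := (x * y) ^ 2) (by
      have : x⁻¹ * ((x * y) ^ 2)⁻¹ = x * (x * y⁻¹ * x⁻¹ * y⁻¹) * x⁻¹ := by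
        rw [show x * (x * y⁻¹ * x⁻¹ * y⁻¹) * x⁻¹ = x ^ 3 * (x⁻¹ * ((x * y) ^ 2)⁻¹) by
          simp only [pow_succ, pow_zero, one_mul, _root_.mul_inv_rev, mul_assoc, mul_inv_cancel_left], x3, one_mul]
      rw [this]; exact conj_mul_self (by rwa [sq] at a2) x) (by rw [← pow_mul, mul_comm, pow_mul, c5, one_pow])
      (by rw [inv_mul_cancel_right, inv_pow, x3, inv_one])
    have : closure {x, y} ≤ closure ({x⁻¹ * ((x * y) ^ 2)⁻¹, (x * y) ^ 2} : Set (P2 F)) := by
      have m1 : x⁻¹ * ((x * y) ^ 2)⁻¹ ∈ closure ({x⁻¹ * ((x * y) ^ 2)⁻¹, (x * y) ^ 2} : Set (P2 F)) :=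
        subset_closure (by simp)
      have m2 : (x * y) ^ 2 ∈ closure ({x⁻¹ * ((x * y) ^ 2)⁻¹, (x * y) ^ 2} : Set (P2 F)) := subset_closure (by simp)
      have m3 := inv_mem (mul_mem m1 m2)
      have m4 := pow_mem m2 3
      rw [← pow_mul, show 2 * 3 = 5 + 1 from rfl, pow_succ _ 5, c5, one_mul] at m4
      rw [inv_mul_cancel_right, inv_inv] at m3
      rw [closure_le, Set.pair_subset_iff]
      exact ⟨m3, by simpa using mul_mem (inv_mem m3) m4⟩
    have := card_le_of_le this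
    rw [k, card_top] at this
    rw [h9] at c; omega
  right
  have m : ∀ {x}, x ∈ H → sp x ∈ (H.map pr).map io := fun hx => ⟨_, ⟨_, hx, rfl⟩, rfl⟩
  have L1 : Lm (1 : F) ≠ 1 := fun e => by simpa using congrArg (fun m : S2 F => m.1 1 0) e
  have Lp : Lm (1 : F) ^ p = 1 := by rw [Lm_pow, CharP.cast_eq_zero, zero_mul, Lm_zero]
  rcases dickson' p (map_io_ne e) with ⟨w, hw, k⟩ | ⟨c, k⟩ | ⟨hn, -, k⟩ | ⟨K, _, _, f, c, n, k1, k2, k3, k⟩
  · exact (unip_not_TN p hp2 Lp L1 hw (k (m hL))).elim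
  · exact (not_B (e := 1) hlam one_ne_zero (by simpa using k (m hT)) (by simpa using k (m hL))).elim
  · have o : orderOf (sp (Lm (1 : F))) = p := orderOf_eq_prime (Lm_pow_p p 1) fun e => by
      simpa [Sc] using pg_eq_one.1 e
    obtain ⟨rfl, c60⟩ := k.resolve_left fun k => k (o ▸ orderOf_dvd_natCard _ (m hL))
    have h3 : (3 : F) = 0 := CharP.cast_eq_zero F 3
    have q4 : 4 ≤ q := by
      have := card_le_of_le (map_io_le (H.map pr))
      have c := card_LP (F := F)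
      rw [d_odd ho] at c
      by_contra k
      have : q = 3 := by have := two_le_q (F := F); obtain ⟨k, hk⟩ := ho; omega
      rw [this] at c; omega
    have np : lam ≠ 1 ∧ lam ≠ -1 := by
      have s := fun h => (Fintype.card_le_of_surjective _ (top_of_sub (ZMod.castHom (dvd_refl 3) F) hgen h))
      rw [ZMod.card] at s
      exact ⟨fun e => absurd (s ⟨1, by simp [e]⟩) (by omega), fun e => absurd (s ⟨-1, by simp [e]⟩) (by omega)⟩
    have key : ∀ s ∈ H, ¬ Sc s.val → ∀ t, s.val.trace = t → t = 0 ∨ t ^ 2 = 1 ∨ t ^ 4 - 3 * t ^ 2 + 1 = 0 := by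
      rintro s hs h _ rfl
      have := (ncn_order hn (m hs)).2.2 c60
      rw [← io_pr, orderOf_injective _ io_inj] at this
      simp only [orderOf_dvd_iff_pow_eq_one] at this
      rwa [(pr_pow h).1, (pr_pow h).2.1, (pr_pow h).2.2] at this
    have k1 := key _ (mul_mem hL hT) (by simp [Sc]) _ t1
    have k2 := key _ (mul_mem (inv_mem hL) hT) (by rw [Lm_inv]; simp [Sc]) _ t2
    have hl : lam ^ 2 = -1 := by
      have n1 := np.1
      have n2 := np.2
      grind
    refine ⟨?_, hl, ?_⟩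
    · obtain ⟨n, -, hn⟩ := FiniteField.card F 3
      let φ : F →+* F := iterateFrobenius F 3 2
      have : ∀ x : F, x ^ 9 = x := fun x => by
        have : Subfield.closure {lam} ≤ φ.eqLocusField (RingHom.id F) := Subfield.closure_le.2 (by
          rw [Set.singleton_subset_iff]
          show lam ^ 3 ^ 2 = lam
          linear_combination (lam ^ 7 - lam ^ 5 + lam ^ 3 - lam) * hl)
        exact this (hgen ▸ trivial : x ∈ Subfield.closure {lam})
      have e8 : Monoid.exponent Fˣ ∣ 8 := Monoid.exponent_dvd_of_forall_pow_eq_one fun u => Units.ext (by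
        have := this u
        rw [pow_succ, mul_left_eq_self₀] at this
        simpa using this)
      rw [IsCyclic.exponent_eq_card, card_units'] at e8
      have := Nat.le_of_dvd (by norm_num) e8
      have d3 : 3 ∣ q := p_dvd_q 3
      obtain ⟨k, hk⟩ := ho
      omega
    · rw [card_map_io] at c60
      have := card_map_pr (neg_mem_of_even h2 ((show 2 ∣ Nat.card (H.map pr) by rw [c60]; norm_num).trans
        (card_map_dvd _ _)))
      rw [c60, d_odd ho] at this
      exact this.symm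
  · exfalso
    have k' := (le_RG_of k).2
    obtain ⟨a, ha⟩ := tr_sq_mem f (k' (m (mul_mem hL hT)))
    obtain ⟨b, hb⟩ := tr_sq_mem f (k' (m (mul_mem (inv_mem hL) hT)))
    rw [t1] at ha
    rw [t2] at hb
    have := Fintype.card_le_of_surjective _ (top_of_sub f hgen ⟨(a - b) / 2 ^ 3, by
      rw [map_div₀, map_sub, ha, hb, map_pow, map_ofNat]; field_simp; ring⟩)
    have := (lt_of_pow k1 k2).2
    omega

end CfsgH1.L2
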