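import Cfsg.Agent.H1.Dk7
import Cfsg.Agent.H1.Hall
import Cfsg.Agent.S0675
import Cfsg.Agent.H2.SylNum

/-! More applications of Dickson's theorem. -/

set_option autoImplicit false
set_option linter.style.haveILetI false
set_option linter.unusedSectionVars false

namespace CfsgH1.L2

open Matrix Subgroup Cfsg CfsgH2 CfsgH9
open Matrix.SpecialLinearGroup (toGL)
open scoped commutatorElement

local notation "C1(" x ")" => Subgroup.centralizer (Singleton.singleton x : Set _)
local notation "N(" x ")" => Subgroup.normalizer (SetLike.coe x)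
local notation "C(" x ")" => Subgroup.centralizer (SetLike.coe x)
local notation "A5" => alternatingGroup (Fin 5)

section
variable {G : Type*} [Group G] [Finite G]

theorem two_trans [IsSimpleGroup G] (hs : ¬ Group.IsSolvable G) {H : Subgroup G} (h : H.index.Prime) :
    MulAction.IsMultiplyPretransitive G (G ⧸ H) 2 := by
  classical
  haveI := Fintype.ofFinite (G ⧸ H)
  haveI : MulAction.IsPretransitive (MulAction.toPermHom G (G ⧸ H)).range (G ⧸ H) := ⟨fun x y => by
    obtain ⟨g, e⟩ := MulAction.exists_smul_eq G x y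
    exact ⟨⟨_, g, rfl⟩, e⟩⟩
  rcases Cfsg.Agent.S0675.result (by rwa [← Nat.card_eq_fintype_card]) (MulAction.toPermHom G (G ⧸ H)).range with k | k
  · refine (hs ?_).elim
    have : (MulAction.toPermHom G (G ⧸ H)).ker = ⊥ := by
      refine (IsSimpleGroup.eq_bot_or_eq_top_of_normal _ inferInstance).resolve_right fun e => ?_
      rw [← normalCore_eq_ker] at e
      rw [eq_top_iff.2 (e.ge.trans (normalCore_le H)), index_top] at h; exact Nat.not_prime_one h
    exact Group.isSolvable_of_isSolvable_injective (f := (MulAction.toPermHom G (G ⧸ H)).rangeRestrict)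
      (by rwa [← MonoidHom.ker_eq_bot_iff, MonoidHom.ker_rangeRestrict])
  · rw [MulAction.isMultiplyPretransitive_iff] at k ⊢
    intro x y
    obtain ⟨⟨_, g, rfl⟩, e⟩ := k x y
    exact ⟨g, e⟩

def MN (G : Type*) [Group G] : Prop := ∀ H : Subgroup G, ¬ H.Normal → IsCoatom N(H)

theorem MN.of_surj {K : Type*} [Group K] (h : MN K) {f : G →* K} (hf : Function.Surjective f)
    (k : ∀ H : Subgroup G, N(H.map f).comap f ≤ N(H)) : MN G := fun H hH => by
  have e : N(H) = N(H.map f).comap f := le_antisymm (map_le_iff_le_comap.1 (le_normalizer_map _)) (k H)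
  rw [e]
  exact isCoatom_comap_of_surjective hf (h _ fun n => hH (by
    rw [← normalizer_eq_top_iff, e, normalizer_eq_top, comap_top]))

theorem MN.equiv {K : Type*} [Group K] (h : MN K) (e : G ≃* K) : MN G :=
  h.of_surj (f := e.toMonoidHom) e.surjective fun H g hg => mem_normalizer_of_conj_mem fun x hx => by
    obtain ⟨y, hy, k⟩ := conj_mem_of_mem_normalizer hg ⟨x, hx, rfl⟩
    rwa [← e.injective (k.trans (by simp) : _ = e (g * x * g⁻¹))]

theorem MN.prod (h : MN G) {S : Type*} [CommGroup S] [Finite S] (hc : (Nat.card G).Coprime (Nat.card S)) :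
    MN (G × S) := h.of_surj (f := MonoidHom.fst G S) Prod.fst_surjective fun H g hg =>
  mem_normalizer_of_conj_mem fun x hx => by
    have k : ∀ y ∈ H, (y.1, 1) ∈ H := fun y hy => by
      obtain ⟨m, h1, h2⟩ := Nat.chineseRemainder hc 1 0
      have e1 : y.1 ^ m = y.1 ^ 1 := pow_eq_pow_iff_modEq.2 (h1.of_dvd (_root_.orderOf_dvd_natCard y.1))
      have e2 : y.2 ^ m = y.2 ^ 0 := pow_eq_pow_iff_modEq.2 (h2.of_dvd (_root_.orderOf_dvd_natCard y.2))
      have := pow_mem hy m
      rwa [show y ^ m = (y.1, 1) from Prod.ext (e1.trans (pow_one _)) (e2.trans (pow_zero _))] at this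
    obtain ⟨y, hy, e⟩ := conj_mem_of_mem_normalizer hg ⟨x, hx, rfl⟩
    convert mul_mem (k y hy) (mul_mem (inv_mem (k x hx)) hx) using 1
    exact Prod.ext (by simpa using e.symm) (by simp)

theorem coatom_norm [IsSimpleGroup G] {H M : Subgroup G} (hH : ¬ H.Normal) (hM : IsCoatom M) (h : M ≤ N(H)) :
    IsCoatom N(H) := by
  rcases h.eq_or_lt with e | e
  · exact e ▸ hM
  · exact (hH (normalizer_eq_top_iff.1 (hM.2 _ e))).elim

end

variable {F : Type*} [Field F] [Fintype F] [DecidableEq F]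

local notation "q" => Fintype.card F

theorem SubC.dvd (p : ℕ) [hp : Fact p.Prime] [CharP F p] {M : Subgroup (PG F)} (h : SubC M) : p ∣ Nat.card M := by
  obtain ⟨K, _, _, f, c, n, -, -, -, k⟩ := h
  have := orderOf_dvd_natCard M ((le_RG_of k).1 (conj_mem_cj c (Tm_mem_RS f)))
  rwa [orderOf_conj', orderOf_eq_prime (p := p) (by
    rw [← map_pow, Tm_pow, CharP.cast_eq_zero, zero_mul, Tm_zero, map_one]) fun e => by
      simpa [Sc] using pg_eq_one.1 e] at this

theorem cyc_B (p : ℕ) [hp : Fact p.Prime] [CharP F p] {H : Subgroup (PG F)} {c : PG F} (hd : ¬ p ∣ Nat.card H)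
    (h : H ≤ cj c (BP F)) : IsCyclic H := by
  have := cyc_stab p (H := H) (fun g e => by_contra fun k =>
    hd (orderOf_eq_prime e k ▸ _root_.orderOf_dvd_natCard g)) (c • OnePoint.infty)
  rw [show MulAction.stabilizer H (c • (OnePoint.infty : OnePoint (AC F))) = ⊤ from eq_top_iff.2 fun g _ => by
    have := fix_infty.2 (mem_cj.1 (h g.2))
    rwa [mul_smul, mul_smul, inv_smul_eq_iff] at this] at this
  exact topEquiv.isCyclic.1 this

theorem charP_q {p : ℕ} (hp : p.Prime) (h : q = p) : CharP F p := by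
  obtain ⟨r, hr⟩ := CharP.exists F
  obtain ⟨n, h1, h2⟩ := FiniteField.card F r
  rw [h2] at h
  exact (hp.pow_eq_iff.1 h).1 ▸ hr

theorem normA5 (h : q = 11) {H : Subgroup (P2 F)} (e : H ≃* A5) : N(H.map io) = H.map io := by
  haveI : Fact (Nat.Prime 11) := ⟨by norm_num⟩
  haveI := charP_q (by norm_num) h
  have c := (card_map_io H).trans (card_of_A5 e)
  have hn := (ncn_map io_inj).2 (ncn_A5 e)
  have h0 : H.map io ≠ ⊥ := ne_bot_of_card c
  haveI := simple_P2 (F := F) (by omega)
  have cP : Nat.card (P2 F) = 660 := cardP (h ▸ by decide) (by rw [h])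
  rcases overG 11 hn h0 (fun _ k => h0 (ncn_B 11 hn (by rw [c]; norm_num) k)) le_normalizer (fun k => by
    have : H.Normal := normalizer_eq_top_iff.1 (by rw [← norm_io, eq_top_iff]; exact fun x _ => k (io_mem x))
    have := card_of_A5 e
    rcases IsSimpleGroup.eq_bot_or_eq_top_of_normal H ‹_› with k | k
    · simp [k] at this
    · rw [k, card_top] at this; omega) with k | k
  · exact (CfsgH2.eq_of_le_of_card_le le_normalizer (by rcases k.2.1 with k | k | k <;> omega)).symm
  · exact (not_subC (h ▸ by norm_num) k).elim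

theorem a5_cj {H : Subgroup (P2 F)} (e : H ≃* A5) (x : PG F) :
    ∃ K : Subgroup (P2 F), K.map io = cj x (H.map io) ∧ Nonempty (K ≃* A5) := by
  have k : cj x (H.map io) ≤ LP F := (cj_mono x (map_io_le H)).trans (cj_eq_of_normal x _).le
  refine ⟨_, map_comap_io k, ?_⟩
  obtain ⟨f⟩ := equiv_io (map_comap_io k)
  exact ⟨f.trans ((H.equivMapOfInjective _ io_inj).symm.trans e)⟩

theorem s2543 (h : q = 11) : Nat.card {H : Subgroup (P2 F) // Nonempty (H ≃* A5)} = 22 ∧
    ∃ H K : Subgroup (P2 F), Nonempty (H ≃* A5) ∧ Nonempty (K ≃* A5) ∧ (∀ g, cj g H ≠ K) ∧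
      ∀ L : Subgroup (P2 F), Nonempty (L ≃* A5) → ∃ g, cj g L = H ∨ cj g L = K := by
  haveI := charP_q (by norm_num : Nat.Prime 11) h
  have h5 : (5 : F) ≠ 0 := fun e => absurd ((CharP.cast_eq_zero_iff F 11 5).1 e) (by norm_num)
  obtain ⟨H, ⟨e⟩⟩ := exists_A5 (F := F) (by rw [h]; norm_num)
  have mi := Subgroup.map_injective (io_inj (F := F))
  have i2 : (LP F).index = 2 := by rw [index_LP, h]; rfl
  refine ⟨?_, ?_⟩
  · have := card_cj_in ⊤ (H.map io)
    rw [normA5 h e, relIndex_top_right, index_of_card (n := 59) (m := 22)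
      ((card_map_io H).trans (card_of_A5 e)) (by rw [card_PG, h])] at this
    rw [← this]
    refine Nat.card_eq_of_bijective (fun K => ⟨K.1.map io, by
      obtain ⟨x, hx⟩ := A5_conj h5 e K.2.some; exact ⟨x, mem_top _, hx⟩⟩) ⟨fun K L k => ?_, ?_⟩
    · exact Subtype.ext (mi (congrArg Subtype.val k))
    · rintro ⟨_, x, -, rfl⟩
      obtain ⟨K, k1, k2⟩ := a5_cj e x
      exact ⟨⟨K, k2⟩, Subtype.ext k1⟩
  obtain ⟨x, hx⟩ : ∃ x, x ∉ LP F := by
    by_contra k; push Not at k
    rw [(eq_top_iff' _).2 k, index_top] at i2; omega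
  obtain ⟨K, k1, k2⟩ := a5_cj e x
  refine ⟨H, K, ⟨e⟩, k2, fun g k => hx ?_, fun L ⟨f⟩ => ?_⟩
  · rw [← k, map_io_cj, cj_eq_iff_eq_cj_inv, CfsgH2.cj_cj, eq_comm, cj_eq_iff_mem_normalizer, normA5 h e] at k1
    simpa using mul_mem (io_mem g) (map_io_le H k1)
  obtain ⟨y, hy⟩ := A5_conj h5 f e
  by_cases m : y ∈ LP F
  · obtain ⟨g, rfl⟩ := range_io.ge m
    exact ⟨g, .inl (mi ((map_io_cj _ _).trans hy))⟩
  · obtain ⟨g, hg⟩ := range_io.ge ((mul_mem_iff_of_index_two i2).2 (iff_of_false hx m))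
    exact ⟨g, .inr (mi (by rw [map_io_cj, hg, ← CfsgH2.cj_cj, hy, k1]))⟩

theorem mn13 (h : q = 13) : MN (P2 F) := fun H hH => by
  haveI : Fact (Nat.Prime 13) := ⟨by norm_num⟩
  haveI := charP_q (by norm_num) h
  haveI := simple_P2 (F := F) (by omega)
  have ho : Odd q := h ▸ by decide
  have cP : Nat.card (P2 F) = 1092 := cardP ho (by rw [h])
  have mT : ∀ {w : S2 F}, Ss w.val → IsCoatom (N(C1(w)).map pr) := fun hw =>
    max_T hw (by rcases hw.card_cases with k | k <;> omega)
  have h0 : H ≠ ⊥ := fun e => hH (e ▸ inferInstance)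
  have hB : ∀ c, H ≤ cj c (BB F) → 13 ∣ Nat.card H → IsCoatom N(H) := fun c k d => by
    refine coatom_norm hH (coatom_cj max_B c) (CfsgFT.le_norm_of_der_le ?_ k)
    obtain ⟨S, hS⟩ := IsSylowIn.exists_sylowIn (p := 13) H
    have cB : Nat.card (cj c (BB F)) = 78 := by
      have := card_BB (F := F); rw [d_odd ho, h] at this; rw [card_cj]; omega
    have hS' : IsSylowIn 13 S (cj c (BB F)) := hS.trans_of_not_dvd k fun e => by
      have := Nat.mul_dvd_mul d e
      rw [CfsgH2.card_mul_relIndex k, cB] at this; norm_num at this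
    have pg : IsPGroup 13 (⁅cj c (BB F), cj c (BB F)⁆ : Subgroup (P2 F)) := fun x =>
      ⟨1, Subtype.ext (io_inj (F := F) (by
        have m : io x.1 ∈ ⁅(cj c (BB F)).map (io (F := F)), (cj c (BB F)).map io⁆ :=
          map_commutator (cj c (BB F)) (cj c (BB F)) (io (F := F)) ▸ ⟨_, x.2, rfl⟩
        have := pow_of_B 13 (map_io_BB (c := c) le_rfl) m
        simpa using this))⟩
    exact le_trans (hS'.le_of_normalizer pg (CfsgFT.der_le _)
      (CfsgFT.le_norm_of_der_le le_rfl (CfsgFT.der_le _))) hS.le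
  have hc : IsCyclic H → IsCoatom N(H) := fun k => by
    obtain ⟨a, rfl⟩ := exists_gen k
    obtain ⟨w, rfl⟩ := pr_surj a
    rcases casesS w with k | k | ⟨x, k, k'⟩
    · exact (h0 (by rw [pr_eq_one.2 k, zpowers_one_eq_bot])).elim
    · refine coatom_norm hH (mT k) ?_
      rw [← MonoidHom.map_zpowers]
      exact (map_mono (k.norm_le (zpowers_le.2 (self_mem_cent w)))).trans (le_normalizer_map _)
    · obtain ⟨y, -, e⟩ := k.isConj_jor k'
      obtain ⟨c, e⟩ := isConj_iff.1 e
      refine hB (pr c)⁻¹ (zpowers_le.2 (mem_cj.2 ⟨_, mem_BS.2 (rfl : (utS x y).val 1 0 = 0), ?_⟩)) ?_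
      · rw [← e]; simp
      · rw [Nat.card_zpowers, jor_pr 13 k k']
  have cd := card_subgroup_dvd_card H
  rcases dicksonP' 13 (H := H) (fun e => hH (e ▸ inferInstance)) with ⟨w, hw, k⟩ | ⟨c, k⟩ | k | k
  · obtain ⟨a, b, -, o, e⟩ := hw.exists_idx2
    rcases sub_dih e k with k' | ⟨a', ha, b', k'⟩
    · exact hc (cyc_of_le inferInstance k')
    have c1 := k'.card
    have c2 := e.card
    have d1 := orderOf_dvd_of_mem_zpowers ha
    rw [d_odd ho] at o
    by_cases o1 : orderOf a' = 1
    · exact hc (isCyclic_of_prime_card (p := 2) (by omega))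
    by_cases o2 : orderOf a' = 2
    · have kl : IsKleinFour H := isKleinFour_iff.2 ⟨by omega, fun x hx => by
        obtain ⟨i, rfl | rfl⟩ := (k'.mem x).1 hx
        · rw [← _root_.zpow_add, zpow_eq_one_iff_dvd, o2]; exact ⟨i, by push_cast; ring⟩
        · rw [k'.mul_eq]; simp⟩
      obtain ⟨n1, n2, -⟩ := card_normV ho kl
      exact max_A4 13 h (by norm_num) (by norm_num) (by norm_num) n1 (n2 (by omega))
    refine coatom_norm hH (mT hw) ?_
    have r := CfsgH2.card_mul_relIndex k
    have : H.relIndex (N(C1(w)).map pr) = 1 ∨ H.relIndex (N(C1(w)).map pr) = 2 := by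
      have p0 := orderOf_pos a'
      generalize H.relIndex _ = t at r
      have : orderOf a = 6 ∨ orderOf a = 7 := by rcases hw.card_cases with k | k <;> omega
      rw [c1, c2] at r
      have p3 : 3 ≤ orderOf a' := by omega
      have : t ≤ 2 := by rcases this with k | k <;> nlinarith
      rcases t with _ | t
      · omega
      · omega
    rcases this with e | e
    · exact (relIndex_eq_one.1 e).trans le_normalizer
    · exact (normal_subgroupOf_iff_le_normalizer k).1 (normal_of_index_eq_two e)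
  · by_cases d : 13 ∣ Nat.card H
    · exact hB c k d
    exact hc ((H.equivMapOfInjective _ io_inj).isCyclic.2 (cyc_B 13 (by rwa [card_map_io]) (map_io_BB k)))
  · have := k.2.1
    rw [cP] at cd
    have c12 : Nat.card H = 12 := by rcases this with e | e | e <;> first | exact e | (rw [e] at cd; norm_num at cd)
    exact coatom_norm hH (max_A4 13 h (by norm_num) (by norm_num) (by norm_num) k.1 c12) le_normalizer
  · exact (not_subC (h ▸ by norm_num) k).elim

theorem mn13S (h : q = 13) : MN (S2 F) := (mn13 h).of_surj pr_surj fun H g hg => by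
  have h2 := two_ne (F := F) (h ▸ by decide)
  refine mem_normalizer_of_conj_mem fun x hx => ?_
  obtain ⟨y, hy, e⟩ := conj_mem_of_mem_normalizer hg ⟨x, hx, rfl⟩
  rw [← map_inv, ← map_mul, ← map_mul] at e
  rcases pr_eq.1 e with e | e
  · exact e ▸ hy
  by_cases m : -1 ∈ H
  · rw [← neg_eq_iff_eq_neg] at e; rw [← e, ← neg_one_mul]; exact mul_mem m hy
  have o : Odd (Nat.card H) := Nat.not_even_iff_odd.1 fun k => m (neg_mem_of_even h2 k.two_dvd)
  have p1 : ∀ z ∈ H, z ^ Nat.card H = 1 := fun z hz =>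
    orderOf_dvd_iff_pow_eq_one.1 (orderOf_dvd_natCard H hz)
  have := p1 y hy
  rw [e, o.neg_pow, conj_pow, p1 x hx, mul_one, mul_inv_cancel] at this
  exact (m (by rw [this]; exact H.one_mem)).elim

theorem fac23 (p : ℕ) [hp : Fact p.Prime] [CharP F p] (h5 : 5 ≤ p) (H : Subgroup (P2 F)) :
    (q ^ 2 - 1).factorization 2 = 1 + (Nat.card H).factorization 2 + H.index.factorization 2 ∧
    (q ^ 2 - 1).factorization 3 = (Nat.card H).factorization 3 + H.index.factorization 3 := by
  haveI := Fact.mk Nat.prime_three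
  have n2 : ¬ 2 ∣ q := not_dvd_q (p := p) (by omega)
  have n3 : ¬ 3 ∣ q := not_dvd_q (p := p) (by omega)
  have c := card_P2 (F := F)
  rw [d_odd (Nat.odd_iff.2 (by omega)), ← H.card_mul_index, mul_assoc q, mul_comm (q - 1), ← q_sq_sub] at c
  have p1 : q ^ 2 - 1 ≠ 0 := by rw [q_sq_sub]; exact mul_ne_zero (by omega) q_sub_pos.ne'
  have := congrArg Nat.factorization c
  rw [Nat.factorization_mul (mul_ne_zero Nat.card_pos.ne' H.index_ne_zero_of_finite) two_ne_zero,
    Nat.factorization_mul Nat.card_pos.ne' H.index_ne_zero_of_finite,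
    Nat.factorization_mul Fintype.card_ne_zero p1] at this
  have e2 := DFunLike.congr_fun this 2
  have e3 := DFunLike.congr_fun this 3
  simp only [Finsupp.add_apply, Nat.factorization_eq_zero_of_not_dvd n2, Nat.factorization_eq_zero_of_not_dvd n3,
    Nat.prime_two.factorization_self, Nat.factorization_eq_zero_of_lt (show 2 < 3 by norm_num)] at e2 e3
  omega

theorem pw23 {a b n : ℕ} (h : 2 ^ a * 3 ^ b = n) : a = n.factorization 2 ∧ b = n.factorization 3 := by
  subst h
  simp [Nat.factorization_mul, Nat.prime_two.factorization_pow, Nat.prime_three.factorization_pow]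

theorem s2537 (p : ℕ) [hp : Fact p.Prime] [CharP F p] (h5 : 5 ≤ p) :
    (∃ H : Subgroup (P2 F), IsPiHall ({2, 3} : Set ℕ) H) ↔
      (3 ∣ q - 1 ∧ q % 4 = 1) ∨ (3 ∣ q + 1 ∧ q % 4 = 3) ∨
        2 ^ (q ^ 2 - 1).factorization 2 * 3 ^ (q ^ 2 - 1).factorization 3 = 24 ∨
        2 ^ (q ^ 2 - 1).factorization 2 * 3 ^ (q ^ 2 - 1).factorization 3 = 48 := by
  haveI := Fact.mk Nat.prime_three
  have n2 : ¬ 2 ∣ q := not_dvd_q (p := p) (by omega)
  have n3 : ¬ 3 ∣ q := not_dvd_q (p := p) (by omega)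
  have ho : Odd q := Nat.odd_iff.2 (by omega)
  have q5 : 5 ≤ q := h5.trans (Nat.le_of_dvd Fintype.card_pos (p_dvd_q p))
  have c := card_P2 (F := F)
  rw [d_odd ho] at c
  have f12 : (12 : ℕ).factorization 2 = 2 ∧ (12 : ℕ).factorization 3 = 1 := ⟨(pw23 (a := 2) (b := 1) rfl).1.symm,
    (pw23 (a := 2) (b := 1) rfl).2.symm⟩
  have f24 : (24 : ℕ).factorization 2 = 3 ∧ (24 : ℕ).factorization 3 = 1 := ⟨(pw23 (a := 3) (b := 1) rfl).1.symm,
    (pw23 (a := 3) (b := 1) rfl).2.symm⟩
  have f48 : (48 : ℕ).factorization 2 = 4 ∧ (48 : ℕ).factorization 3 = 1 := ⟨(pw23 (a := 4) (b := 1) rfl).1.symm,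
    (pw23 (a := 4) (b := 1) rfl).2.symm⟩
  constructor
  · rintro ⟨H, h1, h2⟩
    have i2 := h2 2 Nat.prime_two (by simp)
    have i3 := h2 3 Nat.prime_three (by simp)
    have np : ¬ p ∣ Nat.card H := fun k => by
      rcases h1 p hp.out k with e | e
      · omega
      · exact absurd (Set.mem_singleton_iff.1 e) (by omega)
    obtain ⟨X, -, hX⟩ := exists_A4 (F := F) ho
    have d12 : 12 ∣ Nat.card H := (Nat.Coprime.mul_left (m := 4) (n := 3)
      (Nat.Coprime.pow_left 2 ((Nat.prime_two.coprime_iff_not_dvd).2 i2))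
      ((Nat.prime_three.coprime_iff_not_dvd).2 i3)).dvd_of_dvd_mul_right
        (by rw [H.card_mul_index, ← show Nat.card X = 4 * 3 from hX]; exact card_subgroup_dvd_card X)
    rcases dicksonP' p (H := H) (fun e => np (by
      rw [e, card_top]
      refine (Nat.Coprime.dvd_mul_right ((Nat.coprime_primes hp.out Nat.prime_two).2 (by omega))).1 ?_
      rw [c, mul_assoc]; exact (p_dvd_q p).mul_right _)) with ⟨w, hw, k⟩ | ⟨x, k⟩ | k | k
    · have := hw.card_TN
      have e := d12.trans (card_dvd_of_le k)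
      rw [d_odd ho] at this
      rcases hw.card_cases with k | k <;> omega
    · refine (i2 (Dvd.dvd.trans ?_ (index_dvd_of_le k))).elim
      have := (BB F).card_mul_index
      have b := card_BB (F := F)
      rw [d_odd ho] at b
      have e : Nat.card (BB F) * (BB F).index = Nat.card (BB F) * (q + 1) := by nlinarith
      rw [index_cj, Nat.eq_of_mul_eq_mul_left Nat.card_pos e]; omega
    · obtain ⟨e1, e2⟩ := fac23 p h5 H
      rw [Nat.factorization_eq_zero_of_not_dvd i2] at e1
      rw [Nat.factorization_eq_zero_of_not_dvd i3] at e2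
      rw [e1, e2]
      rcases k.2.1 with e | e | e
      · rw [e, f12.1, f12.2]; simp
      · rw [e, f24.1, f24.2]; simp
      · exact absurd (h1 5 (by norm_num) (by rw [e]; norm_num)) (by simp)
    · exact (np (card_map_io H ▸ k.dvd p)).elim
  have T : ∀ w : S2 F, Ss w.val → ∀ n, Nat.card C1(w) * n = (q - 1) * (q + 1) → ¬ 4 ∣ n → ¬ 3 ∣ n →
      ∃ H : Subgroup (P2 F), IsPiHall ({2, 3} : Set ℕ) H := fun w hw n e n4 n3' => by
    obtain ⟨a, b, -, -, k⟩ := hw.exists_idx2
    haveI := solv_dih k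
    obtain ⟨H, h1, h2⟩ := CfsgH1.exists_hall (G := N(C1(w)).map pr) {2, 3}
    have c1 := hw.card_TN
    have c2 := (N(C1(w)).map pr).card_mul_index
    rw [d_odd ho] at c1
    have c3 : Nat.card C1(w) * ((N(C1(w)).map pr).index * 2) = Nat.card C1(w) * (q * n) := by
      rw [mul_left_comm _ q, e, ← mul_assoc q, ← c, ← c2, show Nat.card (N(C1(w)).map pr) = Nat.card C1(w) by omega,
        mul_assoc]
    have c4 := Nat.eq_of_mul_eq_mul_left Nat.card_pos c3
    refine ⟨H.map (Subgroup.subtype _), fun r hr k => h1 r hr (by rwa [card_map_of_injective (subtype_injective _)] at k),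
      fun r hr m k => ?_⟩
    rw [index_map_subtype] at k
    refine ((Nat.Prime.dvd_mul hr).1 k).elim (h2 r hr m) fun k => ?_
    rcases m with rfl | rfl
    · exact n4 ((Nat.Coprime.pow_left 2 ((Nat.prime_two.coprime_iff_not_dvd).2 n2)).dvd_of_dvd_mul_left
        (c4 ▸ Nat.mul_dvd_mul_right k 2))
    · exact ((Nat.Prime.dvd_mul Nat.prime_three).1 (c4 ▸ k.mul_right 2)).elim n3 n3'
  have U : ∀ H : Subgroup (P2 F), Nat.card H ∣ 24 → H.index.factorization 2 = 0 → H.index.factorization 3 = 0 →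
      ∃ H : Subgroup (P2 F), IsPiHall ({2, 3} : Set ℕ) H := fun H e k2 k3 => by
    refine ⟨H, fun r hr k => ?_, fun r hr m k => ?_⟩
    · rcases (Nat.Prime.dvd_mul hr).1 (k.trans e : r ∣ 2 ^ 3 * 3) with k | k
      · exact .inl ((Nat.prime_dvd_prime_iff_eq hr Nat.prime_two).1 (hr.dvd_of_dvd_pow k))
      · exact .inr ((Nat.prime_dvd_prime_iff_eq hr Nat.prime_three).1 k)
    · have := hr.factorization_pos_of_dvd H.index_ne_zero_of_finite k
      rcases m with rfl | rfl <;> omega
  rintro (⟨k1, k2⟩ | ⟨k1, k2⟩ | k | k)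
  · obtain ⟨w, hw, e⟩ := exists_splS (F := F) (by omega)
    exact T w hw (q + 1) (by rw [e]) (by omega) (by omega)
  · obtain ⟨w, hw, e⟩ := exists_ellS' (F := F)
    exact T w hw (q - 1) (by rw [e, mul_comm]) (by omega) (by omega)
  · obtain ⟨X, -, hX⟩ := exists_A4 (F := F) ho
    have t := fac23 p h5 X
    have := pw23 k
    rw [hX] at t
    exact U X (by rw [hX]; norm_num) (by omega) (by omega)
  · have e := pw23 k
    obtain ⟨X, -, hX⟩ := exists_S4 (F := F) (by
      have : 2 ^ 4 ∣ q ^ 2 - 1 := (Nat.prime_two.pow_dvd_iff_le_factorization (by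
        rw [q_sq_sub]; exact mul_ne_zero (by omega) q_sub_pos.ne')).2 (by omega)
      refine (dvd16 ho).1 ?_
      rw [card_S2, mul_assoc, mul_comm (q - 1), ← q_sq_sub]; exact this.mul_left _)
    have t := fac23 p h5 X
    rw [hX] at t
    exact U X (by rw [hX]) (by omega) (by omega)

end CfsgH1.L2
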