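import Cfsg.Agent.H1.Ten1
import Cfsg.Agent.H1.Frob
import Cfsg.Agent.H8.MinNormal

/-! Groups all of whose elements have prime power order. -/

set_option autoImplicit false
set_option linter.style.haveILetI false
set_option linter.unusedSectionVars false

namespace CfsgH1

open Subgroup Cfsg CfsgH2 CfsgFT

universe u
variable {G : Type u} [Group G] [Finite G]

theorem solv_of_der {A : Subgroup G} (h : Group.IsSolvable ↥⁅A, A⁆) : Group.IsSolvable A := by
  have := (Group.isSolvable_of_isSolvable_injective (f := ((commutator A).equivMapOfInjective A.subtype A.subtype_injective |>.trans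
    (MulEquiv.subgroupCongr (by rw [commutator_def, map_commutator, ← MonoidHom.range_eq_map, range_subtype]))).toMonoidHom)
    (MulEquiv.injective _))
  exact (Group.isSolvable_iff_subgroup_quotient (commutator A)).2 ⟨this, inferInstanceAs (Group.IsSolvable (Abelianization A))⟩

theorem two_primes (h : ¬ Group.IsSolvable G) : ∃ a b : G, (orderOf a).Prime ∧ (orderOf b).Prime ∧ orderOf a ≠ orderOf b := by
  by_contra! k
  obtain ⟨p, hp, d⟩ := Nat.exists_prime_and_dvd (n := Nat.card G) fun e => h (by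
    have := (Nat.card_eq_one_iff_unique.1 e).1; infer_instance)
  have := Fact.mk hp
  obtain ⟨a, ha⟩ := exists_prime_orderOf_dvd_card' p d
  have := solvable_of_pgroup (K := (⊤ : Subgroup G)) (isPi_singleton_iff.1 (isPi_of_forall_prime_orderOf fun x _ o =>
    (k x a o (ha ▸ hp)).trans ha))
  exact h (Group.isSolvable_of_surjective (f := (⊤ : Subgroup G).subtype) fun x => ⟨⟨x, trivial⟩, rfl⟩)

theorem exists_opi_ne {H : Subgroup G} (hs : Group.IsSolvable H) (n : H ≠ ⊥) : ∃ p, p.Prime ∧ Opi {p} H ≠ ⊥ := by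
  obtain ⟨p, hp, d⟩ := exists_prime_dvd_card (fit_ne_bot hs n)
  have := Fact.mk hp
  exact ⟨p, hp, fun e => (sylow_Opi_of_nilpotent (fit_nilpotent H)).eq_bot_iff.1 (by rwa [Opi_p_fit]) d⟩

def EP (G : Type*) [Group G] : Prop := ∀ g : G, g ≠ 1 → IsPrimePow (orderOf g)

namespace EP
variable (h : EP G)
include h

theorem quo (N : Subgroup G) [N.Normal] : EP (G ⧸ N) := fun g n => by
  obtain ⟨g, rfl⟩ := QuotientGroup.mk'_surjective N g
  exact (h g fun e => n (by simp [e])).dvd (orderOf_map_dvd _ g) (mt orderOf_eq_one_iff.1 n)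

theorem nc {a b : G} (ha : a ≠ 1) (hb : b ≠ 1) (c : (orderOf a).Coprime (orderOf b)) : ¬ Commute a b := fun k => by
  have e := k.orderOf_mul_eq_mul_orderOf_of_coprime c
  have p := h (a * b) fun e' => ha (by rw [e', orderOf_one] at e; exact orderOf_eq_one_iff.1 (Nat.eq_one_of_mul_eq_one_right e.symm))
  rcases (c.isPrimePow_dvd_mul p).1 e.dvd with d | d <;> rw [e] at d
  · exact hb (orderOf_eq_one_iff.1 (Nat.dvd_one.1 (Nat.dvd_of_mul_dvd_mul_left (orderOf_pos a) (by rwa [mul_one]))))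
  · exact ha (orderOf_eq_one_iff.1 (Nat.dvd_one.1 (Nat.dvd_of_mul_dvd_mul_right (orderOf_pos b) (by rwa [one_mul]))))

theorem eq_of {a b : G} (ha : (orderOf a).Prime) (hb : (orderOf b).Prime) (k : Commute a b) : orderOf a = orderOf b :=
  by_contra fun n => h.nc (fun e => by simp [e, Nat.not_prime_one] at ha) (fun e => by simp [e, Nat.not_prime_one] at hb)
    ((Nat.coprime_primes ha hb).2 n) k

theorem hall {H K : Subgroup G} {p : ℕ} (hs : Group.IsSolvable H) (n : Opi {p} H ≠ ⊥) (hK : Hall {p}ᶜ K H) (k0 : K ≠ ⊥) :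
    ∃ y, (orderOf y).Prime ∧ N(K) ≤ N(zpowers y) ∧ IsPi {orderOf y} K := by
  have fp : ∀ x ∈ K, x ≠ 1 → Opi {p} H ⊓ C1(x) = ⊥ := fun x hx x1 => eq_bot_iff.2 fun b hb => by_contra fun b1 =>
    h.nc x1 b1 (((hK.isPi.coprime' (isPi_Opi _ _)).coprime_dvd_left (orderOf_dvd_natCard _ hx)).coprime_dvd_right
      (orderOf_dvd_natCard _ hb.1)) (mem_cent1.1 hb.2)
  have l := hK.le.trans (le_normalizer_Opi {p} H)
  obtain ⟨s, hs', n'⟩ := exists_opi_ne (CfsgH1.isSolvable_of_le hs hK.le) k0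
  have := Fact.mk hs'
  have z := inf_centralizer_ne_bot_of_nilpotent (isPGroup_Opi (p := s) K).isNilpotent le_rfl le_normalizer n'
  obtain ⟨r, hr, d⟩ := exists_prime_dvd_card z
  obtain ⟨y, hy, rfl⟩ := exists_orderOf_eq_prime hr d
  have nz := (CfsgH1.le_normalizer_inf (normalizer_le_normalizer_Opi {s} K) ((normalizer_le_normalizer_Opi {s} K).trans
    (normalizer_le_normalizer_centralizer _))).trans (norm_le_norm_of_cyclic (abCyc_of_fpf l n fp _ (inf_le_left.trans (Opi_le _ _))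
      (inf_le_right.trans (cent_anti inf_le_left))) (zpowers_le.2 hy))
  refine ⟨y, hr, nz, isPi_of_forall_prime_orderOf fun w hw o => by_contra fun ne => ne ?_⟩
  have l' := sup_le (zpowers_le.2 (Opi_le _ _ hy.1)) (zpowers_le.2 hw)
  have c := cyclic_of_fpf_of_card n (l'.trans l) (fun x hx => fp x (l' hx)) hr o (by
    rw [card_sup_of_disjoint (zpowers_le.2 (nz (le_normalizer hw))) (disjoint_iff.2 (inf_eq_bot_of_coprime' (by
      rw [Nat.card_zpowers, Nat.card_zpowers]; exact (Nat.coprime_primes hr o).2 (Ne.symm ne)))), Nat.card_zpowers, Nat.card_zpowers])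
  exact h.eq_of o hr (le_centralizer_iff_isMulCommutative.2 inferInstance (mem_sup_left (mem_zpowers y)) w
    (mem_sup_right (mem_zpowers w)))

theorem two {H : Subgroup G} (hs : Group.IsSolvable H) : (Nat.card H).primeFactors.card ≤ 2 := by
  by_cases n : H = ⊥
  · simp [n]
  obtain ⟨p, hp, n⟩ := exists_opi_ne hs n
  obtain ⟨K, hK⟩ := CfsgFT.exists_hall hs {p}ᶜ
  obtain ⟨q, hq⟩ : ∃ q, IsPi {q} K := by
    by_cases k : K = ⊥
    · exact ⟨p, k ▸ isPi_bot⟩
    · exact (h.hall hs n hK k).elim fun y k => ⟨_, k.2.2⟩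
  refine (Finset.card_le_card (t := {p, q}) fun r hr => ?_).trans Finset.card_le_two
  obtain ⟨h1, h2, -⟩ := Nat.mem_primeFactors.1 hr
  rw [← CfsgH2.card_mul_relIndex hK.le, h1.dvd_mul] at h2
  simpa [or_comm] using h2.imp (hq r h1) fun d => not_not.1 (hK.idx r h1 d)

theorem rad (hns : ¬ Group.IsSolvable G) {R : Subgroup G} [R.Normal] (hs : Group.IsSolvable R) : ∃ p : ℕ, p.Prime ∧ IsPGroup p R := by
  by_cases n : R = ⊥
  · exact ⟨2, Nat.prime_two, n ▸ IsPGroup.of_bot⟩
  obtain ⟨p, hp, n⟩ := exists_opi_ne hs n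
  obtain ⟨K, hK⟩ := CfsgFT.exists_hall hs {p}ᶜ
  have := Fact.mk hp
  by_cases k : K = ⊥
  · refine ⟨p, hp, isPi_singleton_iff.1 (isPi_compl_compl.1 ?_)⟩
    simpa [k] using hK.idx
  obtain ⟨y, hy, l, -⟩ := h.hall hs n hK k
  have := Fact.mk hy
  have s := solv_of_der (CfsgH1.isSolvable_of_le (solvable_of_pgroup (isPi_singleton_iff.1 (isPi_of_forall_prime_orderOf
    fun x hx o => (h.eq_of hy o (mem_cent1.1 hx)).symm))) (cent_zpowers y ▸ CfsgFT.der_le_cent_of_cyclic inferInstance l))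
  have := isSolvable_sup_of_le_normalizer le_normalizer_of_normal hs s
  rw [← top_inf_eq N(K), hK.frattini_sup hs le_top le_normalizer_of_normal] at this
  exact (hns (Group.isSolvable_of_surjective (f := (⊤ : Subgroup G).subtype) fun x => ⟨⟨x, trivial⟩, rfl⟩)).elim

theorem soc [Nontrivial G] (k : ∀ N : Subgroup G, N.Normal → Group.IsSolvable N → N = ⊥) :
    ∃ M : Subgroup G, M.Normal ∧ IsSimpleGroup M ∧ ¬ IsMulCommutative M ∧ ∀ N : Subgroup G, N.Normal → N ≠ ⊥ → M ≤ N := by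
  obtain ⟨M, hM, m0, -, mn⟩ := exists_minNormal_le (⊤ : Subgroup G) top_ne_bot
  have ns : ¬ Group.IsSolvable M := fun s => m0 (k M hM s)
  obtain ⟨T, _, m, hT, hm, ⟨e⟩⟩ := CfsgH8.min_normal_pow M m0 mn
  have : Finite T := Finite.of_injective (fun t => e.symm fun _ => t) fun a b k => congrFun (e.symm.injective k) ⟨0, hm⟩
  refine ⟨M, hM, ?_, fun c => ns (Group.isSolvable_of_comm c.1.1), fun N hN n => ?_⟩
  · obtain rfl | h2 : m = 1 ∨ 2 ≤ m := by omega
    · exact (e.trans (MulEquiv.funUnique _ _)).isSimpleGroup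
    obtain ⟨a, b, ha, hb, n⟩ := two_primes ns
    rw [← e.orderOf_eq] at ha hb n
    rw [← e.orderOf_eq b] at n
    have ex : ∀ f : Fin m → T, (orderOf f).Prime → ∃ t : T, orderOf t = orderOf f := fun f hf => by
      obtain ⟨i, hi⟩ := Function.ne_iff.1 (show f ≠ 1 from fun e => by simp [e, Nat.not_prime_one] at hf)
      have := Fact.mk hf
      exact ⟨f i, orderOf_eq_prime (congrFun (pow_orderOf_eq_one f) i) hi⟩
    obtain ⟨s, hs⟩ := ex _ ha
    obtain ⟨t, ht⟩ := ex _ hb
    have o : ∀ i (t : T), orderOf (e.symm (Pi.mulSingle i t) : G) = orderOf t := fun i t => by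
      rw [Subgroup.orderOf_coe, e.symm.orderOf_eq]
      exact orderOf_injective (MonoidHom.mulSingle (fun _ => T) i) (Pi.mulSingle_injective (M := fun _ => T) i) t
    have := h.eq_of (a := e.symm (Pi.mulSingle ⟨0, hm⟩ s)) (b := e.symm (Pi.mulSingle ⟨1, h2⟩ t)) (by rwa [o, hs]) (by rwa [o, ht])
      (((Pi.mulSingle_commute (f := fun _ : Fin m => T) (show (⟨0, hm⟩ : Fin m) ≠ ⟨1, h2⟩ by simp) s t).map e.symm).map M.subtype)
    exact (n (by rwa [o, o, hs, ht] at this)).elim
  · refine inf_eq_left.1 ((mn _ inferInstance inf_le_left).resolve_left fun e => ?_)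
    have c := le_centralizer_of_normalize (A := M) (B := N) le_normalizer_of_normal le_normalizer_of_normal e
    obtain ⟨a, b, ha, hb, n'⟩ := two_primes ns
    obtain ⟨r, hr, d⟩ := exists_prime_dvd_card n
    obtain ⟨y, hy, rfl⟩ := exists_orderOf_eq_prime hr d
    rw [← Subgroup.orderOf_coe] at ha hb n'
    rw [← Subgroup.orderOf_coe b] at n'
    exact n' ((h.eq_of hr ha (c a.2 y hy)).symm.trans (h.eq_of hr hb (c b.2 y hy)))

end EP

end CfsgH1
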