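import Cfsg.Agent.H1.FC4
import Cfsg.Agent.H2.CPi
import Cfsg.Agent.FT.Min

/-! The Frobenius–Wielandt theorem and Hall TI-subgroups. -/

set_option autoImplicit false
set_option linter.style.haveILetI false
set_option linter.unusedSectionVars false

namespace CfsgH1
open Subgroup Cfsg CfsgFT CfsgH2 Module

variable {G : Type*} [Group G] [Finite G]

open CfsgH3 in
theorem exists_irr_ext' {N : Subgroup G} {A : Set N} (hTI : TIOn N.subtype A) {θ : N → ℂ} (hθ : IsIrrCharacter N θ)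
    (hA : ∀ x, x ∉ A → θ x = θ 1) (h1 : 1 ∉ A) : ∃ χ : G → ℂ, IsIrrCharacter G χ ∧ (∀ a ∈ A, χ a = θ a) ∧ χ 1 = θ 1 ∧
      ∀ x : G, (∀ y : G, ∀ a ∈ A, y * x * y⁻¹ ≠ (a : G)) → χ x = χ 1 := by
  classical
  haveI := Fintype.ofFinite G
  haveI := Fintype.ofFinite N
  obtain ⟨d, hd0, hd⟩ := hθ.exists_deg
  have hf : Function.Injective N.subtype := Subtype.val_injective
  set ψ : N → ℂ := θ - (d : ℂ) • (fun _ => 1) with hψ
  have hψg : IsGeneralizedCharacter N ψ := hθ.isGen.sub (isGen_one.natCast_smul d)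
  have hψs : ∀ x, x ∉ A → ψ x = 0 := fun x hx => by simp [hψ, hA x hx, hd]
  set χ : G → ℂ := ind N.subtype ψ + (d : ℂ) • (fun _ => 1) with hχ
  have hχg : IsGeneralizedCharacter G χ := (hψg.indH hf).add (isGen_one.natCast_smul d)
  have hχ1 : χ 1 = d := by simp [hχ, ind_one hf, hψs 1 h1]
  have hθψ : θ = ψ + (d : ℂ) • (fun _ => 1) := by simp [hψ]
  have hnorm : classInner χ χ = 1 := by
    rw [← hθ.inner_self, hθψ, hχ]
    simp only [CfsgH3.inner_add_left, CfsgH3.inner_add_right, CfsgH3.inner_smul_left, CfsgH3.inner_smul_right]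
    rw [hTI.ip_ind hf hψs hψg.classFun hψs, ip_ind_left hf ψ (isClassFunction_const 1),
      ip_ind_right hf ψ (isClassFunction_const 1), isIrr_one.inner_self, isIrr_one.inner_self]
  refine ⟨χ, (hχg.isDirr hnorm).irr_of_pos (by rw [hχ1]; simp), fun a ha => ?_, hχ1.trans hd.symm, fun x hx => ?_⟩
  · have := hTI.ind_apply hf hψg.classFun hψs ha
    simp only [coe_subtype] at this
    rw [hχ, Pi.add_apply, this]; simp [hψ]
  · have : ind N.subtype ψ x = 0 := ind_eq_zero_of_forall hf ψ fun y a hy => hψs a fun ha => hx y a ha hy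
    rw [hχ1]; simp [hχ, this]

open CfsgH3 in
/-- The Frobenius–Wielandt theorem. -/
theorem frob_wielandt {N K : Subgroup G} (hK : K ≤ N) (hn : N ≤ N(K))
    (h : ∀ a ∈ N, a ∉ K → ∀ g, g * a * g⁻¹ ∈ N → g ∈ N) : ∃ M : Subgroup G, M.Normal ∧ M ⊓ N = K ∧ M ⊔ N = ⊤ := by
  let f := quoHom K N hn
  have k : ∀ x : N, f x = 1 ↔ (x : G) ∈ K := fun x => by rw [← MonoidHom.mem_ker, ker_quoHom]; rfl
  choose χ hχ h1 h2 h3 using fun θ : IrrCharacter (quo K N) => exists_irr_ext' (A := {a : N | (a : G) ∉ K})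
    (fun a ha b _ g e => by rw [range_subtype]; exact h a a.2 ha g (e ▸ b.2)) (θ.2.comp_surjective f (quoHom_surj hn))
    (fun x hx => by rw [(k x).2 (not_not.1 hx), map_one]) fun c => c K.one_mem
  let M : Subgroup G := ⨅ θ, (hχ θ).isChar.ker
  have m : ∀ x, x ∈ M ↔ ∀ θ, χ θ x = χ θ 1 := fun x => by simp only [M, mem_iInf, CfsgH3.Cfsg.IsCharacter.mem_ker]
  haveI : M.Normal := normal_iInf_normal fun θ => inferInstance
  refine ⟨M, this, le_antisymm (fun x hx => by_contra fun c => c ((k ⟨x, hx.2⟩).1 (eq_one_of_forall_irr fun θ hθ => ?_)))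
    (le_inf (fun x hx => (m x).2 fun θ => h3 θ x fun y a ha e => ha ?_) hK), eq_top_of_forall_conj fun g => ?_⟩
  · simpa using ((h1 ⟨θ, hθ⟩ ⟨x, hx.2⟩ c).symm.trans ((m x).1 hx.1 _)).trans (h2 _)
  · exact e ▸ CfsgH2.conj_mem_of_mem_normalizer (hn ((N.inv_mem_iff).1 (h a a.2 ha y⁻¹ (by simpa [← e, mul_assoc] using hK hx)))) hx
  · by_cases c : ∃ y, ∃ a : N, y * g * y⁻¹ = a
    · obtain ⟨y, a, e⟩ := c
      exact ⟨y⁻¹, mem_sup_right (by rw [inv_inv, e]; exact a.2)⟩
    · exact ⟨1, by simpa using mem_sup_left ((m g).2 fun θ => h3 θ g fun y a _ e => c ⟨y, a, e⟩)⟩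

theorem fc_of_cent {M H : Subgroup G} (hn : H ≤ N(M)) (hc : (Nat.card H).Coprime (Nat.card M))
    (h : ∀ x ∈ H, x ≠ 1 → M ⊓ C1(x) ≤ C(H)) (hne : ¬ M ≤ C(H)) : FC H := by
  obtain ⟨p, _, P, hP, n, c⟩ : ∃ p, ∃ _ : Fact p.Prime, ∃ P, IsSylowIn p P M ∧ H ≤ N(P) ∧ ¬ P ≤ C(H) := by
    by_contra! k
    exact hne (le_of_forall_sylowIn_le fun q _ _ =>
      (exists_invariant_sylow hn hc (solv_or hc) q).imp fun S hS => ⟨hS.1, k q ‹_› S hS.1 hS.2⟩)
  have c1 := coprime_of_le_right hc hP.le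
  have l := commutator_le_left_of_le_normalizer n
  have e := commutator_commutator_eq n c1
  have n1 : H ≤ N(⁅P, H⁆) := le_norm_of_comm_le e.le
  have b : ⁅P, H⁆ ≠ ⊥ := mt cent_of_comm_eq_bot c
  have p1 := hP.pgroup.to_le l
  replace l := l.trans hP.le
  generalize ⁅P, H⁆ = Q at *
  have c2 := coprime_of_le_right hc l
  have c3 := coprime_of_le_right c2 (der_le Q)
  have q1 : Q ≤ N(⁅Q, Q⁆) := le_norm_of_der_le le_rfl (der_le Q)
  have q2 : H ≤ N(⁅Q, Q⁆) := CfsgH1.le_normalizer_commutator n1 n1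
  have cm : quo ⁅Q, Q⁆ Q ≤ C(quo ⁅Q, Q⁆ Q) := (quo_le_cent_iff q1 q1).2 le_rfl
  haveI := comm_iff.2 cm
  have z := centralizer_inf_commutator_eq_bot (quo_le_norm (K := ⁅Q, Q⁆) n1) (coprime_quo c2 _)
  rw [← quo_comm q1 q2, e, inf_eq_left.2 inf_le_left] at z
  refine (fc_of_norm (K := quo ⁅Q, Q⁆ Q) (fun k => ?_) (quo_le_norm n1) ?_).equiv
    (quoEquiv q2 (inf_eq_bot_of_coprime' c3))
  · haveI := p1.isNilpotent
    haveI := (nontrivial_iff_ne_bot Q).2 b
    refine not_solv_of_perfect (G := Q) ?_ inferInstance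
    rw [commutator_eq_subgroupOf, subgroupOf_eq_top]; exact (quo_eq_bot_iff q1).1 k
  · rintro _ ⟨y, hy, rfl⟩ h1
    have hy' : zpowers (y : G) ≤ H := zpowers_le.2 hy
    rw [← cent_zpowers, ← quo_zpowers, ← quo_inf_cent (hy'.trans q2) q1 (hy'.trans n1)
      (coprime_of_le_left c3 hy') (.inl (isSolvable_zpowers _)), cent_zpowers, eq_bot_iff, ← z]
    exact le_inf (quo_mono inf_le_left) ((quo_mono ((inf_le_inf_right _ l).trans (h y hy fun h0 =>
      h1 (by rw [show y = 1 from Subtype.ext h0, map_one])))).trans (quo_le_cent le_rfl))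

/-- Coprime action on a group with cyclic Sylow subgroups. -/
theorem zg_act {H A : Subgroup G} [IsZGroup H] (hn : A ≤ N(H)) (hc : (Nat.card A).Coprime (Nat.card H)) :
    IsCyclic ↥⁅H, A⁆ ∧ (Nat.card ↥⁅H, A⁆).Coprime (Nat.card ↥(H ⊓ C(A))) ∧ ⁅A, A⁆ ≤ C(H) := by
  have d : IsCyclic ↥⁅H, H⁆ := map_commutator_top H ▸ isCyclic_map' (IsZGroup.isCyclic_commutator H) _
  have l := commutator_le_left_of_le_normalizer hn
  have k := CfsgFT.der_le_cent_of_cyclic d (sup_le (le_norm_of_der_le le_rfl (der_le H)) (CfsgH1.le_normalizer_commutator hn hn))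
  set W := H ⊓ C(⁅H, H⁆)
  haveI := isNilpotent_of_commutator_commutator_eq_bot (D := W)
    (comm_eq_bot (cent_symm (cent_mono inf_le_right le_rfl (commutator_mono inf_le_left inf_le_left))))
  haveI := IsZGroup.of_injective (inclusion_injective (inf_le_left : W ≤ H))
  have c : IsCyclic ↥⁅H, A⁆ := isCyclic_of_le' (A := W) inferInstance
    (le_inf l ((commutator_mono le_sup_left le_sup_right).trans k))
  have n := le_norm_of_comm_le (commutator_commutator_eq hn hc).le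
  refine ⟨c, Nat.coprime_of_dvd fun p hp d1 d2 => ?_, ?_⟩
  · haveI := Fact.mk hp
    haveI := comm_iff.2 (comm_of_cyclic c)
    obtain ⟨x, hx, ox⟩ := exists_orderOf_eq_prime hp d1
    obtain ⟨y, hy, oy⟩ := exists_orderOf_eq_prime hp d2
    have := centralizer_inf_commutator_eq_bot n (coprime_of_le_right hc l)
    rw [commutator_commutator_eq hn hc, inf_eq_left.2 inf_le_left] at this
    have e := eq_of_card_eq_of_cyclic (cyclic_of_zgroup ‹_› ((isPGroup_zpowers_of_orderOf (ox.trans (pow_one p).symm)).to_sup_of_normal_left'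
      (isPGroup_zpowers_of_orderOf (oy.trans (pow_one p).symm)) (le_norm_of_cyclic c (zpowers_le.2 hx)
        ((zpowers_le.2 hy.1).trans (normalizer_commutator_ge_left _ _))))
      (sup_le (zpowers_le.2 (l hx)) (zpowers_le.2 hy.1))) le_sup_left le_sup_right (by simp [ox, oy])
    exact hp.one_lt.ne' (ox ▸ orderOf_eq_one_iff.2 (this.le ⟨hx, zpowers_le.2 hy.2 (e.le (mem_zpowers x))⟩))
  · have c1 := coprime_of_le_left hc (der_le A)
    have n1 := (der_le A).trans hn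
    refine cent_symm (le_centralizer_of_commutator_le (N := ⁅H, H⁆) (coprime_of_le_right c1 (der_le H)) ?_
      (cent_symm ((commutator_mono le_sup_right le_sup_right).trans k)))
    have q1 : H ≤ N(⁅H, H⁆) := le_norm_of_der_le le_rfl (der_le H)
    have q2 : A ≤ N(⁅H, H⁆) := CfsgH1.le_normalizer_commutator hn hn
    refine (quo_le_cent_iff q1 ((der_le A).trans q2)).1 (cent_symm ?_)
    rw [quo_comm q2 q2]
    haveI := normal_subgroupOf q1
    refine CfsgFT.der_le_cent_of_cyclic ((quotEquivQuo q1).isCyclic.1 ?_) (quo_le_norm hn)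
    exact (QuotientGroup.quotientMulEquivOfEq (commutator_eq_subgroupOf H)).isCyclic.1
      (IsZGroup.isCyclic_abelianization (G := H))

section TI
variable {H : Subgroup G} (hTI : IsTISubset (H : Set G))
include hTI

theorem ti_norm {g x : G} (hx : x ∈ H) (h1 : x ≠ 1) (h : g * x * g⁻¹ ∈ H) : g ∈ N(H) :=
  by_contra fun c => h1 (hTI g c x hx h)

theorem ti_norm_le {K : Subgroup G} (hK : K ≤ H) (h : K ≠ ⊥) : N(K) ≤ N(H) := fun _ hg =>
  let ⟨x, h1⟩ := (ne_bot_iff_exists_ne_one.1 h)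
  ti_norm hTI (hK x.2) (fun c => h1 (Subtype.ext c)) (hK (CfsgH2.conj_mem_of_mem_normalizer hg x.2))

theorem ti_hall (h : (Nat.card H).Coprime (H.subgroupOf N(H)).index) : Hall (pr H) H ⊤ :=
  ⟨le_top, isPi_pr H, fun q hq d m => by
    haveI := Fact.mk hq
    obtain ⟨S, hS⟩ := IsSylowIn.exists_sylowIn (p := q) H
    exact (sylow_top_of_norm_le ((Hall.of_coprime le_normalizer h).sylow m hS)
      (ti_norm_le hTI hS.le (mt hS.eq_bot_iff.1 (not_not.2 m)))).not_dvd_of_le hS.le le_top d⟩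

theorem ti_fc {M : Subgroup G} (hn : H ≤ N(M)) (hc : (Nat.card H).Coprime (Nat.card M)) (h : ¬ M ≤ N(H)) : FC H :=
  fc_of_cent hn hc (fun x hx h1 => (le_inf inf_le_left (inf_le_right.trans fun g hg =>
    ti_norm hTI hx h1 (by simpa [mem_C1.1 hg] using hx))).trans (le_centralizer_of_normalize inf_le_right
      (CfsgH1.le_normalizer_inf hn (le_norm_of_le le_normalizer |>.trans' le_rfl))
      (inf_eq_bot_of_coprime' (coprime_of_le_left hc.symm inf_le_left)))) (mt (·.trans (cent_le_norm H)) h)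

theorem ti_sep (hnn : ¬ H.Normal) (hH : (Nat.card H).Coprime (H.subgroupOf N(H)).index)
    (hsep : ∃ (n : ℕ) (M : Fin (n + 1) → Subgroup G), M 0 = ⊥ ∧ M (Fin.last n) = ⊤ ∧ Monotone M ∧ (∀ i, (M i).Normal) ∧
      ∀ i : Fin n, (∀ q : ℕ, q.Prime → q ∣ (M i.castSucc).relIndex (M i.succ) → q ∣ Nat.card H) ∨
        ((M i.castSucc).relIndex (M i.succ)).Coprime (Nat.card H)) :
    piCore (pr H)ᶜ G ⊔ N(H) = ⊤ ∧ FC H := by
  obtain ⟨n, M, m0, m1, m2, m3, m4⟩ := hsep
  have hall := ti_hall hTI hH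
  have o : IsPi (pr H)ᶜ (piCore (pr H)ᶜ G) := isPiNum_card_piCore _ _
  set O := piCore (pr H)ᶜ G
  have t : O ⊔ N(H) = ⊤ := by
    obtain ⟨i, h1, h2⟩ : ∃ i : Fin n, M i.castSucc ≤ O ∧ ¬ M i.succ ≤ O := by
      by_contra! c
      have := Fin.induction (motive := fun i => M i ≤ O) (m0.le.trans bot_le) c (Fin.last n)
      exact hnn (((isPi_pr H).eq_bot (o.mono (le_top.trans (m1.ge.trans this)))).symm ▸ inferInstance)
    have l := m2 i.castSucc_lt_succ.le
    have p : IsPiNum (pr H) (O.relIndex (O ⊔ M i.succ)) := by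
      rw [relIndex_sup_left]
      refine IsPiNum.of_dvd ((m4 i).resolve_right fun c => h2 (le_piCore ?_)) (relIndex_dvd_of_le_left _ h1)
      rw [← card_mul_relIndex l]
      exact (o.mono h1).mul (IsPiNum.coprime_iff.2 c)
    have k := hall.inf_normal (L := O ⊔ M i.succ) le_top le_normalizer_of_normal
    have s := k.sup_eq_of_idx le_sup_left p
    have b : H ⊓ (O ⊔ M i.succ) ≠ ⊥ := fun c => h2 (le_sup_right.trans (by rw [← s, c, bot_sup_eq]))
    refine eq_top_iff.2 fun g _ => ?_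
    obtain ⟨x, hx, e⟩ := sz_le (B := cj g (H ⊓ (O ⊔ M i.succ))) le_normalizer_of_normal
      (disjoint_iff.2 (by rw [inf_comm]; exact k.isPi.inf_eq_bot o))
      (by rw [sup_comm O (H ⊓ _), s]; exact cj_le_of_norm (le_normalizer_of_normal (mem_top g)) inf_le_right)
      ((k.isPi.cj g).coprime o) (solv_or ((k.isPi.cj g).coprime o))
    rw [← cj_eq_smul, cj_cj] at e
    exact (mul_mem_cancel_left (mem_sup_left hx)).1
      (mem_sup_right (ti_norm_le hTI inf_le_left b (mem_normalizer_of_cj_le e)))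
  exact ⟨t, ti_fc hTI le_normalizer_of_normal ((isPi_pr H).coprime o) fun c =>
    hnn (normal_of_top_le (t.ge.trans (sup_le c le_rfl)))⟩

end TI

end CfsgH1
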