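import Cfsg.Agent.H1.FC5
import Cfsg.Agent.H3.Nf1
import Cfsg.Agent.H2.Diag

/-! Linear groups regular on nonzero vectors. -/

set_option autoImplicit false
set_option linter.style.haveILetI false
set_option linter.unusedSectionVars false

namespace CfsgH1
open Subgroup Cfsg CfsgFT CfsgH2 Module CfsgPm

section
variable {G : Type*} [Group G] [Finite G]

theorem FC.solv' (h : FC G) [Group.IsSolvable G] : (∃ N : Subgroup G, N.Normal ∧ IsZGroup N ∧ N.index ∣ 2) ∨
    ∃ f : G →* Equiv.Perm (Fin 4), alternatingGroup (Fin 4) ≤ f.range ∧ IsZGroup f.ker ∧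
      ∃ m, Odd m ∧ Nat.card f.ker = 2 * m := by
  by_cases zg : IsZGroup G
  · exact .inl ⟨⊤, inferInstance, inferInstance, by simp⟩
  obtain ⟨z, hz, k⟩ := h.dih zg
  haveI : (zpowers z).Normal := normal_of_top_le fun g _ =>
    cent1_le_norm_zpowers _ (mem_C1.2 (mem_center_iff.1 (h.cent hz) g))
  have s := QuotientGroup.mk'_surjective (zpowers z)
  obtain ⟨S, n, h1, h2, ⟨e⟩⟩ := k s (QuotientGroup.ker_mk' _)
  let π := QuotientGroup.mk' (pPrimeCore 2 (G ⧸ zpowers z))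
  have s' : Function.Surjective π := QuotientGroup.mk'_surjective _
  have o' := coprime_two_iff_odd.1 (coprime_card_pPrimeCore 2 (G ⧸ zpowers z))
  have o : ∀ x, π x = 1 → Odd (orderOf x) := fun x hx => odd_orderOf_of_mem o' ((QuotientGroup.eq_one_iff x).1 hx)
  let d := MulEquiv.ofBijective (π.subgroupMap S) ⟨(injective_iff_map_eq_one _).2 fun x hx => Subtype.ext
    (eq_one_of_odd_of_mem h1.pgroup x.2 (o _ (congrArg Subtype.val hx))), π.subgroupMap_surjective S⟩
  let f := π.comp (QuotientGroup.mk' (zpowers z))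
  have fs : Function.Surjective f := s'.comp s
  have zg : ∀ N : Subgroup G, IsCyclic (N.map f) → IsZGroup N := fun N c => h.zg_of f (fun x hx k e =>
    zpowers_le.2 (h.cent hz) ((QuotientGroup.eq_one_iff x).1 (eq_one_of_odd_of_mem
      ((isPGroup_zpowers_of_orderOf e).map _) (mem_map_of_mem (QuotientGroup.mk' _) (mem_zpowers x)) (o _ hx))))
    fun P hP _ => L2.cyc_of_le c (map_mono hP)
  have z1 : ∀ e : _ →* Equiv.Perm (Fin 4), Function.Injective e → alternatingGroup (Fin 4) ≤ e.range →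
      alternatingGroup (Fin 4) ≤ (e.comp f).range ∧ IsZGroup (e.comp f).ker ∧
        ∃ m, Odd m ∧ Nat.card (e.comp f).ker = 2 * m := fun e e1 e2 => by
    rw [MonoidHom.ker_comp_of_injective _ _ e1, MonoidHom.range_comp, MonoidHom.range_eq_top.2 fs, ← MonoidHom.range_eq_map]
    refine ⟨e2, zg _ (by rw [(Subgroup.map_eq_bot_iff _).2 le_rfl]; infer_instance), _, o', ?_⟩
    have := CfsgH2.card_mul_relIndex (show (QuotientGroup.mk' (zpowers z)).ker ≤ f.ker from fun x hx => by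
      show π _ = 1
      rw [MonoidHom.mem_ker.1 hx, map_one])
    rw [relIndex_ker, QuotientGroup.ker_mk', Nat.card_zpowers, hz, ← MonoidHom.comap_ker, QuotientGroup.ker_mk',
      map_comap_eq_self_of_surjective s] at this
    rw [← MonoidHom.comap_ker, QuotientGroup.ker_mk']
    exact this.symm
  have S1 := map_top_of_surjective π s' ▸ h1.map π
  have O := pPrimeCore_quotient_pPrimeCore 2 (G ⧸ zpowers z)
  by_cases p : IsPGroup 2 ((G ⧸ zpowers z) ⧸ pPrimeCore 2 (G ⧸ zpowers z))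
  · obtain ⟨a, b, c, -⟩ := exists_idx2_of_dihedral (d.symm.trans e)
    have i := c.relIndex
    rw [S1.eq_of_isPGroup (p.to_subgroup ⊤), relIndex_top_right] at i
    haveI := normal_of_index_eq_two i
    exact .inl ⟨(zpowers a).comap f, inferInstance, zg _ (L2.cyc_of_le inferInstance (map_comap_le _ _)),
      ((index_comap_of_surjective _ fs).trans i).dvd⟩
  rcases solv_dih O S1 h2 (d.symm.trans e) with ⟨g, g1, g2⟩ | ⟨⟨c⟩⟩ | ⟨⟨c⟩⟩
  · haveI := resIn_normal (p := 2) g.ker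
    letI := IsCyclic.commGroup (α := g.ker)
    have := resIn_eq_bot_iff.1 (eq_bot_iff.2 ((le_pPrimeCore (N := resIn 2 g.ker) ((Nat.prime_two.coprime_iff_not_dvd.2
      (hasNPC_subgroup_iff.1 (npc_of_nilpotent inferInstance))).symm)).trans O.le))
    exact (p ((IsPGroup.comap_of_ker_isPGroup (H := ⊤) (IsPGroup.of_card (n := 2) (by simp)) g this).of_equiv
      (MulEquiv.subgroupCongr (comap_top g) |>.trans topEquiv))).elim
  · exact .inr ⟨_, z1 ((alternatingGroup _).subtype.comp c.toMonoidHom) (Subtype.val_injective.comp c.injective)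
      fun x hx => ⟨c.symm ⟨x, hx⟩, by simp⟩⟩
  · exact .inr ⟨_, z1 c.toMonoidHom c.injective fun x _ => c.surjective x⟩

theorem FC.exists_C (h : FC G) (N : Subgroup G) [N.Normal] [IsZGroup N] :
    ∃ D : Subgroup G, D.Normal ∧ IsCyclic D ∧ D ≤ N ∧ C(D) ⊓ N ≤ D := by
  refine ⟨(C(commutator N)).map N.subtype, inferInstance, ((C(commutator N)).equivMapOfInjective _
    N.subtype_injective).isCyclic.1 (h.sub N).cyc_primes.1, map_subtype_le _, fun x hx =>
    ⟨⟨x, hx.2⟩, fun y hy => Subtype.ext (hx.1 y ⟨y, fun z hz => ?_, rfl⟩), rfl⟩⟩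
  haveI := IsZGroup.isCyclic_commutator N
  exact le_centralizer (commutator N) hy z hz

end

variable {p : ℕ} [hp : Fact p.Prime] {V : Type*} [AddCommGroup V] [Module (ZMod p) V] [Finite V] [Nontrivial V]
  {H : Subgroup (V ≃ₗ[ZMod p] V)}

instance finite_linEquiv : Finite (V ≃ₗ[ZMod p] V) := Finite.of_injective _ DFunLike.coe_injective

theorem lin_one (ht : ∀ v w : V, v ≠ 0 → w ≠ 0 → ∃ h : H, h.1 v = w) (A : Subgroup H) [A.Normal] [IsMulCommutative A]
    (hc : Nat.card V ≤ Nat.card (envA A)) {v : V} (hv : v ≠ 0) : Function.Bijective fun c : envA A => c.1 v := by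
  haveI : Finite (End (ZMod p) V) := Finite.of_injective _ DFunLike.coe_injective
  have i : Function.Injective fun c : envA A => c.1 v := fun a b e => Subtype.ext (sub_eq_zero.1
    (envA_fpf ht A (sub_mem a.2 b.2) hv (sub_eq_zero.2 e)))
  exact (Nat.bijective_iff_injective_and_card _).2 ⟨i, le_antisymm (Nat.card_le_card_of_injective _ i) hc⟩

theorem lin_semi (ht : ∀ v w : V, v ≠ 0 → w ≠ 0 → ∃ h : H, h.1 v = w) (A : Subgroup H) [A.Normal] [IsMulCommutative A]
    (hc : Nat.card V ≤ Nat.card (envA A)) : ∃ k, k ≠ 0 ∧ Nat.card V = p ^ k ∧ ∃ e : V ≃+ GaloisField p k,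
      ∀ h : H, ∃ (a : GaloisField p k) (σ : GaloisField p k ≃+* GaloisField p k), ∀ v, e (h.1 v) = a * σ (e v) := by
  haveI : Finite (End (ZMod p) V) := Finite.of_injective _ DFunLike.coe_injective
  letI := (envA_field ht A).toField
  obtain ⟨v, hv⟩ := exists_ne (0 : V)
  have b := lin_one ht A hc hv
  have c : Nat.card (envA A) = p ^ finrank (ZMod p) (envA A) := by
    rw [Module.natCard_eq_pow_finrank (K := ZMod p), Nat.card_zmod]
  let d := (GaloisField.algEquivGaloisField p _ c).toRingEquiv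
  let e : envA A ≃+ V := AddEquiv.ofBijective (AddMonoidHom.mk' (fun c : envA A => c.1 v) fun _ _ => rfl) b
  refine ⟨_, finrank_pos.ne', (Nat.card_congr e.toEquiv).symm.trans c, e.symm.trans d.toAddEquiv, fun h => ?_⟩
  let σ := (AlgEquiv.ofBijective (((h.1.conjAlgEquiv (ZMod p)).toAlgHom.comp (envA A).val).codRestrict _
    fun x => envA_conj h x.2) (AlgHom.bijective _)).toRingEquiv
  refine ⟨d (e.symm (h.1 v)), (d.symm.trans σ).trans d, fun w => ?_⟩
  obtain ⟨x, rfl⟩ := e.surjective w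
  simp only [AddEquiv.trans_apply, AddEquiv.symm_apply_apply, RingEquiv.trans_apply]
  change d _ = _ * d (σ (d.symm (d x)))
  rw [d.symm_apply_apply, ← map_mul, mul_comm]
  refine congrArg d (e.symm_apply_eq.2 ?_)
  change _ = h.1 (x.1 (h.1.symm (e (e.symm (h.1 v)))))
  rw [e.apply_symm_apply, h.1.symm_apply_apply]; rfl

theorem lin_num (ht : ∀ v w : V, v ≠ 0 → w ≠ 0 → ∃ h : H, h.1 v = w) (A : Subgroup H) [A.Normal] [IsMulCommutative A] :
    ∃ k d t, 0 < k ∧ 0 < d ∧ Nat.card V = (p ^ k) ^ d ∧ Nat.card A * t + 1 = p ^ k ∧ C(A).index ∣ k ∧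
      Nat.card (envA A) = p ^ k ∧ (d = 1 → C(A) ≤ C(C(A)) ∧
        ∀ W : Submodule (ZMod p) V, W ≠ ⊥ → (∀ a ∈ A, ∀ v ∈ W, a.1 v ∈ W) → W = ⊤) := by
  haveI : Finite (End (ZMod p) V) := Finite.of_injective _ DFunLike.coe_injective
  have c : Nat.card (envA A) = p ^ finrank (ZMod p) (envA A) := by
    rw [Module.natCard_eq_pow_finrank (K := ZMod p), Nat.card_zmod]
  obtain ⟨d, hd⟩ := card_eq_envA_pow ht A
  obtain ⟨t, h⟩ := card_dvd_envA ht A
  refine ⟨_, d, t, finrank_pos, Nat.pos_of_ne_zero ?_, c ▸ hd, by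
    rw [← h, ← c]; exact Nat.sub_add_cancel Nat.card_pos, index_cent_dvd ht A, c, ?_⟩
  · rintro rfl; exact Finite.one_lt_card.ne' hd
  rintro rfl
  have b := fun v => lin_one ht A (hd.trans (pow_one _)).le (v := v)
  refine ⟨fun x hx y hy => Subtype.ext (LinearEquiv.ext fun w => ?_), fun W h0 hW => eq_top_iff.2 fun w _ => ?_⟩
  · have k : ∀ x ∈ C(A), ∀ e ∈ envA A, ∀ u, x.1 (e u) = e (x.1 u) := fun x hx e he => LinearMap.congr_fun
      (Algebra.commute_of_mem_adjoin_of_forall_mem_commute (a := x.1.toLinearMap) he (by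
        rintro _ ⟨a, rfl⟩; exact congrArg (fun x : H => x.1.toLinearMap) (hx a a.2).symm))
    rcases eq_or_ne w 0 with rfl | n
    · simp
    obtain ⟨e, he⟩ := (b w n).2 (x.1 w)
    obtain ⟨f, hf⟩ := (b w n).2 (y.1 w)
    change y.1 (x.1 w) = x.1 (y.1 w)
    rw [← he, k y hy _ e.2, ← hf, k x hx _ f.2, ← he]
    exact LinearMap.congr_fun (congrArg Subtype.val (mul_comm' e f)) w
  · obtain ⟨v, hv, n⟩ := (Submodule.ne_bot_iff W).1 h0
    obtain ⟨e, rfl⟩ := (b v n).2 w
    exact envA_inv hW e.2 v hv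

theorem reg_basic (hreg : ∀ v w : V, v ≠ 0 → w ≠ 0 → ∃! h : H, h.1 v = w) : FC H ∧ Nat.card H + 1 = Nat.card V := by
  obtain ⟨v, hv⟩ := exists_ne (0 : V)
  refine ⟨fc_of_act (K := Multiplicative V) (MonoidHom.mk' (fun h => AddEquiv.toMultiplicative h.1.toAddEquiv) fun _ _ => rfl)
    fun g k e => or_iff_not_imp_right.2 fun n => (hreg k.toAdd _ n n).unique e rfl, ?_⟩
  rw [Nat.card_eq_of_bijective (fun h : H => (⟨h.1 v, by simpa⟩ : {w : V // w ≠ 0})) ⟨fun a b e =>
    (hreg v (b.1 v) hv (by simpa)).unique (congrArg Subtype.val e) rfl,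
    fun w => (hreg v w hv w.2).exists.imp fun _ => Subtype.ext⟩]
  haveI := Fintype.ofFinite V
  classical
  simpa [Nat.card_eq_fintype_card] using Nat.sub_add_cancel Fintype.card_pos

theorem reg_count (hreg : ∀ v w : V, v ≠ 0 → w ≠ 0 → ∃! h : H, h.1 v = w) (N : Subgroup H) [N.Normal] [IsZGroup N] :
    ∃ (D : Subgroup H) (k t g : ℕ), D.Normal ∧ IsCyclic D ∧ D ≤ N ∧ C(D) ⊓ N ≤ D ∧ 0 < k ∧ Nat.card D * t + 1 = p ^ k ∧
      C(D).index ∣ k ∧ D.index = t * g ∧ D.index ∣ k * N.index ∧ ((Nat.card V ≤ Nat.card (envA D) ∧ C(D) ≤ C(C(D)) ∧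
        ∀ W : Submodule (ZMod p) V, W ≠ ⊥ → (∀ a ∈ D, ∀ v ∈ W, a.1 v ∈ W) → W = ⊤) ∨
      (Nat.card V = (p ^ k) ^ 2 ∧ g = p ^ k + 1) ∨ (p ^ k) ^ 2 + p ^ k + 1 ≤ g) := by
  obtain ⟨h, c⟩ := reg_basic hreg
  obtain ⟨D, _, _, h1, h2⟩ := h.exists_C N
  obtain ⟨k, d, t, k0, d0, e1, e2, e3, e4, e5⟩ := lin_num (fun v w a b => (hreg v w a b).exists) D
  have l : D ≤ C(D) := le_centralizer D
  obtain ⟨g, hg⟩ := Nat.sub_dvd_pow_sub_pow (p ^ k) 1 d
  have e6 : Nat.card D * D.index + 1 = (p ^ k) ^ d := by rw [card_mul_index, c, e1]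
  rw [one_pow, ← e6, ← e2, Nat.add_sub_cancel, Nat.add_sub_cancel, mul_assoc] at hg
  have hg := Nat.eq_of_mul_eq_mul_left Nat.card_pos hg
  refine ⟨D, k, t, g, ‹_›, ‹_›, h1, h2, k0, e2, e3, hg, ?_, ?_⟩
  · rw [← relIndex_mul_index l, mul_comm, show D = N ⊓ C(D) from le_antisymm (le_inf h1 l) (inf_comm N _ ▸ h2),
      ← show D = N ⊓ C(D) from le_antisymm (le_inf h1 l) (inf_comm N _ ▸ h2)]
    refine mul_dvd_mul e3 ?_
    rw [← inf_relIndex_right, show D ⊓ C(D) = N ⊓ C(D) from le_antisymm (inf_le_inf_right _ h1)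
      (le_inf (inf_comm N _ ▸ h2) inf_le_right), inf_relIndex_right]
    exact relIndex_dvd_index_of_normal _ _
  rw [hg, ← mul_assoc, ← e2] at e6
  have q : 1 < p ^ k := Nat.one_lt_pow k0.ne' hp.out.one_lt
  have r : 0 < Nat.card D * t := by omega
  obtain rfl | rfl | d3 : d = 1 ∨ d = 2 ∨ 3 ≤ d := by omega
  · exact .inl ⟨by rw [e1, e4, pow_one], e5 rfl⟩
  · refine .inr (.inl ⟨e1, Nat.eq_of_mul_eq_mul_left r ?_⟩)
    rw [← e2]; linarith
  · refine .inr (.inr (Nat.le_of_mul_le_mul_left ?_ r))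
    have := Nat.pow_le_pow_right (Nat.succ_pos (Nat.card D * t)) d3
    rw [← e2]; nlinarith

theorem pow_big {p k a n : ℕ} (hp : a ≤ p) (h2 : 2 ≤ a) (m : ℕ) (hn : m * n ≤ a ^ n) (n0 : 0 < n) (hk : n ≤ k) :
    m * k ≤ p ^ k := by
  refine le_trans ?_ (Nat.pow_le_pow_left hp k)
  induction k, hk using Nat.le_induction with
  | base => exact hn
  | succ k hk ih => rw [pow_succ]; nlinarith [Nat.mul_le_mul ih h2, Nat.le_mul_of_pos_right m (n0.trans_le hk)]

theorem reg_ge (hreg : ∀ v w : V, v ≠ 0 → w ≠ 0 → ∃! h : H, h.1 v = w) {m : ℕ} (hm : m ∣ Nat.card H) : p.Coprime m := by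
  have : Nat.card V = p ^ finrank (ZMod p) V := by rw [Module.natCard_eq_pow_finrank (K := ZMod p), Nat.card_zmod]
  refine hp.out.coprime_iff_not_dvd.2 fun d => hp.out.one_lt.ne' (Nat.dvd_one.1 ((Nat.dvd_add_right (d.trans hm)).1 ?_))
  rw [(reg_basic hreg).2, this]
  exact dvd_pow_self p finrank_pos.ne'

theorem reg_solv (hreg : ∀ v w : V, v ≠ 0 → w ≠ 0 → ∃! h : H, h.1 v = w) [Group.IsSolvable H] :
    (∃ D : Subgroup H, D.Normal ∧ IsCyclic D ∧ Nat.card V ≤ Nat.card (envA D) ∧ C(D) ≤ C(C(D)) ∧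
      (∀ W : Submodule (ZMod p) V, W ≠ ⊥ → (∀ a ∈ D, ∀ v ∈ W, a.1 v ∈ W) → W = ⊤)) ∨
    Nat.card V = p ^ 2 ∧ (p = 5 ∨ p = 7 ∨ p = 11 ∨ p = 23) ∧ ∃ f : H →* Equiv.Perm (Fin 4),
      alternatingGroup (Fin 4) ≤ f.range ∧ f.ker ≤ center H ∧ ∃ m, Odd m ∧ Nat.card f.ker = 2 * m := by
  have p2 := hp.out.two_le
  rcases (reg_basic hreg).1.solv' with ⟨N, _, _, i⟩ | ⟨f, f1, _, m, f2, f3⟩
  · obtain ⟨D, k, t, g, _, _, -, -, k0, -, -, e1, e2, e3⟩ := reg_count hreg N
    refine .inl ⟨D, ‹_›, ‹_›, e3.resolve_right fun e => ?_⟩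
    have := Nat.le_of_dvd (by omega) ((Dvd.intro_left _ e1.symm).trans (e2.trans (mul_dvd_mul_left k i)))
    have := pow_big p2 le_rfl 2 (n := 1) le_rfl one_pos k0
    omega
  obtain ⟨D, k, t, g, _, _, l1, l2, k0, -, e0, e1, e2, e3⟩ := reg_count hreg f.ker
  refine e3.imp (fun e => ⟨D, ‹_›, ‹_›, e⟩) fun e => ?_
  have i : f.ker.index ∣ 24 := by
    rw [index_ker]; exact (card_subgroup_dvd_card _).trans (by simp [Nat.factorial, Fintype.card_perm])
  have j : 6 ∣ Nat.card H := by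
    refine (show 6 ∣ _ from ?_).trans ((card_dvd_of_le f1).trans (card_range_dvd f))
    rw [alternatingGroup.card_of_card_eq_four (by simp)]; norm_num
  have c := reg_ge hreg j
  have p5 : 5 ≤ p := by
    by_contra n
    have : p ≤ 4 := by omega
    interval_cases p <;> simp_all (config := {decide := true})
  have d := (Dvd.intro_left _ e1.symm).trans (e2.trans (mul_dvd_mul_left k i))
  have l := Nat.le_of_dvd (by omega) d
  obtain rfl : k = 1 := by
    by_contra n
    rcases (show k = 2 ∨ 3 ≤ k by omega) with rfl | k3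
    · obtain rfl : p = 5 := by
        by_contra n
        have : 36 ≤ p ^ 2 := Nat.pow_le_pow_left (show 6 ≤ p by omega) 2
        have : p ≤ 6 := by nlinarith [show p ^ 2 + 1 ≤ g by omega]
        obtain rfl : p = 6 := by omega
        simp at c
      rcases e with ⟨-, rfl⟩ | e
      · have := Nat.le_of_dvd (by omega) i
        obtain ⟨x, hx⟩ := d
        omega
      · omega
    · have := pow_big p5 (by norm_num) 24 (n := 3) (by norm_num) (by norm_num) k3
      omega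
  rw [pow_one] at e
  have e := e.resolve_right (by nlinarith)
  refine ⟨e.1, ?_, f, f1, fun x hx => ?_, m, f2, f3⟩
  · rw [e.2] at d l
    have : p ≤ 23 := by omega
    interval_cases p <;> simp_all (config := {decide := true})
  · rw [Nat.dvd_one, index_eq_one] at e0
    exact mem_center_iff.2 fun y => (e0.ge (mem_top y) x (l2 ⟨e0.ge (mem_top x), hx⟩)).symm

theorem num5' : ∀ t < 5, ∀ c < 14, c.Coprime 30 → (c * t + 1).Coprime 30 → 7 ≤ c * t + 1 →
    240 < t * ((c * t + 1) ^ 2 + (c * t + 1) + 1) := by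
  decide +kernel

theorem num5 (t : ℕ) (ht : t < 16) (c e : ℕ) (he : e < 3) (h1 : c.Coprime 30) (h2 : (c * t + 1).Coprime 30)
    (h : t * (c * t + 2) = 120 * e) (h0 : 0 < t) :
    c * t + 1 = 119 ∨ e = 1 ∧ (c = 1 ∧ t = 10 ∨ c = 7 ∧ t = 4 ∨ c = 29 ∧ t = 2) := by
  have a : ∀ {x r}, Nat.Coprime x 30 → r ∣ 30 → 1 < r → ¬ r ∣ x := fun h a b c => by
    have := Nat.le_of_dvd one_pos (h ▸ Nat.dvd_gcd c a); omega
  have := a h1 (r := 2) (by norm_num) (by norm_num)
  have := a h1 (r := 3) (by norm_num) (by norm_num)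
  have := a h1 (r := 5) (by norm_num) (by norm_num)
  have := a h2 (r := 2) (by norm_num) (by norm_num)
  have := a h2 (r := 3) (by norm_num) (by norm_num)
  have := a h2 (r := 5) (by norm_num) (by norm_num)
  interval_cases t <;> omega

theorem reg_nonsolv (hreg : ∀ v w : V, v ≠ 0 → w ≠ 0 → ∃! h : H, h.1 v = w) (hs : ¬ Group.IsSolvable H) :
    Nat.card V = p ^ 2 ∧ ∃ L M : Subgroup H, L.Normal ∧ Nonempty (L ≃* S5) ∧ M ≤ center H ∧ L ⊓ M = ⊥ ∧ L ⊔ M = ⊤ ∧
      IsCyclic M ∧ (Nat.card M = 1 ∧ p = 11 ∨ Nat.card M = 7 ∧ p = 29 ∨ Nat.card M = 29 ∧ p = 59) := by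
  have h := (reg_basic hreg).1
  obtain ⟨L, M, _, _, ⟨e⟩, h1, h2, h3, -, h5⟩ := h.nonsolv' hs
  haveI := (h.sub M).zg_odd (coprime_two_iff_odd.1 (h3.coprime_dvd_right (by norm_num)))
  obtain ⟨D, k, t, g, _, _, l1, l2, k0, e4, e0, e1, -, e3⟩ := reg_count hreg M
  have cL : Nat.card L = 120 := (Nat.card_congr e.toEquiv).trans card_S5
  have c := reg_ge hreg ((show 30 ∣ _ by rw [cL]; norm_num).trans (card_subgroup_dvd_card L))
  have p7 : 7 ≤ p := by
    by_contra n
    have : p ≤ 6 := by omega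
    have := hp.out.two_le
    interval_cases p <;> simp_all (config := {decide := true})
  have lL : L ≤ C(D) := le_centralizer_iff.1 (l1.trans h1)
  replace e3 := e3.resolve_left fun k => not_solv_S5 (by
    haveI := comm_iff.2 (lL.trans (k.2.1.trans (centralizer_le lL)))
    haveI : Group.IsSolvable L := Group.isSolvable_of_comm mul_comm'
    exact Group.isSolvable_of_surjective (f := e.toMonoidHom) e.surjective)
  have s : D.relIndex M ∣ k := by
    rw [show D = C(D) ⊓ M from le_antisymm (le_inf (le_centralizer D) l1) l2, inf_relIndex_right]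
    exact (relIndex_dvd_index_of_normal _ _).trans e0
  have i : M.index = 120 * (L ⊔ M).index := by
    rw [← relIndex_mul_index (le_sup_right : M ≤ L ⊔ M), relIndex_sup_right, ← inf_relIndex_left, h2, relIndex_bot_left, cL]
  have i2 := Nat.le_of_dvd two_pos h5
  have s1 := h3.coprime_dvd_left (relIndex_dvd_card D M)
  rw [← relIndex_mul_index l1, i] at e1
  have sk := Nat.le_of_dvd k0 s
  have q : 1 < p ^ k := Nat.one_lt_pow k0.ne' hp.out.one_lt
  have t0 : 0 < t := Nat.pos_of_ne_zero (by rintro rfl; omega)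
  have gl : g ≤ D.relIndex M * 240 := by nlinarith
  have s2 : D.relIndex M = 1 := by
    by_contra n
    have : 4 ≤ D.relIndex M := by
      by_contra n'
      have : D.relIndex M < 4 := by omega
      generalize D.relIndex M = x at *
      interval_cases x <;> simp_all (config := {decide := true})
    have := pow_big p7 (by norm_num) 240 (n := 4) (by norm_num) (by norm_num) (this.trans sk)
    omega
  obtain rfl : D = M := le_antisymm l1 (relIndex_eq_one.1 s2)
  rw [s2, one_mul] at e1 gl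
  have c' : (Nat.card D * t + 1).Coprime 30 := e4 ▸ c.pow_left k
  have q7 : 7 ≤ p ^ k := p7.trans (Nat.le_self_pow k0.ne' p)
  have D0 : 0 < Nat.card D := Nat.card_pos
  rcases e3 with ⟨e5, rfl⟩ | e3
  swap
  · have : p ^ k ≤ 14 := by nlinarith
    have := num5' t (by nlinarith) _ (by nlinarith) h3 c' (e4 ▸ q7)
    rw [e4] at this
    nlinarith
  rw [← e4] at e1
  rcases num5 t (by nlinarith) (Nat.card D) _ (by omega) h3 c' e1.symm t0 with a | ⟨a, b⟩
  · rw [e4] at a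
    obtain rfl := (Nat.prime_dvd_prime_iff_eq (by norm_num) hp.out).1 ((by norm_num : Nat.Prime 7).dvd_of_dvd_pow (a ▸ (by norm_num : 7 ∣ 119)))
    exact absurd ((by norm_num : Nat.Prime 17).dvd_of_dvd_pow (a ▸ (by norm_num : 17 ∣ 119))) (by norm_num)
  rw [index_eq_one] at a
  have k1 : ∀ r, r.Prime → p ^ k = r → p = r ∧ k = 1 := fun r hr e => (Nat.Prime.pow_eq_iff hr).1 e
  obtain ⟨rfl, b⟩ : k = 1 ∧ (Nat.card D = 1 ∧ p = 11 ∨ Nat.card D = 7 ∧ p = 29 ∨ Nat.card D = 29 ∧ p = 59) := by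
    rcases b with ⟨b, rfl⟩ | ⟨b, rfl⟩ | ⟨b, rfl⟩ <;> have := k1 _ (by rw [b]; norm_num) e4.symm <;> simp [this, b]
  refine ⟨by simpa using e5, L, D, ‹_›, ⟨e⟩, fun x hx => mem_center_iff.2 fun y => ?_, h2, a, ‹_›, b⟩
  exact ((sup_le lL (le_centralizer D)).trans' a.ge (mem_top y) x hx).symm

end CfsgH1
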