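import Cfsg.Agent.H1.FC6

/-! Frobenius complements of type `A₄`, `S₄`. -/

set_option autoImplicit false
set_option linter.style.haveILetI false
set_option linter.unusedSectionVars false

namespace CfsgH1
open Subgroup Cfsg CfsgFT CfsgH2 Module CfsgPm
open scoped commutatorElement

def V4 : Subgroup (Equiv.Perm (Fin 4)) where
  carrier := {x | Equiv.Perm.sign x = 1 ∧ x * x = 1}
  mul_mem' := fun {a b} => by simp only [Set.mem_ofPred_eq]; revert a b; decide +kernel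
  one_mem' := by simp
  inv_mem' := fun {a} => by simp only [Set.mem_ofPred_eq]; revert a; decide +kernel

theorem mem_V4 {x : Equiv.Perm (Fin 4)} : x ∈ V4 ↔ Equiv.Perm.sign x = 1 ∧ x * x = 1 := Iff.rfl

instance : V4.Normal := ⟨by simp only [mem_V4]; decide +kernel⟩

theorem card_V4 : Nat.card V4 = 4 := by
  rw [Nat.card_congr (Equiv.subtypeEquivRight fun _ => mem_V4), Nat.card_eq_fintype_card]; decide +kernel

theorem V4_two : IsPGroup 2 V4 := .of_card (n := 2) card_V4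

theorem V4_not_cyc : ¬ IsCyclic V4 := fun h => by
  obtain ⟨g, hg⟩ := isCyclic_iff_exists_orderOf_eq_natCard.1 h
  have := orderOf_dvd_of_pow_eq_one (show g ^ 2 = 1 from Subtype.ext ((sq _).trans g.2.2))
  rw [hg, card_V4] at this
  omega

theorem V4_le {K : Subgroup (Equiv.Perm (Fin 4))} (hK : alternatingGroup (Fin 4) ≤ N(K)) (h : K ≠ ⊥) : V4 ≤ K := by
  obtain ⟨⟨x, hx⟩, n⟩ := ne_bot_iff_exists_ne_one.1 h
  have k : ∀ x : Equiv.Perm (Fin 4), x ≠ 1 → ∀ v, Equiv.Perm.sign v = 1 ∧ v * v = 1 → ∃ a, Equiv.Perm.sign a = 1 ∧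
      ∃ b, Equiv.Perm.sign b = 1 ∧ v = a * x * a⁻¹ * (b * x⁻¹ * b⁻¹) := by decide +kernel
  intro v hv
  obtain ⟨a, ha, b, hb, rfl⟩ := k x (fun e => n (Subtype.ext e)) v hv
  exact mul_mem (CfsgH1.conj_mem_of_mem_normalizer (hK ha) hx) (CfsgH1.conj_mem_of_mem_normalizer (hK hb) (inv_mem hx))

theorem V4_comm : V4 ≤ ⁅alternatingGroup (Fin 4), alternatingGroup (Fin 4)⁆ := fun v hv => by
  have k : ∀ v : Equiv.Perm (Fin 4), Equiv.Perm.sign v = 1 ∧ v * v = 1 → ∃ a, Equiv.Perm.sign a = 1 ∧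
      ∃ b, Equiv.Perm.sign b = 1 ∧ v = a * b * a⁻¹ * b⁻¹ := by decide +kernel
  obtain ⟨a, ha, b, hb, rfl⟩ := k v hv
  exact commutator_mem_commutator ha hb

theorem V4_act {g : Equiv.Perm (Fin 4)} (h3 : g ^ 3 = 1) (h : g ∈ C(V4)) : g = 1 := by
  have k : ∀ g : Equiv.Perm (Fin 4), g ^ 3 = 1 → (∀ v, Equiv.Perm.sign v = 1 ∧ v * v = 1 → v * g = g * v) → g = 1 := by
    decide +kernel
  exact k g h3 h

variable {G : Type*} [Group G] [Finite G]

theorem FC.q8 (h : FC G) {f : G →* Equiv.Perm (Fin 4)} (hA : alternatingGroup (Fin 4) ≤ f.range) (hk : f.ker ≤ center G)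
    {m : ℕ} (hm : Odd m) (hc : Nat.card f.ker = 2 * m) (N : Subgroup G) [N.Normal] (hN : ¬ N ≤ f.ker) :
    ∃ P : Subgroup G, P.Normal ∧ P ≤ N ∧ P.map f = V4 ∧ Nonempty (P ≃* QuaternionGroup 2) := by
  have l : V4 ≤ N.map f := V4_le (hA.trans ((MonoidHom.range_eq_map f).trans_le
    ((map_mono (normalizer_eq_top N).ge).trans (le_normalizer_map f)))) (mt (Subgroup.map_eq_bot_iff _).1 hN)
  have e : (N ⊓ V4.comap f).map f = V4 := le_antisymm (map_le_iff_le_comap.2 inf_le_right) fun v hv => by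
    obtain ⟨n, hn, rfl⟩ := l hv
    exact ⟨n, ⟨hn, hv⟩, rfl⟩
  haveI := (by rw [e]; exact V4_two : IsPGroup 2 ((N ⊓ V4.comap f).map f)).isNilpotent
  have s := sylow_Opi_of_nilpotent (p := 2) (Subgroup.isNilpotent_of_ker_le_center (f.subgroupMap (N ⊓ V4.comap f))
    fun x hx => mem_center_iff.2 fun y => Subtype.ext (mem_center_iff.1 (hk (congrArg Subtype.val hx)) y))
  have e2 := (e ▸ s.map f).eq_of_isPGroup V4_two
  refine ⟨_, normal_of_top_le (le_normalizer_Opi_of _ (normalizer_eq_top _).ge), s.le.trans inf_le_left, e2, ?_⟩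
  have c : ¬ IsCyclic (Opi {2} (N ⊓ V4.comap f)) := fun c => V4_not_cyc (e2 ▸ isCyclic_map' c f)
  obtain ⟨-, n, ⟨d⟩⟩ := (h.cq s.pgroup).resolve_left c
  have d1 : Nat.card (Opi {2} (N ⊓ V4.comap f)) ∣ 8 * m := by
    rw [← (f.ker.subgroupOf _).card_mul_index, ← relIndex, relIndex_ker, e2, card_V4, show 8 * m = 2 * m * 4 by ring, ← hc]
    exact mul_dvd_mul_right (card_comap_dvd_of_injective _ _ Subtype.val_injective) 4
  rw [Nat.card_congr d.toEquiv, Nat.card_eq_fintype_card, QuaternionGroup.card, show 4 * 2 ^ n = 2 ^ (n + 2) by ring] at d1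
  have := (Nat.pow_dvd_pow_iff_le_right one_lt_two (k := n + 2) (l := 3)).1
    (((coprime_two_iff_odd.2 hm).symm.pow_left _).dvd_of_dvd_mul_right d1)
  obtain rfl | rfl : n = 0 ∨ n = 1 := by omega
  · exact (c (d.isCyclic.2 QuaternionGroup.quaternionGroup_one_isCyclic)).elim
  · exact ⟨d⟩

theorem FC.sl23 (h : FC G) {P : Subgroup G} (e : P ≃* QuaternionGroup 2) {g : G} (hg : g ∈ N(P)) (h3 : g ^ 3 = 1)
    (hc : g ∉ C(P)) : Nonempty (↥(P ⊔ zpowers g) ≃* Matrix.SpecialLinearGroup (Fin 2) (ZMod 3)) := by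
  obtain ⟨a, b, k⟩ := mc_of_quaternion (n := 0) e
  obtain ⟨j, ⟨-, -, e⟩ | ⟨e0, e1, e2⟩⟩ := k.odd_act le_rfl hg
    (Odd.of_dvd_nat (by decide : Odd 3) (orderOf_dvd_of_pow_eq_one h3)) hc
  · rw [mem_center_iff.1 (h.cent k.orderOf_z) g, mul_inv_cancel_right] at e
    exact absurd (e ▸ zpow_mem (mem_zpowers a) _) (k.toIdx2.pow_mul_notMem j)
  have h4 := k.q8_of e0
  rw [← e1] at h4
  exact sl23_of_act h4 k.orderOf_c hg h3 e2

theorem not_comm_Q8 : ¬ IsMulCommutative (QuaternionGroup 2) := fun h =>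
  absurd (h.1.1 (.a 1) (.xa 0)) (by decide)

variable {p : ℕ} [hp : Fact p.Prime] {V : Type*} [AddCommGroup V] [Module (ZMod p) V] [Finite V] [Nontrivial V]
  {H : Subgroup (V ≃ₗ[ZMod p] V)}

theorem reg_irr (hreg : ∀ v w : V, v ≠ 0 → w ≠ 0 → ∃! h : H, h.1 v = w) (hV : Nat.card V = p ^ 2) {N : Subgroup H}
    (hN : ¬ IsMulCommutative N) : (∀ W : Submodule (ZMod p) V, (∀ n ∈ N, ∀ v ∈ W, n.1 v ∈ W) → W = ⊥ ∨ W = ⊤) ∧
      C(N) ≤ C(C(N)) := by
  have i : ∀ W : Submodule (ZMod p) V, (∀ n ∈ N, ∀ v ∈ W, n.1 v ∈ W) → W = ⊥ ∨ W = ⊤ := fun W hW => by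
    by_contra n
    rw [not_or] at n
    rw [Module.natCard_eq_pow_finrank (K := ZMod p), Nat.card_zmod] at hV
    have r := Nat.pow_right_injective hp.out.two_le hV
    have h1 := Submodule.finrank_lt n.2
    have h2 := Submodule.one_le_finrank_iff.2 n.1
    obtain ⟨w, hw, w0⟩ := (Submodule.ne_bot_iff W).1 n.1
    have k := (finrank_eq_one_iff_of_nonzero' (K := ZMod p) (⟨w, hw⟩ : W) fun e => w0 (congrArg Subtype.val e)).1 (by omega)
    refine hN ⟨⟨fun a b => Subtype.ext ((hreg w ((b * a).1.1 w) w0 (by simpa)).unique ?_ rfl)⟩⟩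
    obtain ⟨x, hx⟩ := k ⟨_, hW _ a.2 w hw⟩
    obtain ⟨y, hy⟩ := k ⟨_, hW _ b.2 w hw⟩
    have hx : x • w = a.1.1 w := congrArg Subtype.val hx
    have hy : y • w = b.1.1 w := congrArg Subtype.val hy
    change a.1.1 (b.1.1 w) = b.1.1 (a.1.1 w)
    rw [← hy, map_smul, ← hx, map_smul, ← hy, smul_comm]
  refine ⟨i, fun x hx y hy => Subtype.ext (LinearEquiv.toLinearMap_injective ?_)⟩
  haveI : Finite (End (ZMod p) V) := Finite.of_injective _ DFunLike.coe_injective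
  let R := Subring.centralizer (Set.range fun n : N => n.1.1.toLinearMap)
  haveI : NoZeroDivisors R := ⟨fun {a b} e => or_iff_not_imp_left.2 fun n => Subtype.ext (LinearMap.ext fun v => by
    refine (LinearMap.ker_eq_bot.1 ((i (LinearMap.ker a.1) fun m hm v hv => ?_).resolve_right fun k => n
      (Subtype.ext (LinearMap.ker_eq_top.1 k)))) ((LinearMap.congr_fun (congrArg Subtype.val e) v).trans (map_zero _).symm)
    exact (LinearMap.congr_fun (a.2 _ ⟨⟨m, hm⟩, rfl⟩) v).symm.trans (by simp [LinearMap.mem_ker.1 hv]))⟩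
  haveI := NoZeroDivisors.to_isDomain R
  have k : ∀ x ∈ C(N), x.1.toLinearMap ∈ R := by
    rintro x hx _ ⟨n, rfl⟩; exact congrArg (fun x : H => x.1.toLinearMap) (hx n n.2)
  exact congrArg Subtype.val ((Finite.isDomain_to_isField R).mul_comm ⟨_, k y hy⟩ ⟨_, k x hx⟩)

theorem reg_solv' (hreg : ∀ v w : V, v ≠ 0 → w ≠ 0 → ∃! h : H, h.1 v = w) [Group.IsSolvable H] (h2 : p ≠ 2)
    (hi : ∀ N : Subgroup H, N.index ≠ 2) : Nat.card V = 25 ∧ Nonempty (H ≃* Matrix.SpecialLinearGroup (Fin 2) (ZMod 3)) ∨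
      Nat.card V = 121 ∧ Nonempty (H ≃* Matrix.SpecialLinearGroup (Fin 2) (ZMod 3) × Multiplicative (ZMod 5)) := by
  obtain ⟨h, c⟩ := reg_basic hreg
  rcases h.solv' with ⟨N, _, _, i⟩ | ⟨f, f1, -⟩
  · obtain rfl := index_eq_one.1 (((Nat.dvd_prime Nat.prime_two).1 i).resolve_right (hi N))
    haveI : IsZGroup H := .of_surjective (f := (⊤ : Subgroup H).subtype) fun x => ⟨⟨x, trivial⟩, rfl⟩
    obtain ⟨S⟩ : Nonempty (Sylow 2 H) := inferInstance
    obtain ⟨K, hK⟩ := exists_index_two_of_hasNPC (hasNPC_top_iff.1 (hasNPC_of_cyclic_two (.of_sylow_top S) inferInstance)) (by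
        rw [Module.natCard_eq_pow_finrank (K := ZMod p) (V := V), Nat.card_zmod] at c
        exact Nat.not_odd_iff_even.1 fun o => Nat.not_even_iff_odd.2 (hp.out.odd_of_ne_two h2).pow (c ▸ o.add_one))
    exact (hi K hK).elim
  rcases reg_solv hreg with ⟨D, _, _, -, l, -⟩ | ⟨e, e', f, f1, f2, m, f3, f4⟩
  · refine (V4_not_cyc (L2.cyc_of_le (isCyclic_map' (h.cyc l) f) (V4_comm.trans ((commutator_mono f1 f1).trans ?_)))).elim
    rw [MonoidHom.range_eq_map, ← map_commutator]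
    exact map_mono (CfsgFT.der_le_cent_of_cyclic ‹_› (normalizer_eq_top D).ge)
  have r : f.range = alternatingGroup (Fin 4) := le_antisymm (relIndex_eq_one.1 (((Nat.dvd_prime Nat.prime_two).1
    ((relIndex_dvd_index_of_normal _ _).trans alternatingGroup.index_eq_two.dvd)).resolve_right
      (index_comap _ f ▸ hi _))) f1
  have c1 : Nat.card H = 24 * m := by
    rw [← f.ker.card_mul_index, index_ker, r, f4, alternatingGroup.card_of_card_eq_four (by simp)]; ring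
  have m5 : p = 5 ∧ m = 1 ∨ p = 11 ∧ m = 5 := by
    obtain ⟨j, rfl⟩ := f3
    rcases e' with rfl | rfl | rfl | rfl <;> omega
  obtain ⟨P, _, -, k, ⟨d⟩⟩ := h.q8 f1 f2 f3 f4 ⊤ fun l => V4_not_cyc (by
    rw [eq_bot_iff.2 (V4_comm.trans ((commutator_le_left _ _).trans (f1.trans ((MonoidHom.range_eq_map f).trans_le
      (map_le_iff_le_comap.2 l)))))]; infer_instance)
  haveI : Fact (Nat.Prime 3) := ⟨Nat.prime_three⟩
  obtain ⟨g, hg⟩ := exists_prime_orderOf_dvd_card' (G := H) 3 (c1 ▸ Dvd.dvd.mul_right (by norm_num) m)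
  have g3 := hg ▸ pow_orderOf_eq_one g
  obtain ⟨s⟩ := h.sl23 d ((normalizer_eq_top P).ge (mem_top g)) g3 fun n => by
    have := orderOf_dvd_natCard (⟨g, V4_act (by rw [← map_pow, g3, map_one]) (by
      rw [← k]; rintro _ ⟨x, hx, rfl⟩; rw [← map_mul, n x hx, map_mul])⟩ : f.ker)
    rw [← orderOf_coe, hg, f4] at this
    omega
  have cs := (Nat.card_congr s.toEquiv).trans card_sl23
  rcases m5 with ⟨rfl, rfl⟩ | ⟨rfl, rfl⟩
  · exact .inl ⟨e, ⟨(topEquiv.symm.trans (MulEquiv.subgroupCongr (eq_top_of_card_eq _ (cs.trans c1.symm)).symm)).trans s⟩⟩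
  obtain ⟨z, hz⟩ := exists_prime_orderOf_dvd_card' (G := f.ker) 5 (f4 ▸ by norm_num)
  have cz : Nat.card (zpowers z.1) = 5 := by rw [Nat.card_zpowers, orderOf_coe, hz]
  obtain ⟨t⟩ := sup_equiv_prod' (A := P ⊔ zpowers g) (B := zpowers z.1) (le_centralizer_iff.1 ((zpowers_le.2 (f2 z.2)).trans
    (center_le_centralizer _))) (disjoint_of_coprime_natCard (by rw [cs, cz]; norm_num)).eq_bot
  rw [eq_top_of_card_eq _ ((Nat.card_congr t.toEquiv).trans (by rw [Nat.card_prod, cs, cz, c1]))] at t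
  exact .inr ⟨e, ⟨(topEquiv.symm.trans t).trans (s.prodCongr (mulEquivOfPrimeCardEq cz (by simp)))⟩⟩

end CfsgH1
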