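import Cfsg.Agent.H1.FC1

/-! Fixed-point-free representations: change of characteristic. -/

set_option autoImplicit false
set_option linter.style.haveILetI false
set_option linter.unusedSectionVars false

namespace CfsgH1
open Subgroup Cfsg CfsgFT CfsgH2 Finset MonoidAlgebra

theorem ext_zmod {p : ℕ} [Fact p.Prime] {B V X : Type*} [AddCommGroup B] [AddCommGroup V] [Module (ZMod p) V]
    [AddCommGroup X] (ψ : X →+ B) (φ : X →+ V) (h : ∀ x b, p • b = ψ x → φ x = 0) :
    ∃ π : B →+ V, ∀ x, π (ψ x) = φ x := by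
  let K := (nsmulAddMonoidHom p : B →+ B).range
  letI := QuotientAddGroup.zmodModule (n := p) (H := K) fun x => ⟨x, rfl⟩
  let Γ := AddSubgroup.toZModSubmodule p (((QuotientAddGroup.mk' K).comp ψ).prod φ).range
  obtain ⟨g, hg⟩ := Γ.toLinearPMap.toFun.exists_extend
  refine ⟨g.toAddMonoidHom.comp (QuotientAddGroup.mk' K), fun x => ?_⟩
  obtain ⟨y, h1, h2⟩ := (LinearPMap.mem_graph_iff _).1 ((Γ.toLinearPMap_graph_eq (by
    rintro _ ⟨x, rfl⟩ hx
    exact ((QuotientAddGroup.eq_zero_iff _).1 hx).elim (h x))).ge (⟨x, rfl⟩ : _ ∈ Γ))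
  exact (congrArg g.toAddMonoidHom h1.symm).trans ((DFunLike.congr_fun hg y).trans h2)

theorem gs_mul {A : Type*} [Ring A] {a : A} {n : ℕ} (h : a ^ n = 1) :
    (∑ i ∈ range n, a ^ i) * ∑ i ∈ range n, a ^ i = n • ∑ i ∈ range n, a ^ i := by
  have e : a * ∑ i ∈ range n, a ^ i = ∑ i ∈ range n, a ^ i := by
    have := mul_geom_sum a n
    rwa [h, sub_self, sub_mul, one_mul, sub_eq_zero] at this
  have e' : ∀ j, a ^ j * ∑ i ∈ range n, a ^ i = ∑ i ∈ range n, a ^ i := fun j => by
    induction j with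
    | zero => simp
    | succ j ih => rw [pow_succ, mul_assoc, e, ih]
  rw [sum_mul, sum_congr rfl fun j _ => e' j, sum_const, card_range]

variable (G : Type*) [Group G]

/-- functions whose sums over the cosets of subgroups of prime order vanish -/
def FF (k : Type*) [CommRing k] : Submodule k (G → k) where
  carrier := {f | ∀ x, (orderOf x).Prime → ∀ h, ∑ i ∈ range (orderOf x), f (x ^ i * h) = 0}
  add_mem' ha hb x hx h := by simp [sum_add_distrib, ha x hx h, hb x hx h]
  zero_mem' := by simp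
  smul_mem' c f hf x hx h := by simp [← mul_sum, hf x hx h]

noncomputable def fI : Ideal (MonoidAlgebra ℤ G) :=
  Ideal.span {a | ∃ x h, (orderOf x).Prime ∧ a = (∑ i ∈ range (orderOf x), of ℤ G x ^ i) * of ℤ G h}

variable {G} [Finite G]

theorem fI_ker {R : Type*} [Ring R] (τ : G →* R) (h : ∀ x, (orderOf x).Prime → ∑ i ∈ range (orderOf x), τ x ^ i = 0)
    {a : MonoidAlgebra ℤ G} (ha : a ∈ fI G) : lift ℤ R G τ a = 0 :=
  (Ideal.span_le (I := RingHom.ker (lift ℤ R G τ))).2 (by rintro _ ⟨x, g, hx, rfl⟩; simp [h x hx]) ha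

theorem fI_mod {p : ℕ} [hp : Fact p.Prime] {V : Type*} [AddCommGroup V] [Module (ZMod p) V] [Nontrivial V]
    (τ : G →* Module.End ℤ V) (hd : ¬ p ∣ Nat.card G)
    (h : ∀ x, (orderOf x).Prime → ∑ i ∈ range (orderOf x), τ x ^ i = 0) {n : ℕ} (hn : (n : MonoidAlgebra ℤ G) ∈ fI G) :
    n = 0 := by
  haveI := Fintype.ofFinite G
  have u : ∀ m : ℕ, ¬ p ∣ m → ∀ v : V, m • v = 0 → v = 0 := fun m hm v e => by
    rw [← Nat.cast_smul_eq_nsmul (ZMod p)] at e
    exact (smul_eq_zero.1 e).resolve_left (mt (ZMod.natCast_eq_zero_iff _ _).1 hm)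
  let F := lift ℤ (Module.End ℤ V) G τ
  obtain ⟨v, hv⟩ := exists_ne (0 : V)
  have key : ∀ i : ℕ, ∀ a, p ^ i • a ∈ fI G → F a v = 0 := fun i => by
    induction i with
    | zero => exact fun a ha => by rw [pow_zero, one_smul] at ha; rw [fI_ker τ h ha]; rfl
    | succ i ih =>
      intro a ha
      let X := (fI G).toAddSubgroup.comap (nsmulAddMonoidHom (p ^ (i + 1)))
      obtain ⟨π, hπ⟩ := ext_zmod (p := p) ((nsmulAddMonoidHom (p ^ (i + 1))).addSubgroupComap (fI G).toAddSubgroup)
        ((((LinearMap.applyₗ v).comp F.toLinearMap).toAddMonoidHom).comp X.subtype) fun x b e => ih x (by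
          have : p • b.1 = p • p ^ i • x.1 := (congrArg Subtype.val e).trans (by rw [smul_smul, ← pow_succ']; rfl)
          rw [← smul_right_injective _ hp.out.ne_zero this]; exact b.2)
      let σ : fI G →+ V := ∑ g, (τ g⁻¹).toAddMonoidHom.comp (π.comp (DistribSMul.toAddMonoidHom (fI G) (of ℤ G g)))
      have s0 : ∀ w, σ w = ∑ g, τ g⁻¹ (π (of ℤ G g • w : fI G)) := fun w => AddMonoidHom.finsetSum_apply _ _ _
      have s1 : ∀ b w, σ (b • w) = F b (σ w) := fun b w => by
        induction b using MonoidAlgebra.induction_on with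
        | of g =>
          rw [s0, s0, lift_of, map_sum]
          refine Fintype.sum_equiv (Equiv.mulRight g) _ _ fun x => ?_
          rw [smul_smul, ← map_mul, ← Module.End.mul_apply, ← map_mul]; simp
        | add a b ha hb => rw [add_smul, map_add, ha, hb, map_add]; rfl
        | smul r a ha => rw [smul_assoc, map_zsmul, ha, map_zsmul]; rfl
      have s2 : ∀ w hw, σ ⟨w, hw⟩ = 0 := fun w hw => by
        induction hw using Submodule.span_induction with
        | mem _ hw =>
          obtain ⟨x, g, hx, rfl⟩ := hw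
          refine u (orderOf x) (fun d => hd (d.trans (orderOf_dvd_natCard x))) _ ?_
          have := s1 (∑ i ∈ range (orderOf x), of ℤ G x ^ i) ⟨_, Ideal.subset_span ⟨x, g, hx, rfl⟩⟩
          rw [fI_ker τ h (Ideal.subset_span ⟨x, 1, hx, by rw [map_one, mul_one]⟩)] at this
          rw [← map_nsmul]
          refine (congrArg σ (Subtype.ext ?_)).trans this
          rw [Submodule.coe_smul_of_tower, Submodule.coe_smul, smul_eq_mul]
          rw [← mul_assoc, gs_mul (by rw [← map_pow, pow_orderOf_eq_one, map_one]), smul_mul_assoc]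
        | zero => exact map_zero σ
        | add a b h1 h2 ha hb => exact (map_add σ ⟨a, h1⟩ ⟨b, h2⟩).trans (by rw [ha, hb, add_zero])
        | smul r a h1 ha => exact (s1 r ⟨a, h1⟩).trans (by rw [ha, map_zero])
      refine u _ hd _ ((?_ : _ = _).trans (s2 _ ha))
      rw [s0, Nat.card_eq_fintype_card, ← card_univ, ← sum_const]
      refine sum_congr rfl fun g _ => ?_
      have := hπ ⟨of ℤ G g * a, show p ^ (i + 1) • _ ∈ fI G by rw [← mul_smul_comm]; exact Ideal.mul_mem_left _ _ ha⟩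
      refine Eq.trans ?_ (congrArg _ ((congrArg π (Subtype.ext (mul_smul_comm _ _ _))).trans this).symm)
      change _ = (τ g⁻¹ * F (of ℤ G g * a)) v
      rw [map_mul, lift_of, ← mul_assoc, ← map_mul, inv_mul_cancel, map_one, one_mul]
  by_contra n0
  obtain ⟨i, m, hm, rfl⟩ := Nat.exists_eq_pow_mul_and_not_dvd n0 p hp.out.ne_one
  have := key i m (by rwa [nsmul_eq_mul, ← Nat.cast_mul])
  rw [map_natCast] at this
  exact hv (u m hm v (by simpa using this))

theorem ff_of_fI (h : ∀ n : ℕ, (n : MonoidAlgebra ℤ G) ∈ fI G → n = 0) (k : Type*) [CommRing k] [Nontrivial k] :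
    FF G k ≠ ⊥ := by
  let R := MonoidAlgebra ℤ G ⧸ (fI G).restrictScalars ℤ
  let T := R ⧸ Submodule.torsion ℤ R
  let q : MonoidAlgebra ℤ G →ₗ[ℤ] T := (Submodule.mkQ _).comp (Submodule.mkQ _)
  haveI : Nontrivial T := ⟨q 1, 0, fun e => by
    obtain ⟨⟨n, hn⟩, e⟩ := (Submodule.Quotient.mk_eq_zero _).1 e
    have e : (n : MonoidAlgebra ℤ G) ∈ fI G := by
      rw [← zsmul_one]; exact (Submodule.Quotient.mk_eq_zero ((fI G).restrictScalars ℤ)).1 e
    refine nonZeroDivisors.ne_zero hn (Int.natAbs_eq_zero.1 (h _ ?_))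
    rcases Int.natAbs_eq n with a | a <;> rw [a] at e
    · simpa using e
    · simpa using e⟩
  let b := Module.Free.chooseBasis ℤ T
  obtain ⟨i⟩ := b.index_nonempty
  let s := (b.coord i).comp q
  refine (Submodule.ne_bot_iff _).2 ⟨fun g => s (of ℤ G g), fun x hx g => ?_, fun e => ?_⟩
  · rw [← Int.cast_sum, ← map_sum, show s _ = 0 from ?_, Int.cast_zero]
    refine (congrArg (fun x => b.coord i (Submodule.mkQ _ x)) ((Submodule.Quotient.mk_eq_zero _).2
      (Ideal.subset_span ⟨x, g, hx, by simp [sum_mul]⟩))).trans (by simp)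
  · obtain ⟨a, ha⟩ := ((Submodule.mkQ_surjective _).comp (Submodule.mkQ_surjective _) : Function.Surjective q) (b i)
    have : ∀ a, (s a : k) = 0 := fun a => by
      induction a using MonoidAlgebra.induction_on with
      | of g => exact congrFun e g
      | add a b ha hb => simp [ha, hb]
      | smul r a ha => rw [map_smul, smul_eq_mul, Int.cast_mul, ha, mul_zero]
    simpa [s, show q a = b i from ha] using this a

/-- the representation on `FF` -/
def ffRep (G : Type*) [Group G] (k : Type*) [CommRing k] : Representation k G (FF G k) where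
  toFun g := (LinearMap.funLeft k k (g⁻¹ * ·)).restrict fun f hf x hx h => by
    have e : orderOf (g⁻¹ * x * g⁻¹⁻¹) = orderOf x := orderOf_conj' _ _
    have := hf _ (e ▸ hx) (g⁻¹ * h)
    simp only [e, conj_pow] at this
    simpa [mul_assoc] using this
  map_one' := by ext; simp
  map_mul' a b := by ext f x; exact congrArg f.1 (by simp [mul_assoc])

theorem ffRep_fpf {k : Type*} [Field k] (hk : (Nat.card G : k) ≠ 0) {g : G} (hg : g ≠ 1) {f : FF G k}
    (e : ffRep G k g f = f) : f = 0 := by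
  obtain ⟨r, hr, d⟩ := Nat.exists_prime_and_dvd (mt orderOf_eq_one_iff.1 hg)
  have o := orderOf_pow_orderOf_div (orderOf_pos g).ne' d
  have a : ∀ n : ℕ, ∀ h, f.1 (g ^ n * h) = f.1 h := fun n h => by
    induction n with
    | zero => simp
    | succ n ih => rw [← ih, ← congrFun (congrArg Subtype.val e) (g ^ (n + 1) * h), pow_succ', mul_assoc]; exact congrArg f.1 (by simp)
  ext h
  have := f.2 _ (o ▸ hr) h
  simp only [← pow_mul, a, sum_const, card_range, o, nsmul_eq_mul] at this
  exact (mul_eq_zero.1 this).resolve_left fun z => hk (by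
    obtain ⟨c, hc⟩ := d.trans (orderOf_dvd_natCard g); rw [hc, Nat.cast_mul, z, zero_mul])

theorem fc_of_ff {p : ℕ} [Fact p.Prime] (hd : ¬ p ∣ Nat.card G) (h : FF G (ZMod p) ≠ ⊥) : FC G := by
  haveI := Submodule.nontrivial_iff_ne_bot.2 h
  exact fc_of_act (K := Multiplicative (FF G (ZMod p))) (MonoidHom.mk' (fun g => AddEquiv.toMultiplicative
    (LinearMap.GeneralLinearGroup.toLinearEquiv ((ffRep G (ZMod p)).asGroupHom g)).toAddEquiv) fun _ _ => by rw [map_mul]; rfl)
    fun g f e => or_iff_not_imp_left.2 fun n => ffRep_fpf (mt (ZMod.natCast_eq_zero_iff _ _).1 hd) n e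

theorem fc_of_fI (h : ∀ n : ℕ, (n : MonoidAlgebra ℤ G) ∈ fI G → n = 0) : FC G := by
  obtain ⟨p, h1, h2⟩ := Nat.exists_infinite_primes (Nat.card G + 1)
  haveI := Fact.mk h2
  exact fc_of_ff (p := p) (fun d => absurd (Nat.le_of_dvd Nat.card_pos d) (by omega)) (ff_of_fI h _)

theorem FC.ff [Nontrivial G] (h : FC G) (k : Type*) [CommRing k] [Nontrivial k] : FF G k ≠ ⊥ := by
  obtain ⟨p, _, W, _, _, _, _, ρ, h1, -, h2⟩ := h.rep
  letI := Module.compHom W (algebraMap (ZMod p) (AlgebraicClosure (ZMod p)))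
  let τ : G →* Module.End ℤ W := ⟨⟨fun g => (ρ g).restrictScalars ℤ, LinearMap.ext fun v => by simp⟩,
    fun a b => LinearMap.ext fun v => by simp⟩
  refine ff_of_fI (fun n => fI_mod τ h1 fun x hx => LinearMap.ext fun v => h2 x (mt orderOf_eq_one_iff.2 hx.ne_one) _ ?_) k
  have := LinearMap.congr_fun (mul_geom_sum (τ x) (orderOf x)) v
  rw [← map_pow, pow_orderOf_eq_one, map_one, sub_self, sub_mul, one_mul, LinearMap.zero_apply, LinearMap.sub_apply,
    sub_eq_zero] at this
  exact this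

theorem fc_of_div {D : Type*} [DivisionRing D] (H : Subgroup Dˣ) [Finite H] : FC H := by
  let τ : H →* D := (Units.coeHom D).comp H.subtype
  have i : ∀ x, τ x = 1 → x = 1 := fun x e => Subtype.ext (Units.ext e)
  have h : ∀ x, (orderOf x).Prime → ∑ i ∈ range (orderOf x), τ x ^ i = 0 := fun x hx => by
    have := mul_geom_sum (τ x) (orderOf x)
    rw [← map_pow, pow_orderOf_eq_one, map_one, sub_self] at this
    exact (mul_eq_zero.1 this).resolve_left fun e => hx.ne_one (orderOf_eq_one_iff.2 (i x (sub_eq_zero.1 e)))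
  refine fc_of_fI fun n hn => ?_
  obtain ⟨p, _⟩ := CharP.exists D
  rcases CharP.char_is_prime_or_zero D p with hp | rfl
  · haveI := Fact.mk hp
    letI := ZMod.algebra D p
    refine fI_mod (p := p) ((Algebra.lmul ℤ D).toMonoidHom.comp τ) (fun d => ?_) (fun x hx => ?_) hn
    · obtain ⟨x, hx⟩ := exists_prime_orderOf_dvd_card' p d
      have := sub_pow_char_of_commute p (Commute.one_right (τ x))
      rw [one_pow, ← map_pow, ← hx, pow_orderOf_eq_one, map_one, sub_self] at this
      exact hp.ne_one (hx ▸ orderOf_eq_one_iff.2 (i x (sub_eq_zero.1 (eq_zero_of_pow_eq_zero this))))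
    · simpa only [map_sum, map_pow, map_zero] using! congrArg (Algebra.lmul ℤ D) (h x hx)
  · haveI := CharP.charP_to_charZero D
    simpa using fI_ker τ h hn

theorem FC.prod {A B : Type*} [Group A] [Finite A] [Nontrivial A] [Group B] [Finite B] [Nontrivial B] (hA : FC A) (hB : FC B)
    (h : (Nat.card A).Coprime (Nat.card B)) : FC (A × B) := by
  obtain ⟨p, h1, h2⟩ := Nat.exists_infinite_primes (Nat.card (A × B) + 1)
  haveI := Fact.mk h2
  obtain ⟨f, f1, f2⟩ := (Submodule.ne_bot_iff _).1 (hA.ff (ZMod p))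
  obtain ⟨g, g1, g2⟩ := (Submodule.ne_bot_iff _).1 (hB.ff (ZMod p))
  obtain ⟨a, ha⟩ := Function.ne_iff.1 f2
  obtain ⟨b, hb⟩ := Function.ne_iff.1 g2
  refine fc_of_ff (p := p) (fun d => absurd (Nat.le_of_dvd Nat.card_pos d) (by omega)) ((Submodule.ne_bot_iff _).2
    ⟨fun x => f x.1 * g x.2, fun ⟨x, y⟩ hx z => ?_, Function.ne_iff.2 ⟨(a, b), mul_ne_zero ha hb⟩⟩)
  rw [Prod.orderOf_mk] at hx ⊢
  rcases (Nat.dvd_prime hx).1 (Nat.dvd_lcm_left (orderOf x) (orderOf y)) with e | e
  · rw [e, Nat.lcm_one_left] at hx ⊢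
    simp [orderOf_eq_one_iff.1 e, ← mul_sum, g1 y hx]
  rcases (Nat.dvd_prime hx).1 (Nat.dvd_lcm_right (orderOf x) (orderOf y)) with e' | e'
  · rw [e', Nat.lcm_one_right] at hx ⊢
    simp [orderOf_eq_one_iff.1 e', ← sum_mul, f1 x hx]
  · exact (hx.ne_one (Nat.eq_one_of_dvd_coprimes h (e ▸ orderOf_dvd_natCard x) (e' ▸ orderOf_dvd_natCard y))).elim

end CfsgH1
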