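import Cfsg.Agent.H1.Dk6
import Cfsg.Agent.H1.PSL2e
import Cfsg.Agent.H1.Ten4
import Cfsg.Agent.H2.MC
import Cfsg.Agent.H2.SylNum
import Cfsg.Agent.S0495

/-! Simple groups of order 168. -/

set_option autoImplicit false
set_option linter.style.haveILetI false
set_option linter.unusedSectionVars false

namespace CfsgH1.G168

open Subgroup Cfsg CfsgH2 CfsgH1.L2 CfsgFT

local instance f7 : Fact (Nat.Prime 7) := ⟨by norm_num⟩

theorem q7 : Fintype.card (ZMod 7) = 7 := ZMod.card 7

theorem ncard_cls {G : Type*} [Group G] [Finite G] (x : G) : {g | IsConj x g}.ncard = (C1(x)).index := by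
  rw [← ncard_carrier_eq_index]
  congr 1

theorem ord_cls {G : Type*} [Group G] {x g : G} (c : IsConj x g) : orderOf g = orderOf x := by
  obtain ⟨c, rfl⟩ := isConj_iff.1 c
  exact orderOf_conj' _ _

variable {G : Type*} [Group G] [Finite G] [IsSimpleGroup G] (h : Nat.card G = 168)
include h

theorem ex : Nonempty (G ≃* P2 (ZMod 7)) := Cfsg.Agent.S0495.result h q7

theorem ord (g : G) : orderOf g = 1 ∨ orderOf g = 2 ∨ orderOf g = 3 ∨ orderOf g = 4 ∨ orderOf g = 7 := by
  obtain ⟨e⟩ := ex h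
  have := order_cases 7 (e g)
  rw [q7, MulEquiv.orderOf_eq] at this
  have k : orderOf g ≤ 7 := by
    rcases this with k | k | k <;> have := Nat.le_of_dvd (by norm_num) k <;> norm_num at this <;> omega
  have := orderOf_pos g
  interval_cases orderOf g <;> simp_all

theorem dih (T : Sylow 2 G) : Nonempty (T ≃* DihedralGroup 4) := by
  obtain ⟨e⟩ := ex h
  obtain ⟨S, hS⟩ := (((IsSylowIn.of_sylow_top T).map e.toMonoidHom).trans_of_not_dvd le_top (by
    rw [map_top_of_surjective _ e.surjective]; simp)).of_top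
  obtain ⟨m, -, c, ⟨k⟩, -⟩ := sylow2_dih (by rw [q7]; decide) S
  have c1 : Nat.card T = 2 ^ 3 := sylow_card_of T (m := 21) h (by norm_num)
  have c2 : Nat.card S = Nat.card T := by
    rw [hS, card_map_of_injective e.injective]
  obtain rfl : m = 4 := by omega
  exact ⟨(((T : Subgroup G).equivMapOfInjective e.toMonoidHom e.injective).trans
    (MulEquiv.subgroupCongr hS.symm)).trans k⟩

theorem mc (T : Sylow 2 G) : ∃ a b, MC (T : Subgroup G) a b (-1) 0 0 := by
  obtain ⟨e⟩ := dih h T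
  obtain ⟨a, b, r, k, k'⟩ := mc_of_dihedral T.2 (by norm_num) e
  obtain rfl : r = 0 := by
    have := Nat.pow_right_injective le_rfl (show 2 ^ 2 = 2 ^ (r + 2) from k')
    omega
  exact ⟨a, b, k⟩

theorem nv {V : Subgroup G} (hV : IsKleinFour V) : NCN N(V) ∧ Nat.card N(V) = 24 := by
  obtain ⟨e⟩ := ex h
  obtain ⟨k, -, c⟩ := card_normV (by rw [q7]; decide)
    (isKleinFour_of_equiv (V.equivMapOfInjective e.toMonoidHom e.injective) hV)
  rw [q7] at c
  rw [← map_equiv_normalizer_eq] at k c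
  exact ⟨(ncn_map e.injective).1 k, by rw [← c (by norm_num), card_map_of_injective e.injective]⟩

theorem coatom_iff (e : G ≃* P2 (ZMod 7)) {M : Subgroup G} : IsCoatom (M.map e.toMonoidHom) ↔ IsCoatom M :=
  (MulEquiv.mapSubgroup e).isCoatom_iff M

theorem max24 {M : Subgroup G} (hn : NCN M) (c : Nat.card M = 24) : IsCoatom M := by
  obtain ⟨e⟩ := ex h
  exact (coatom_iff h e).1 (max_S4 7 q7 (by norm_num) ((ncn_map e.injective).2 hn)
    (by rw [card_map_of_injective e.injective, c]))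

theorem max_cases {M : Subgroup G} (hM : IsCoatom M) : Nat.card M = 21 ∨ NCN M ∧ Nat.card M = 24 := by
  obtain ⟨e⟩ := ex h
  have k := (coatom_iff h e).2 hM
  rw [← card_map_of_injective (f := e.toMonoidHom) e.injective, ← ncn_map (f := e.toMonoidHom) e.injective]
  generalize M.map e.toMonoidHom = M at k
  rcases dicksonP' 7 k.1 with ⟨w, hw, l⟩ | ⟨c, l⟩ | l | l
  · refine (T_not_max hw ?_ (TN_eq (by rw [q7]; norm_num) k hw l ▸ k)).elim
    rcases hw.card_cases with c | c <;> simp [c]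
  · have := card_BB (F := ZMod 7)
    rw [q7] at this
    rw [BB_eq k l, card_cj]
    exact .inl (by have : Nat.card (BB (ZMod 7)) * 2 = 42 := this; omega)
  · have c : Nat.card M ∣ 168 := by rw [← h, Nat.card_congr e.toEquiv]; exact card_subgroup_dvd_card M
    obtain ⟨-, V, hV, rfl⟩ := max_klein 7 (by rw [q7]; decide) (by rw [q7]; norm_num) k l (by
      rcases l.2.1 with d | d | d
      exacts [.inl d, .inr d, by rw [d] at c; norm_num at c])
    exact .inr ⟨l.1, (card_normV (by rw [q7]; decide) hV).2.2 (by rw [q7]; norm_num)⟩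
  · exact (not_subC (by rw [q7]; norm_num) l).elim

theorem cent_pg {p : ℕ} {x : G} (hx : p = 2 ∧ (orderOf x = 2 ∨ orderOf x = 4) ∨ p = 3 ∧ orderOf x = 3 ∨
    p = 7 ∧ orderOf x = 7) : IsPGroup p C1(x) := by
  have : Fact p.Prime := ⟨by rcases hx with k | k | k <;> rw [k.1] <;> norm_num⟩
  refine isPGroup_of_orderOf fun g hg => ?_
  have k := Commute.orderOf_mul_eq_mul_orderOf_of_coprime (mem_cent1.1 hg)
  have k' := ord h (x * g)
  rcases ord h g with e | e | e | e | e <;> rcases hx with ⟨rfl, f | f⟩ | ⟨rfl, f⟩ | ⟨rfl, f⟩ <;> rw [e, f] at k <;>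
    first | exact ⟨0, e⟩ | exact ⟨1, e⟩ | exact ⟨2, e⟩ | (rw [k (by norm_num)] at k'; omega)

theorem card_le {p k m : ℕ} [Fact p.Prime] {P : Subgroup G} (hP : IsPGroup p P) (e : 168 = p ^ k * m) (hm : ¬ p ∣ m) :
    Nat.card P ∣ p ^ k := by
  obtain ⟨S, hS⟩ := hP.exists_le_sylow
  rw [← sylow_card_of S (h.trans e) hm]
  exact card_dvd_of_le hS

theorem cent_p {x : G} (hx : orderOf x = 3 ∨ orderOf x = 7) : C1(x) = zpowers x := by
  refine (CfsgH2.eq_of_le_of_card_le (zpowers_le.2 (self_mem_cent1 x)) ?_).symm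
  rw [Nat.card_zpowers]
  rcases hx with e | e <;> rw [e]
  · exact Nat.le_of_dvd (by norm_num) (card_le h (k := 1) (m := 56) (cent_pg h (.inr (.inl ⟨rfl, e⟩)))
      (by norm_num) (by norm_num))
  · exact Nat.le_of_dvd (by norm_num) (card_le h (k := 1) (m := 24) (cent_pg h (.inr (.inr ⟨rfl, e⟩)))
      (by norm_num) (by norm_num))

theorem cent_z (T : Sylow 2 G) {z : G} (hz : z ∈ (T : Subgroup G)) (h1 : z ≠ 1) (hc : (T : Subgroup G) ≤ C1(z)) :
    C1(z) = T := by
  refine (IsSylowIn.of_sylow_top T).eq_of_le (cent_pg h (.inl ⟨rfl, ?_⟩)) hc le_top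
  obtain ⟨k, e⟩ := exists_orderOf_eq_pow T.2 hz
  have := ord h z
  rcases k with _ | k
  · exact (h1 (orderOf_eq_one_iff.1 e)).elim
  · rw [pow_succ] at e; omega

theorem norm2 (T : Sylow 2 G) : N((T : Subgroup G)) = T := by
  obtain ⟨a, b, k⟩ := mc h T
  refine le_antisymm (fun g hg => ?_) le_normalizer
  have hz := k.z_central
  have o := k.orderOf_z
  rw [← cent_z h T (k.pow_mem _) (ne_one_of_orderOf_two o) fun t ht => mem_cent1'.2 (hz t ht), mem_cent1']
  have : g * a ^ (2 : ℤ) ^ (0 + 1) * g⁻¹ ∈ (T : Subgroup G) ⊓ C((T : Subgroup G)) :=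
    ⟨conj_mem_of_mem_normalizer hg (k.pow_mem _),
      conj_mem_of_mem_normalizer (normalizer_le_normalizer_centralizer _ hg) hz⟩
  rw [k.inf_centralizer_eq, k.mem_z] at this
  rcases this with e | e
  · exact absurd (by simpa using e) (ne_one_of_orderOf_two o)
  · exact mul_inv_eq_iff_eq_mul.1 e

theorem n7 : Nat.card (Sylow 7 G) = 8 := by
  obtain ⟨h1, h2, h3, -⟩ := (CfsgH8.NAS.of_card (G := G) (by rw [h]; norm_num)).sylow (p := 7) (a := 1) (k := 24) h
    (by norm_num) one_ne_zero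
  have := Nat.le_of_dvd (by norm_num) h1
  interval_cases Nat.card (Sylow 7 G) <;> simp_all

theorem card_n7 (P : Sylow 7 G) : Nat.card N((P : Subgroup G)) = 21 := by
  have := N((P : Subgroup G)).card_mul_index
  rw [← card_sylow_top (IsSylowIn.of_sylow_top P), n7 h, h] at this
  omega

theorem exists_syl7 {x : G} (hx : orderOf x = 7) : ∃ P : Sylow 7 G, (P : Subgroup G) = zpowers x := by
  obtain ⟨P, hP⟩ := (isPGroup_zpowers_of_orderOf (p := 7) (k := 1) hx).exists_le_sylow
  exact ⟨P, (CfsgH2.eq_of_le_of_card_le hP (by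
    rw [Nat.card_zpowers, hx]; exact (sylow_card_of P (k := 1) (m := 24) h (by norm_num)).le)).symm⟩

theorem not_real {x : G} (hx : orderOf x = 7) : ¬ IsConj x x⁻¹ := fun c => by
  obtain ⟨g, c⟩ := isConj_iff.1 c
  obtain ⟨P, hP⟩ := exists_syl7 h hx
  have m : g ∈ N((P : Subgroup G)) := by rw [hP, ← cj_eq_iff_mem_normalizer, cj_zpowers, c, zpowers_inv]
  have o : g ^ 21 = 1 := by
    have := pow_card_eq_one' (x := (⟨g, m⟩ : N((P : Subgroup G))))
    rw [card_n7 h] at this
    simpa using congrArg Subtype.val this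
  have s : g ^ 2 ∈ C1(x) := mem_cent1'.2 (by
    have : g * (g * x * g⁻¹) * g⁻¹ = (g * x * g⁻¹)⁻¹ := by nth_rw 1 [c]; group
    rw [c, inv_inv, ← c] at this
    calc g ^ 2 * x = g * (g * x * g⁻¹) * g⁻¹ * g ^ 2 := by rw [sq]; group
      _ = _ := by rw [this])
  have : g ∈ C1(x) := by
    have := pow_mem s 11
    rwa [← pow_mul, show 2 * 11 = 21 + 1 from rfl, pow_succ, o, one_mul] at this
  rw [← mem_cent1.1 this, mul_inv_cancel_right, eq_inv_iff_mul_eq_one, ← sq] at c
  have := orderOf_dvd_of_pow_eq_one c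
  rw [hx] at this
  norm_num at this

theorem cent4 {x : G} (hx : orderOf x = 4) : C1(x) = zpowers x := by
  have p := cent_pg h (.inl ⟨rfl, .inr hx⟩)
  obtain ⟨T, hT⟩ := p.exists_le_sylow
  obtain ⟨a, b, k⟩ := mc h T
  refine (CfsgH2.eq_of_le_of_card_le (zpowers_le.2 (self_mem_cent1 x)) ?_).symm
  rw [Nat.card_zpowers, hx]
  have c := k.card_eq
  obtain ⟨i, hi, e⟩ := (Nat.dvd_prime_pow Nat.prime_two).1 (c ▸ card_dvd_of_le hT)
  by_contra n
  have : C1(x) = T := CfsgH2.eq_of_le_of_card_le hT (by rw [c, e] at *; interval_cases i <;> omega)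
  have m : x ∈ (T : Subgroup G) ⊓ C((T : Subgroup G)) :=
    ⟨hT (self_mem_cent1 x), fun t ht => mem_cent1'.1 (this ▸ ht)⟩
  rw [k.inf_centralizer_eq, k.mem_z] at m
  rcases m with e | e
  · simp [e] at hx
  · rw [e, k.orderOf_z] at hx; omega

theorem idx {x : G} {n : ℕ} (e : C1(x) = zpowers x) (k : orderOf x * n = 168) : {g | IsConj x g}.ncard = n := by
  have := C1(x).card_mul_index
  rw [← ncard_cls, e, Nat.card_zpowers, h, ← k] at this
  exact Nat.eq_of_mul_eq_mul_left (orderOf_pos x) this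

theorem exists_z : ∃ z : G, orderOf z = 2 ∧ {g | IsConj z g}.ncard = 21 := by
  obtain ⟨T⟩ : Nonempty (Sylow 2 G) := inferInstance
  obtain ⟨a, b, k⟩ := mc h T
  refine ⟨_, k.orderOf_z, ?_⟩
  have := (T : Subgroup G).card_mul_index
  rw [ncard_cls, cent_z h T (k.pow_mem _) (ne_one_of_orderOf_two k.orderOf_z) fun t ht => mem_cent1'.2 (k.z_central t ht)]
  rw [k.card_eq, h] at this
  omega

theorem cls_le {x : G} {n : ℕ} (e : orderOf x = n) : {g | IsConj x g} ⊆ {g | orderOf g = n} :=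
  fun _ c => (ord_cls c).trans e

theorem counts : {g : G | orderOf g = 2}.ncard = 21 ∧ {g : G | orderOf g = 3}.ncard = 56 ∧
    {g : G | orderOf g = 4}.ncard = 42 ∧ {g : G | orderOf g = 7}.ncard = 48 := by
  classical
  have := Fintype.ofFinite G
  have s := Finset.card_eq_sum_card_fiberwise (f := orderOf) (s := (Finset.univ : Finset G)) (t := {1, 2, 3, 4, 7})
    fun g _ => by simpa using ord h g
  have e : ∀ n, (Finset.univ.filter fun g : G => orderOf g = n).card = {g : G | orderOf g = n}.ncard := fun n => by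
    rw [← Set.ncard_coe_finset]; simp
  rw [Finset.card_univ, ← Nat.card_eq_fintype_card, h] at s
  simp only [e] at s
  rw [Finset.sum_insert (by decide), Finset.sum_insert (by decide), Finset.sum_insert (by decide),
    Finset.sum_insert (by decide), Finset.sum_singleton] at s
  have s1 : {g : G | orderOf g = 1}.ncard = 1 := by simp
  obtain ⟨z, z1, z2⟩ := exists_z h
  have s2 := Set.ncard_le_ncard (cls_le h z1)
  obtain ⟨x, hx⟩ := exists_prime_orderOf_dvd_card' (G := G) 3 (by rw [h]; norm_num)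
  have s3 := Set.ncard_le_ncard (cls_le h hx)
  rw [idx h (n := 56) (cent_p h (.inl hx)) (by rw [hx])] at s3
  obtain ⟨T⟩ : Nonempty (Sylow 2 G) := inferInstance
  obtain ⟨a, b, k⟩ := mc h T
  have ha : orderOf a = 4 := k.ord
  have s4 := Set.ncard_le_ncard (cls_le h ha)
  rw [idx h (n := 42) (cent4 h ha) (by rw [ha])] at s4
  obtain ⟨y, hy⟩ := exists_prime_orderOf_dvd_card' (G := G) 7 (by rw [h]; norm_num)
  have hy' := (orderOf_inv y).trans hy
  have s7 := Set.ncard_le_ncard (Set.union_subset (cls_le h hy) (cls_le h hy'))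
  rw [Set.ncard_union_eq (Set.disjoint_left.2 fun g (c : g ∈ {g | IsConj y g}) (c' : g ∈ {g | IsConj y⁻¹ g}) =>
    not_real h hy (IsConj.trans c (IsConj.symm c'))),
    idx h (n := 24) (cent_p h (.inr hy)) (by rw [hy]), idx h (n := 24) (cent_p h (.inr hy')) (by rw [hy'])] at s7
  omega

theorem conj_of {x y : G} {n : ℕ} (e : orderOf x = n) (e' : orderOf y = n)
    (k : {g : G | orderOf g = n}.ncard ≤ {g | IsConj x g}.ncard) : IsConj x y := by
  have := Set.eq_of_subset_of_ncard_le (cls_le h e) k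
  exact (this ▸ e' : y ∈ {g | IsConj x g})

theorem conj2 {s t : G} (hs : orderOf s = 2) (ht : orderOf t = 2) : IsConj s t := by
  obtain ⟨z, z1, z2⟩ := exists_z h
  have k := ((counts h).1.trans z2.symm).le
  exact (conj_of h z1 hs k).symm.trans (conj_of h z1 ht k)

theorem n2 : Nat.card (Sylow 2 G) = 21 := by
  obtain ⟨T⟩ : Nonempty (Sylow 2 G) := inferInstance
  obtain ⟨a, b, k⟩ := mc h T
  have := (T : Subgroup G).card_mul_index
  rw [card_sylow_top (IsSylowIn.of_sylow_top T), norm2 h]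
  rw [k.card_eq, h] at this
  omega

theorem n3 : Nat.card (Sylow 3 G) = 28 := by
  obtain ⟨x, e, c, hx, -, -, h3, h4, h5, h6⟩ := (CfsgH8.NAS.of_card (G := G) (by rw [h]; norm_num)).sylow1 (p := 3)
    (k := 56) h (by norm_num)
  rw [cent_p h (.inl hx), Nat.card_zpowers, hx] at h3
  obtain rfl : c = 1 := by omega
  obtain rfl : e = 2 := by have := Nat.le_of_dvd two_pos h5; omega
  omega

/-- The two Klein four-groups of a Sylow 2-subgroup. -/
theorem klein2 (T : Sylow 2 G) : ∃ U W : Subgroup G, U ≠ W ∧ U ≤ T ∧ W ≤ T ∧ IsKleinFour U ∧ IsKleinFour W ∧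
    (∀ V ≤ (T : Subgroup G), IsKleinFour V → V = U ∨ V = W) := by
  obtain ⟨a, b, k⟩ := mc h T
  refine ⟨_, _, fun e => ?_, k.sub_le 1 0, k.sub_le 1 1, k.klein_of (k.dih_sq 0), k.klein_of (k.dih_sq 1),
    fun V hV l => ?_⟩
  · have := (k.out_mem_sub le_rfl 0 1).1 (e ▸ subset_closure (by simp))
    norm_num at this
  · obtain ⟨j, -, rfl⟩ := k.klein_eq hV l
    have key : ∀ i, 2 ∣ j - i → closure {a ^ (2 : ℤ) ^ (0 + 1), a ^ j * b} = closure {a ^ (2 : ℤ) ^ 1, a ^ i * b} :=
      fun i hi => CfsgH2.eq_of_le_of_card_le ((closure_le _).2 (by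
        rintro _ (rfl | rfl)
        · exact subset_closure (by simp)
        · exact (k.out_mem_sub le_rfl j i).2 (by simpa using hi)))
        (by rw [l.card_four, (k.klein_of (k.dih_sq i)).card_four])
    rcases Int.emod_two_eq_zero_or_one j with e | e
    exacts [.inl (key 0 (by omega)), .inr (key 1 (by omega))]

theorem le_norm_klein (T : Sylow 2 G) {U : Subgroup G} (hU : U ≤ T) (k : IsKleinFour U) : (T : Subgroup G) ≤ N(U) := by
  obtain ⟨a, b, m⟩ := mc h T
  have c := CfsgH2.card_mul_relIndex hU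
  rw [k.card_four, m.card_eq] at c
  rw [← normal_subgroupOf_iff_le_normalizer hU]
  exact normal_of_index_eq_two (by change U.relIndex _ = 2; omega)

theorem not_conj (T : Sylow 2 G) {U W : Subgroup G} (hU : U ≤ T) (hW : W ≤ T) (k : IsKleinFour U) (l : IsKleinFour W)
    {g : G} (e : cj g U = W) : U = W := by
  have s := IsSylowIn.of_sylow_top T
  obtain ⟨n, hn, f⟩ := (((s.cj g).trans_of_not_dvd le_top (by simp [cj_top])).mono (K := N(W))
    (by rw [← e, ← cj_normalizer]; exact cj_mono g (le_norm_klein h T hU k)) le_top).exists_cj_eq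
    (s.mono (le_norm_klein h T hW l) le_top)
  rw [cj_cj, cj_eq_iff_mem_normalizer, norm2 h] at f
  rw [← cj_eq_iff_mem_normalizer.2 hn, ← e, cj_cj, cj_eq_iff_mem_normalizer.2 (le_norm_klein h T hU k f)]

theorem klein_unique {U W : Subgroup G} (k : IsKleinFour U) (l : IsKleinFour W) (e : N(U) = N(W)) : U = W := by
  obtain ⟨S, hS⟩ := IsSylowIn.exists_sylowIn (p := 2) N(U)
  obtain ⟨T, hT⟩ := hS.pgroup.exists_le_sylow
  have h1 := hS.le_of_normalizer (isPGroup_of_kleinFour k) le_normalizer le_rfl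
  have h2 := hS.le_of_normalizer (isPGroup_of_kleinFour l) (e ▸ le_normalizer) e.le
  by_contra n
  obtain ⟨a, b, m⟩ := mc h T
  have c : U ⊔ W = T := by
    have l1 : U < U ⊔ W := left_lt_sup.2 fun f => n (CfsgH2.eq_of_le_of_card_le f (by rw [k.card_four, l.card_four])).symm
    have l2 : U ⊔ W ≤ T := (sup_le h1 h2).trans hT
    have := card_lt_of_lt l1
    have d := card_dvd_of_le l2
    refine CfsgH2.eq_of_le_of_card_le l2 ?_
    rw [m.card_eq] at *
    rw [k.card_four] at this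
    obtain ⟨i, hi, f⟩ := (Nat.dvd_prime_pow Nat.prime_two).1 d
    rw [f] at this ⊢
    interval_cases i <;> omega
  have : N(U) ≤ T := by rw [← norm2 h T, ← c]; exact CfsgH1.le_normalizer_sup le_rfl e.le
  have := card_le_of_le this
  rw [m.card_eq, (nv h k).2] at this
  omega

theorem s4_eq {M : Subgroup G} (e : M ≃* Equiv.Perm (Fin 4)) : ∃ V : Subgroup G, IsKleinFour V ∧ M = N(V) := by
  have c : Nat.card M = 24 := by rw [Nat.card_congr e.toEquiv]; simp; rfl
  obtain ⟨V, -, k, l⟩ := ncn_klein (ncn_S4 e) (.inr c)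
  exact ⟨V, k, CfsgH2.eq_of_le_of_card_le l (by rw [c, (nv h k).2])⟩

theorem eq21 {M : Subgroup G} (c : Nat.card M = 21) : ∃ P : Sylow 7 G, M = N((P : Subgroup G)) := by
  obtain ⟨S, hS⟩ := IsSylowIn.exists_sylowIn (p := 7) M
  have c' := M.card_mul_index
  rw [c, h] at c'
  obtain ⟨P, rfl⟩ := (hS.trans_of_not_dvd le_top (by rw [relIndex_top_right]; omega)).of_top
  refine ⟨P, CfsgH2.eq_of_le_of_card_le ?_ (by rw [c, card_n7 h])⟩
  have k := card_sylow_in hS
  have k1 := card_sylow_modEq_one 7 M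
  have k2 : N((P : Subgroup G)).relIndex M ∣ 3 := by
    have := CfsgH2.card_mul_relIndex hS.le
    rw [c, sylow_card_of P (k := 1) (m := 24) h (by norm_num)] at this
    rw [show 3 = (P : Subgroup G).relIndex M by omega]
    exact relIndex_dvd_of_le_left _ le_normalizer
  rw [k] at k1
  rw [← relIndex_eq_one]
  rcases (Nat.dvd_prime Nat.prime_three).1 k2 with e | e
  · exact e
  · rw [e] at k1; exact absurd k1 (by decide)

theorem ncomm21 {M : Subgroup G} (c : Nat.card M = 21) : ¬ IsMulCommutative M := fun k => by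
  obtain ⟨x, hx⟩ := exists_prime_orderOf_dvd_card' (G := M) 7 (by rw [c]; norm_num)
  rw [← Subgroup.orderOf_coe] at hx
  have : M ≤ C1((x : G)) := fun y hy => mem_cent1.2 (setLike_mul_comm x.2 hy)
  have := card_le_of_le this
  rw [cent_p h (.inr hx), Nat.card_zpowers] at this
  omega

end CfsgH1.G168
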