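import Cfsg.Agent.H7.St1

/-! The graphs of a Steiner system `S(3,6,22)`. -/

set_option autoImplicit false
set_option linter.style.haveILetI false
set_option linter.unusedSectionVars false

namespace CfsgH1.HS

open Cfsg Finset CfsgH7

variable {α : Type*} [Fintype α] [DecidableEq α] {B : Set (Finset α)} [Fintype B]

theorem card_nb (s u : Finset α) : (univ.filter fun d : B => s ⊆ d.1 ∧ Disjoint d.1 u).card = nb B s u := by
  rw [nb]
  refine card_bij (fun d _ => d.1) (fun d hd => mem_nbF.2 ⟨d.2, (mem_filter.1 hd).2⟩)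
    (fun _ _ _ _ e => Subtype.ext e) fun c hc => ?_
  exact ⟨⟨c, (mem_nbF.1 hc).1⟩, mem_filter.2 ⟨mem_univ _, (mem_nbF.1 hc).2⟩, rfl⟩

variable (hα : Fintype.card α = 22) (hB : IsSteinerSystem 3 6 B)
include hα hB

theorem moment (Y : Finset α) {i : ℕ} (hi : i ≤ 3) :
    ∑ d : B, ((d.1 ∩ Y).card.choose i : ℤ) = Y.card.choose i * lam 22 3 6 i := by
  have : ∀ d : B, ((d.1 ∩ Y).card.choose i : ℤ) = ∑ s ∈ powersetCard i Y, if s ⊆ d.1 ∧ Disjoint d.1 ∅ then 1 else 0 := by
    intro d
    rw [← card_powersetCard, sum_boole]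
    congr 2
    ext s
    simp only [mem_powersetCard, subset_inter_iff, mem_filter, disjoint_empty_right]
    tauto
  simp only [this]
  rw [sum_comm, ← card_powersetCard, ← nsmul_eq_mul, ← sum_const]
  refine sum_congr rfl fun s hs => ?_
  rw [sum_boole, card_nb, nb_le hB (by norm_num) (by rw [(mem_powersetCard.1 hs).2]; exact hi), hα,
    (mem_powersetCard.1 hs).2]

theorem poly (Y : Finset α) (a b c e : ℤ) :
    ∑ d : B, (a * (d.1 ∩ Y).card.choose 3 + b * (d.1 ∩ Y).card.choose 2 + c * (d.1 ∩ Y).card.choose 1 +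
      e * (d.1 ∩ Y).card.choose 0 : ℤ) =
      a * Y.card.choose 3 + b * (Y.card.choose 2 * 5) + c * (Y.card * 21) + e * 77 := by
  simp only [sum_add_distrib, ← mul_sum]
  rw [moment hα hB Y le_rfl, moment hα hB Y (by norm_num), moment hα hB Y (by norm_num),
    moment hα hB Y (by norm_num), show lam 22 3 6 3 = 1 by decide, show lam 22 3 6 2 = 5 by decide,
    show lam 22 3 6 1 = 21 by decide, show lam 22 3 6 0 = 77 by decide]
  simp

theorem cardB : Fintype.card B = 77 := by
  have := poly hα hB ∅ 0 0 0 1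
  simp only [zero_mul, zero_add, Nat.choose_zero_right, Nat.cast_one, mul_one, sum_const, card_univ,
    nsmul_eq_mul, one_mul] at this
  exact_mod_cast this

theorem inter {b c : B} (h : b ≠ c) : (b.1 ∩ c.1).card = 0 ∨ (b.1 ∩ c.1).card = 2 :=
  s22_inter hα hB b.2 c.2 fun e => h (Subtype.ext e)

theorem common {b c : B} (h : b ≠ c) :
    (univ.filter fun d : B => Disjoint b.1 d.1 ∧ Disjoint c.1 d.1).card = if Disjoint b.1 c.1 then 0 else 4 := by
  have hp := poly hα hB (b.1 ∪ c.1) 6 (-12) 18 (-24)
  have b6 := hB.1 _ b.2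
  have c6 := hB.1 _ c.2
  have key : ∀ d : B, (6 * (d.1 ∩ (b.1 ∪ c.1)).card.choose 3 + -12 * (d.1 ∩ (b.1 ∪ c.1)).card.choose 2 +
      18 * (d.1 ∩ (b.1 ∪ c.1)).card.choose 1 + -24 * (d.1 ∩ (b.1 ∪ c.1)).card.choose 0 : ℤ) =
      -24 * (if Disjoint b.1 d.1 ∧ Disjoint c.1 d.1 then 1 else 0) + 24 * (if d = b then 1 else 0) +
        24 * (if d = c then 1 else 0) := by
    intro d
    have d6 := hB.1 _ d.2
    have b0 : ¬ Disjoint d.1 d.1 := by rw [disjoint_self]; intro e; rw [e] at d6; simp at d6
    by_cases e1 : d = b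
    · subst e1
      rw [inter_eq_left.2 subset_union_left, d6, if_neg fun k => b0 k.1]; simp [h, Nat.choose]
    by_cases e2 : d = c
    · subst e2
      rw [inter_eq_left.2 subset_union_right, d6, if_neg fun k => b0 k.2]; simp [e1, Nat.choose]
    have k := card_union_add_card_inter (d.1 ∩ b.1) (d.1 ∩ c.1)
    have k1 := card_le_card (inter_subset_left (s₁ := d.1 ∩ b.1) (s₂ := d.1 ∩ c.1))
    have k2 := card_le_card (inter_subset_right (s₁ := d.1 ∩ b.1) (s₂ := d.1 ∩ c.1))
    rw [← inter_union_distrib_left] at k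
    have q : Disjoint b.1 d.1 ∧ Disjoint c.1 d.1 ↔ (d.1 ∩ b.1).card = 0 ∧ (d.1 ∩ c.1).card = 0 := by
      simp only [card_eq_zero, ← disjoint_iff_inter_eq_empty, disjoint_comm]
    rw [if_neg e1, if_neg e2, if_congr q rfl rfl]
    have j1 := inter hα hB e1
    have j2 := inter hα hB e2
    generalize (d.1 ∩ (b.1 ∪ c.1)).card = m at *
    split_ifs with z
    · rw [show m = 0 by omega]; simp
    · have : m = 2 ∨ m = 3 ∨ m = 4 := by omega
      rcases this with rfl | rfl | rfl <;> simp [Nat.choose]
  simp only [key, sum_add_distrib, ← mul_sum, sum_boole, filter_eq', mem_univ, if_true, card_singleton] at hp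
  have k := card_union_add_card_inter b.1 c.1
  have q : Disjoint b.1 c.1 ↔ (b.1 ∩ c.1).card = 0 := by rw [card_eq_zero, disjoint_iff_inter_eq_empty]
  rw [if_congr q rfl rfl]
  rcases inter hα hB h with e | e
  · rw [show (b.1 ∪ c.1).card = 12 by omega] at hp
    simp only [Nat.choose] at hp
    rw [if_pos e]; omega
  · rw [show (b.1 ∪ c.1).card = 10 by omega] at hp
    simp only [Nat.choose] at hp
    rw [if_neg (by omega)]; omega

theorem nself (d : B) : ¬ Disjoint d.1 d.1 := by
  have d6 := hB.1 _ d.2
  rw [disjoint_self]; intro e; rw [e] at d6; simp at d6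

theorem deg (b : B) : (univ.filter fun d : B => Disjoint b.1 d.1).card = 16 := by
  have := blk_meet hB (by norm_num) hα b.2 (empty_subset _) card_empty (n := 16) (by decide)
  rw [nb_eq (B := B) _ (s := ∅) (u := b.1) fun c => by simp [disjoint_iff_inter_eq_empty, inter_comm], ← card_nb] at this
  simpa [disjoint_comm] using this

theorem thru (s : Finset α) {i n : ℕ} (hs : s.card = i) (hi : i ≤ 3) (h : lam 22 3 6 i = n) :
    (univ.filter fun d : B => s ⊆ d.1).card = n := by
  have := nb_le hB (by norm_num) (hs ▸ hi)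
  rw [← card_nb, hα, hs, h] at this
  simpa using this

theorem ptblk {p : α} {b : B} (h : p ∉ b.1) :
    (univ.filter fun d : B => p ∈ d.1 ∧ Disjoint b.1 d.1).card = 6 := by
  have hp := poly hα hB (insert p b.1) 6 (-4) 2 0
  have b6 := hB.1 _ b.2
  have key : ∀ d : B, (6 * (d.1 ∩ insert p b.1).card.choose 3 + -4 * (d.1 ∩ insert p b.1).card.choose 2 +
      2 * (d.1 ∩ insert p b.1).card.choose 1 + 0 * (d.1 ∩ insert p b.1).card.choose 0 : ℤ) =
      2 * (if p ∈ d.1 ∧ Disjoint b.1 d.1 then 1 else 0) + 72 * (if d = b then 1 else 0) := by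
    intro d
    by_cases e1 : d = b
    · subst e1
      rw [inter_eq_left.2 (subset_insert _ _), b6]; simp [h, Nat.choose]
    have q : Disjoint b.1 d.1 ↔ (d.1 ∩ b.1).card = 0 := by
      simp only [card_eq_zero, ← disjoint_iff_inter_eq_empty, disjoint_comm]
    rw [if_neg e1, if_congr (and_congr_right' q) rfl rfl]
    by_cases e : p ∈ d.1
    · rw [inter_insert_of_mem e, card_insert_of_notMem (by simp [h])]
      rcases inter hα hB e1 with j | j <;> simp [j, e, Nat.choose]
    · rw [inter_insert_of_notMem e]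
      rcases inter hα hB e1 with j | j <;> simp [j, e]
  simp only [key, sum_add_distrib, ← mul_sum, sum_boole, filter_eq', mem_univ, if_true, card_singleton] at hp
  rw [card_insert_of_notMem h, b6] at hp
  simp only [Nat.choose] at hp
  push_cast at hp
  omega

theorem adj (b c : B) : (blockGraph B).Adj b c ↔ Disjoint b.1 c.1 := by
  rw [blockGraph, SimpleGraph.fromRel_adj, disjoint_comm (a := c.1), or_self]
  exact ⟨fun h => h.2, fun h => ⟨fun e => nself hα hB c (by rwa [e] at h), h⟩⟩

theorem srg77 [DecidableRel (blockGraph B).Adj] : (blockGraph B).IsSRGWith 77 16 0 4 := by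
  have cn : ∀ b c : B, Fintype.card ((blockGraph B).commonNeighbors b c) =
      (univ.filter fun d : B => Disjoint b.1 d.1 ∧ Disjoint c.1 d.1).card := fun b c =>
    Fintype.card_of_subtype _ fun d => by simp [SimpleGraph.mem_commonNeighbors, adj hα hB]
  refine ⟨cardB hα hB, fun b => ?_, fun b c h => ?_, fun b c h h' => ?_⟩
  · rw [← deg hα hB b, SimpleGraph.degree]; congr 1; ext d; simp [adj hα hB]
  · rw [cn, common hα hB h.ne, if_pos ((adj hα hB _ _).1 h)]
  · rw [cn, common hα hB h, if_neg (mt (adj hα hB _ _).2 h')]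

omit hα hB in
theorem card_opt (P : Option (α ⊕ B) → Prop) [DecidablePred P] : (univ.filter P).card =
    (if P none then 1 else 0) + (univ.filter fun a => P (some (.inl a))).card +
      (univ.filter fun b => P (some (.inr b))).card := by
  simp only [card_filter, Fintype.sum_option, Fintype.sum_sum_type, add_assoc]

theorem srg100 [DecidableRel (pointBlockGraph B).Adj] : (pointBlockGraph B).IsSRGWith 100 22 0 6 := by
  have a1 : ¬ (pointBlockGraph B).Adj none none := by simp
  have a2 : ∀ a, (pointBlockGraph B).Adj none (some (.inl a)) := by simp [pointBlockGraph, pointBlockRel]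
  have a3 : ∀ a, ¬ (pointBlockGraph B).Adj none (some (.inr a)) := by simp [pointBlockGraph, pointBlockRel]
  have a4 : ∀ a, (pointBlockGraph B).Adj (some (.inl a)) none := by simp [pointBlockGraph, pointBlockRel]
  have a5 : ∀ a, ¬ (pointBlockGraph B).Adj (some (.inr a)) none := by simp [pointBlockGraph, pointBlockRel]
  have a6 : ∀ a b, ¬ (pointBlockGraph B).Adj (some (.inl a)) (some (.inl b)) := by
    simp [pointBlockGraph, pointBlockRel]
  have a7 : ∀ a b, (pointBlockGraph B).Adj (some (.inl a)) (some (.inr b)) ↔ a ∈ b.1 := by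
    simp [pointBlockGraph, pointBlockRel]
  have a8 : ∀ a b, (pointBlockGraph B).Adj (some (.inr b)) (some (.inl a)) ↔ a ∈ b.1 := by
    simp [pointBlockGraph, pointBlockRel]
  have a9 : ∀ b c, (pointBlockGraph B).Adj (some (.inr b)) (some (.inr c)) ↔ Disjoint b.1 c.1 := fun b c => by
    rw [← adj hα hB]; simp [pointBlockGraph, pointBlockRel, blockGraph]
  have cn : ∀ v w, Fintype.card ((pointBlockGraph B).commonNeighbors v w) =
      (univ.filter fun d => (pointBlockGraph B).Adj v d ∧ (pointBlockGraph B).Adj w d).card := fun b c =>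
    Fintype.card_of_subtype _ fun d => by simp [SimpleGraph.mem_commonNeighbors]
  have b6 : ∀ b : B, b.1.card = 6 := fun b => hB.1 _ b.2
  have pb : ∀ (p : α) (b : B), p ∈ b.1 → (univ.filter fun d : B => p ∈ d.1 ∧ Disjoint b.1 d.1).card = 0 :=
    fun p b h => by
      rw [card_eq_zero, filter_eq_empty_iff]; exact fun d _ k => disjoint_left.1 k.2 h k.1
  refine ⟨by simp [hα, cardB hα hB], fun v => ?_, fun v w h => ?_, fun v w h h' => ?_⟩
  · rw [SimpleGraph.degree, SimpleGraph.neighborFinset_eq_filter, card_opt]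
    rcases v with _ | a | b
    · simp [a2, a3, hα]
    · have := thru hα hB {a} (card_singleton a) (by norm_num) (n := 21) (by decide)
      simp only [singleton_subset_iff] at this
      simp [a4, a6, a7, this]
    · simp [a5, a8, a9, deg hα hB, b6]
  · rw [cn, card_opt]
    rcases v with _ | a | b <;> rcases w with _ | a' | b' <;>
      simp only [a1, a2, a3, a4, a5, a6, a7, a8, a9, false_and, and_false, if_false, filter_false, card_empty,
        zero_add] at h ⊢
    · exact pb _ _ h
    · simpa only [and_comm] using pb _ _ h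
    · rw [common hα hB fun e => nself hα hB b' (by rwa [e] at h), if_pos h, add_zero, card_eq_zero,
        filter_eq_empty_iff]
      exact fun a _ k => disjoint_left.1 h k.1 k.2
  · rw [cn, card_opt]
    rcases v with _ | a | b <;> rcases w with _ | a' | b' <;>
      simp only [a1, a2, a3, a4, a5, a6, a7, a8, a9, false_and, and_false, if_false, filter_false, card_empty,
        zero_add, not_true, true_and, and_true, if_true, add_zero] at h' ⊢
    · exact absurd rfl h
    · simp [b6]
    · have := thru hα hB {a, a'} (card_pair fun e => h (by rw [e])) (by norm_num) (n := 5) (by decide)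
      simp only [insert_subset_iff, singleton_subset_iff] at this
      rw [this]
    · exact ptblk hα hB h'
    · simp [b6]
    · simpa only [and_comm] using ptblk hα hB h'
    · have e : b ≠ b' := fun e => h (by rw [e])
      rw [common hα hB e, if_neg h']
      have := (inter hα hB e).resolve_left (by rwa [card_eq_zero, ← disjoint_iff_inter_eq_empty])
      rw [show (univ.filter fun x => x ∈ b.1 ∧ x ∈ b'.1) = b.1 ∩ b'.1 by ext; simp, this]

end CfsgH1.HS
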