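import Cfsg.Agent.H1.Code

/-! The hexacode. -/

set_option autoImplicit false
set_option linter.style.haveILetI false
set_option linter.unusedSectionVars false

namespace CfsgH1.Code

open Cfsg Equiv

abbrev E := Fin 4

def ad (a b : E) : E := ⟨(a.1 ^^^ b.1) % 4, Nat.mod_lt _ (by norm_num)⟩
def mu (a b : E) : E := ⟨2625168384 / 4 ^ (4 * a.1 + b.1) % 4, Nat.mod_lt _ (by norm_num)⟩
def gn (j : Fin 3) (i : Fin 6) : E := ⟨2 + (153174 / 2 ^ (6 * j.1 + i.1)) % 2, by omega⟩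
def en (u : E × E × E) (i : Fin 6) : E := ad (ad (mu u.1 (gn 0 i)) (mu u.2.1 (gn 1 i))) (mu u.2.2 (gn 2 i))
def Chk (x : Fin 6 → E) : Prop := x 3 = ad (ad (mu 1 (x 0)) (mu 1 (x 1))) (mu 1 (x 2)) ∧ x 4 = ad (ad (mu 3 (x 0)) (mu 2 (x 1))) (mu 1 (x 2)) ∧
  x 5 = ad (ad (mu 2 (x 0)) (mu 3 (x 1))) (mu 1 (x 2))
def Pres (f : Fin 6 → Fin 6) (c : Fin 6 → E) : Prop := ∀ j, Chk fun i => mu (c i) (gn j (f i))
def cv (n : ℕ) (i : Fin 6) : E := ⟨n / 4 ^ i.1 % 4, Nat.mod_lt _ (by norm_num)⟩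
def fv (n : ℕ) (i : Fin 6) : Fin 6 := ⟨n / 6 ^ i.1 % 6, Nat.mod_lt _ (by norm_num)⟩

instance (x : Fin 6 → E) : Decidable (Chk x) := by unfold Chk; infer_instance
instance (f : Fin 6 → Fin 6) (c : Fin 6 → E) : Decidable (Pres f c) := by unfold Pres; infer_instance

theorem ad_eq : ∀ a b, ad a b = ![![0, 1, 2, 3], ![1, 0, 3, 2], ![2, 3, 0, 1], ![3, 2, 1, 0]] a b := by decide +kernel
theorem mu_eq : ∀ a b, mu a b = ![![0, 0, 0, 0], ![0, 1, 2, 3], ![0, 2, 3, 1], ![0, 3, 1, 2]] a b := by decide +kernel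

theorem en_inj : Function.Injective en := fun ⟨a, b, c⟩ ⟨a', b', c'⟩ h => by
  have : ∀ a b c a' b' c', (∀ i, en (a, b, c) i = en (a', b', c') i) → a = a' ∧ b = b' ∧ c = c' := by
    decide +kernel
  simpa using this _ _ _ _ _ _ (congrFun h)

theorem chk_iff {x : Fin 6 → E} : Chk x ↔ ∃ u, en u = x := by
  refine ⟨fun h => ?_, ?_⟩
  · have : ∀ a b c, ∃ a' b' c', en (a', b', c') 0 = a ∧ en (a', b', c') 1 = b ∧ en (a', b', c') 2 = c ∧
      Chk (en (a', b', c')) := by decide +kernel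
    obtain ⟨a, b, c, h0, h1, h2, h3, h4, h5⟩ := this (x 0) (x 1) (x 2)
    rw [h0, h1, h2] at h3 h4 h5
    refine ⟨(a, b, c), funext fun i => ?_⟩
    fin_cases i
    exacts [h0, h1, h2, h3.trans h.1.symm, h4.trans h.2.1.symm, h5.trans h.2.2.symm]
  · rintro ⟨⟨a, b, c⟩, rfl⟩
    revert a b c; decide +kernel

theorem split64 {P : ℕ → Prop} (h : ∀ a < 64, ∀ b < 64, P (64 * a + b)) : ∀ n < 4096, P n := fun n hn => by
  rw [← Nat.div_add_mod n 64]; exact h _ (by omega) _ (by omega)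

theorem P1 : ∀ n < 4096, cv n 0 ≠ 0 → Pres id (cv n) → ∀ i, cv n i = cv n 0 := split64 (by decide +kernel)

theorem P2 : ∀ n < 4096, cv n 0 ≠ 0 → ¬ Pres (fv 38310) (cv n) := split64 (by decide +kernel)

def HD : List (ℕ × ℕ) := [(44790, 1365), (38305, 1365), (44750, 2901), (38055, 2901), (43240, 2925), (28985, 2937), (38280, 3669), (44550, 3669), (30300, 1977), (35490, 2541), (38130, 1365), (43350, 2733), (29130, 4089), (30750, 2733), (36150, 4089)]

def bs (i : Fin 4) : Fin 6 := i.castLE (by norm_num)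

theorem P3 : ∀ (k : Fin 4) (j : Fin 6), (∀ i < k, j ≠ bs i) → ∃ d ∈ HD,
    fv d.1 (bs k) = j ∧ ∀ i < k, fv d.1 (bs i) = bs i := by decide +kernel

theorem P4 : ∀ d ∈ HD, Function.Injective (fv d.1) ∧ (∀ i, cv d.2 i ≠ 0) ∧ Pres (fv d.1) (cv d.2) := by
  decide +kernel

theorem exists_cv (c : Fin 6 → E) : ∃ n < 4096, cv n = c := by
  have h0 := (c 0).2
  have h1 := (c 1).2
  have h2 := (c 2).2
  have h3 := (c 3).2
  have h4 := (c 4).2
  have h5 := (c 5).2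
  refine ⟨c 0 + 4 * c 1 + 16 * c 2 + 64 * c 3 + 256 * c 4 + 1024 * c 5, by omega, funext fun i => Fin.ext ?_⟩
  fin_cases i <;> simp [cv] <;> omega

variable {F : Type*} [Field F] [Fintype F] [DecidableEq F]

def ph (ω : F) : E → F := ![0, 1, ω, ω ^ 2]

variable (hF : Fintype.card F = 4) {ω : F} (hω : ω ^ 2 + ω + 1 = 0)
include hF hω

theorem two0 : (2 : F) = 0 := by
  have := FiniteField.cast_card_eq_zero F
  rw [hF] at this
  exact pow_eq_zero_iff (two_ne_zero) |>.1 (by exact_mod_cast (by linear_combination this : (2 : F) ^ 2 = 0))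

theorem ph_ad (a b : E) : ph ω (ad a b) = ph ω a + ph ω b := by
  have := two0 hF hω
  fin_cases a <;> fin_cases b <;> simp [ph, ad_eq] <;> grind

theorem ph_mu (a b : E) : ph ω (mu a b) = ph ω a * ph ω b := by
  have := two0 hF hω
  fin_cases a <;> fin_cases b <;> simp [ph, mu_eq] <;> grind

theorem ph_bij : Function.Bijective (ph ω) := by
  have := two0 hF hω
  refine (Fintype.bijective_iff_injective_and_card _).2 ⟨fun a b => ?_, by simp [hF]⟩
  have h1 : ω ≠ 1 := fun e => one_ne_zero (α := F) (by rw [e] at hω; linear_combination hω - this)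
  have h0 : ω ≠ 0 := fun e => one_ne_zero (α := F) (by rw [e] at hω; linear_combination hω)
  fin_cases a <;> fin_cases b <;> simp [ph] <;> grind

theorem ph0 {a : E} : ph ω a = 0 ↔ a = 0 := (ph_bij hF hω).1.eq_iff' rfl

omit hF hω in
theorem hex_eq : hexacode F ω = Submodule.span F {ph ω ∘ gn 0, ph ω ∘ gn 1, ph ω ∘ gn 2} := by
  unfold hexacode
  congr 2
  · ext i; fin_cases i <;> rfl
  congr 1
  · ext i; fin_cases i <;> rfl
  · congr 1; ext i; fin_cases i <;> rfl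

theorem hex_mem {x : Fin 6 → F} : x ∈ hexacode F ω ↔ ∃ u, ph ω ∘ en u = x := by
  have k : ∀ u, ph ω ∘ en u = ph ω u.1 • ph ω ∘ gn 0 + ph ω u.2.1 • ph ω ∘ gn 1 + ph ω u.2.2 • ph ω ∘ gn 2 :=
    fun u => by ext i; simp [en, ph_ad hF hω, ph_mu hF hω]
  rw [hex_eq, Submodule.mem_span_triple]
  refine ⟨fun ⟨a, b, c, h⟩ => ?_, fun ⟨u, h⟩ => ⟨_, _, _, (k u).symm.trans h⟩⟩
  obtain ⟨a, rfl⟩ := (ph_bij hF hω).2 a
  obtain ⟨b, rfl⟩ := (ph_bij hF hω).2 b
  obtain ⟨c, rfl⟩ := (ph_bij hF hω).2 c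
  exact ⟨(a, b, c), (k _).trans h⟩

theorem hwt (u : E × E × E) : (Finset.univ.filter fun i => (ph ω ∘ en u) i ≠ 0) =
    Finset.univ.filter fun i => en u i ≠ 0 := by
  ext i; simp [ph0 hF hω]

theorem hncard (P : ℕ → Prop) [DecidablePred P] :
    {x | x ∈ hexacode F ω ∧ P (Finset.univ.filter fun i => x i ≠ 0).card}.ncard =
      (Finset.univ.filter fun u => P (Finset.univ.filter fun i => en u i ≠ 0).card).card := by
  rw [← Set.ncard_coe_finset, ← Set.ncard_image_of_injective _ (f := fun u => ph ω ∘ en u)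
    ((ph_bij hF hω).1.comp_left.comp en_inj)]
  congr 1
  ext x
  simp only [Set.mem_ofPred_eq, Set.mem_image, Finset.coe_filter, Finset.mem_univ, true_and, hex_mem hF hω]
  exact ⟨fun ⟨⟨u, h⟩, k⟩ => ⟨u, by rwa [← h, hwt hF hω] at k, h⟩,
    fun ⟨u, h, k⟩ => ⟨⟨u, k⟩, by rwa [← k, hwt hF hω]⟩⟩

theorem pres_of {σ : Perm (Fin 6)} {c : Fin 6 → Fˣ} (h : ∀ x ∈ hexacode F ω, monomialMap σ c x ∈ hexacode F ω) :
    ∃ n < 4096, cv n 0 ≠ 0 ∧ Pres σ.symm (cv n) ∧ ∀ i, ph ω (cv n i) = c i := by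
  choose c' hc using fun i => (ph_bij hF hω).2 (c i)
  obtain ⟨n, hn, rfl⟩ := exists_cv c'
  refine ⟨n, hn, fun k => (c 0).ne_zero (by rw [← hc, k]; rfl), fun j => ?_, hc⟩
  obtain ⟨v, hv⟩ := (hex_mem hF hω).1 (h (ph ω ∘ gn j) (by
    rw [hex_eq]; apply Submodule.subset_span; fin_cases j <;> simp))
  exact chk_iff.2 ⟨v, funext fun i => (ph_bij hF hω).1 (by rw [ph_mu hF hω, hc]; exact congrFun hv i)⟩

theorem hdiag (c : Fin 6 → Fˣ) (h : ∀ x ∈ hexacode F ω, monomialMap 1 c x ∈ hexacode F ω) (i j : Fin 6) :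
    c i = c j := by
  obtain ⟨n, hn, h0, h1, h2⟩ := pres_of hF hω h
  exact Units.ext (by rw [← h2, ← h2, P1 n hn h0 h1 i, P1 n hn h0 h1 j])

theorem hK : K (hexacode F ω) = alternatingGroup (Fin 6) := by
  have h1 : alternatingGroup (Fin 6) ≤ K (hexacode F ω) := by
    refine IsMultiplyPretransitive.alternatingGroup_le (Fin 6) _ ?_
    rw [show Nat.card (Fin 6) - 2 = 4 by simp, MulAction.isMultiplyPretransitive_iff]
    have k : ∀ x : Fin 4 ↪ Fin 6, ∃ g ∈ K (hexacode F ω), ∀ i, g (x i) = bs i := fun x =>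
      chain _ bs (fun k j hj => by
        obtain ⟨d, hd, h1, h2⟩ := P3 k j hj
        obtain ⟨h3, h4, h5⟩ := P4 d hd
        obtain ⟨g, hg, e⟩ := mem_K (hex_eq (ω := ω)).le h3
          (fun i => Units.mk0 (ph ω (cv d.2 i)) (mt (ph0 hF hω).1 (h4 i))) (fun x hx => by
            obtain ⟨j, rfl⟩ : ∃ j, ph ω ∘ gn j = x := by
              rcases hx with e | e | e <;> exact ⟨_, e.symm⟩
            obtain ⟨v, hv⟩ := chk_iff.1 (h5 j)
            exact (hex_mem hF hω).2 ⟨v, funext fun i => by simp [hv, ph_mu hF hω]⟩)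
        exact ⟨g, hg, fun i hi => by simpa only [h2 i hi] using e (bs i), h1 ▸ e _⟩) x.injective
    intro x y
    obtain ⟨g, hg, e⟩ := k x
    obtain ⟨g', hg', e'⟩ := k y
    exact ⟨⟨g'⁻¹ * g, mul_mem (inv_mem hg') hg⟩, Function.Embedding.ext fun i => by
      show g'⁻¹ (g (x i)) = y i
      rw [e, ← e']; simp⟩
  refine le_antisymm (fun σ hσ => ?_) h1
  by_contra hn
  have : swap 4 5 * σ⁻¹ ∈ alternatingGroup (Fin 6) := by
    rw [Perm.mem_alternatingGroup] at hn ⊢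
    rw [map_mul, map_inv, (Int.units_eq_one_or _).resolve_left hn, Perm.sign_swap (by decide)]; rfl
  obtain ⟨c, hc⟩ := mul_mem (h1 this) hσ
  rw [inv_mul_cancel_right] at hc
  obtain ⟨n, hn, h0, h1, -⟩ := pres_of hF hω hc
  exact P2 n hn h0 (by convert h1 using 1; decide)

theorem hwt' : ∀ x ∈ hexacode F ω, x ≠ 0 → (Finset.univ.filter fun i => x i ≠ 0).card = 4 ∨
    (Finset.univ.filter fun i => x i ≠ 0).card = 6 := fun x hx h0 => by
  obtain ⟨⟨a, b, c⟩, rfl⟩ := (hex_mem hF hω).1 hx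
  have : ∀ a b c, (∀ i, en (a, b, c) i = 0) ∨ (Finset.univ.filter fun i => en (a, b, c) i ≠ 0).card = 4 ∨
    (Finset.univ.filter fun i => en (a, b, c) i ≠ 0).card = 6 := by decide +kernel
  rw [hwt hF hω]
  exact (this a b c).resolve_left fun k => h0 (funext fun i => (ph0 hF hω).2 (k i))

end CfsgH1.Code
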