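import Cfsg.Agent.H2.Cls
import Cfsg.Agent.H2.Focal
import Cfsg.Agent.H2.CSize
import Cfsg.Agent.H4.Ord4
import Cfsg.Agent.H1.GAut
import Cfsg.Agent.FT.Cyc
import Cfsg.Agent.FT.S14a

/-! Counting conjugacy classes of `π`-elements. -/

set_option autoImplicit false
set_option linter.style.haveILetI false
set_option linter.unusedSectionVars false

namespace CfsgH1

open Subgroup Cfsg CfsgH2 CfsgFT

universe u
variable {G : Type u} [Group G] [Finite G] {p : ℕ}

/-- the number of classes of `π`-elements -/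
noncomputable def kp (π : Set ℕ) (G : Type u) [Group G] : ℕ :=
  Nat.card {c : ConjClasses G // ∀ x ∈ c.carrier, IsPiNum π (orderOf x)}

theorem carrier_iff {R : ℕ → Prop} {x : G} : (∀ y ∈ (ConjClasses.mk x).carrier, R (orderOf y)) ↔ R (orderOf x) := by
  refine ⟨fun h => h x ConjClasses.mem_carrier_mk, fun h y hy => ?_⟩
  obtain ⟨c, rfl⟩ := isConj_iff.1 (ConjClasses.mk_eq_mk_iff_isConj.1 (ConjClasses.mem_carrier_iff_mk_eq.1 hy))
  rwa [orderOf_conj'] at h

theorem piNum_single [hp : Fact p.Prime] {n : ℕ} (hn : n ≠ 0) : IsPiNum {p} n ↔ ∃ k, n = p ^ k :=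
  ⟨fun h => ⟨_, Nat.eq_prime_pow_of_unique_prime_dvd hn fun hq hd => h _ hq hd⟩, fun ⟨_, e⟩ _ hq hd =>
    (Nat.prime_dvd_prime_iff_eq hq hp.out).1 (hq.dvd_of_dvd_pow (e ▸ hd))⟩

theorem kp_single [Fact p.Prime] :
    Nat.card {c : ConjClasses G // ∀ x ∈ c.carrier, ∃ k, orderOf x = p ^ k} = kp {p} G := by
  simp only [kp, piNum_single (orderOf_pos _).ne']

theorem weight [DecidableEq (ConjClasses G)] (S : Finset G) (w : G → ℕ) {m : ℕ} {R : ConjClasses G → Prop}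
    (h : ∀ c, R c → m ≤ ∑ x ∈ S with ConjClasses.mk x = c, w x) : m * Nat.card {c // R c} ≤ ∑ x ∈ S, w x := by
  classical
  have := Fintype.ofFinite (ConjClasses G)
  rw [← Finset.sum_fiberwise (s := S) ConjClasses.mk, Nat.card_eq_fintype_card, Fintype.card_subtype, mul_comm,
    ← smul_eq_mul, ← Finset.sum_const]
  exact (Finset.sum_le_sum fun c hc => h c (Finset.mem_filter.1 hc).2).trans
    (Finset.sum_le_sum_of_subset (Finset.filter_subset _ _))

theorem exists_mem_syl [Fact p.Prime] {P : Subgroup G} (hP : IsSylowIn p P ⊤) {c : ConjClasses G}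
    (hc : ∀ x ∈ c.carrier, IsPiNum {p} (orderOf x)) : ∃ x ∈ P, ConjClasses.mk x = c := by
  obtain ⟨y, rfl⟩ := ConjClasses.mk_surjective c
  obtain ⟨k, hk⟩ := (piNum_single (orderOf_pos _).ne').1 (carrier_iff.1 hc)
  obtain ⟨g, -, l⟩ := hP.exists_cj_le (isPGroup_zpowers_of_orderOf hk) le_top
  exact ⟨_, l (conj_mem_cj g (mem_zpowers y)), ConjClasses.mk_eq_mk_iff_isConj.2 (isConj_iff.2 ⟨g, rfl⟩).symm⟩

theorem card_filter_mem [Fintype G] (H : Subgroup G) [DecidablePred (· ∈ H)] :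
    (Finset.univ.filter (· ∈ H)).card = Nat.card H := by
  rw [Nat.card_eq_fintype_card, Fintype.card_subtype]

/-- three-level count -/
theorem count3 [Fact p.Prime] {P Q A : Subgroup G} (hP : IsSylowIn p P ⊤) (hQ : Q ≤ P) (hA : A ≤ Q) {b : ℕ}
    (h1 : ∀ x ∈ P, x ∉ Q → ∃ y ∈ P, IsConj x y ∧ x ≠ y)
    (h2 : ∀ x ∈ Q, x ∉ A → ∃ T : Finset G, b ≤ T.card ∧ ∀ y ∈ T, y ∈ Q ∧ y ∉ A ∧ IsConj x y) :
    2 * b * kp {p} G + b * Nat.card Q + 2 * Nat.card A ≤ 2 * b * Nat.card A + 2 * Nat.card Q + b * Nat.card P := by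
  classical
  have := Fintype.ofFinite G
  let w : G → ℕ := fun x => if x ∈ A then 2 * b else if x ∈ Q then 2 else b
  have k := weight (Finset.univ.filter (· ∈ P)) w (m := 2 * b)
    (R := fun c => ∀ x ∈ c.carrier, IsPiNum {p} (orderOf x)) fun c hc => by
    have key : ∀ T : Finset G, (∀ y ∈ T, y ∈ P ∧ ConjClasses.mk y = c) →
        ∑ x ∈ T, w x ≤ ∑ x ∈ Finset.univ.filter (· ∈ P) with ConjClasses.mk x = c, w x := fun T hT =>
      Finset.sum_le_sum_of_subset fun y hy => by simpa using hT y hy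
    by_cases e : ∃ x ∈ Q, ConjClasses.mk x = c
    · obtain ⟨x, hx, e⟩ := e
      by_cases m : x ∈ A
      · simpa [w, m] using key {x} (by simpa using ⟨hQ hx, e⟩)
      · obtain ⟨T, h3, h4⟩ := h2 x hx m
        refine le_trans ?_ (key T fun y hy => ⟨hQ (h4 y hy).1, (ConjClasses.mk_eq_mk_iff_isConj.2 (h4 y hy).2.2).symm.trans e⟩)
        rw [Finset.sum_congr rfl (g := fun _ => 2) fun y hy => by simp [w, (h4 y hy).1, (h4 y hy).2.1]]
        simp; omega
    · obtain ⟨x, hx, e'⟩ := exists_mem_syl hP hc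
      have n : x ∉ Q := fun k => e ⟨x, k, e'⟩
      obtain ⟨y, hy, c1, c2⟩ := h1 x hx n
      have e2 := (ConjClasses.mk_eq_mk_iff_isConj.2 c1).symm.trans e'
      have n2 : y ∉ Q := fun k => e ⟨y, k, e2⟩
      have := key {x, y} (by simp [hx, hy, e', e2])
      rw [Finset.sum_pair c2] at this
      have w1 : w x = b := by simp only [w, if_neg n, if_neg fun k => n (hA k)]
      have w2 : w y = b := by simp only [w, if_neg n2, if_neg fun k => n2 (hA k)]
      omega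
  have s : ∑ x ∈ Finset.univ.filter (· ∈ P), (w x + ((if x ∈ Q then b else 0) + if x ∈ A then 2 else 0)) =
      ∑ x ∈ Finset.univ.filter (· ∈ P), ((if x ∈ A then 2 * b else 0) + (if x ∈ Q then 2 else 0) + b) :=
    Finset.sum_congr rfl fun x _ => by
      by_cases m : x ∈ A
      · simp [w, m, hA m]; omega
      · by_cases m' : x ∈ Q <;> simp [w, m, m']
  have f : ∀ (B : Subgroup G) (n : ℕ), B ≤ P → ∑ x ∈ Finset.univ.filter (· ∈ P), (if x ∈ B then n else 0) =
      n * Nat.card B := fun B n hB => by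
    rw [← Finset.sum_filter, Finset.filter_filter, Finset.filter_congr (q := (· ∈ B)) fun x _ => ⟨fun k => k.2,
      fun k => ⟨hB k, k⟩⟩, Finset.sum_const, card_filter_mem, smul_eq_mul, mul_comm]
  simp only [Finset.sum_add_distrib, f _ _ hQ, f _ _ (hA.trans hQ), Finset.sum_const, card_filter_mem, smul_eq_mul] at s
  change 2 * b * kp {p} G ≤ _ at k
  rw [mul_comm (Nat.card P)] at s
  omega

theorem count2 [hp : Fact p.Prime] {P A : Subgroup G} (hP : IsSylowIn p P ⊤) (hA : A < P)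
    (h : ∀ x ∈ P, x ∉ A → ∃ y ∈ P, y ∉ A ∧ IsConj x y ∧ x ≠ y) : 2 * p * kp {p} G ≤ (p + 1) * Nat.card P := by
  classical
  have k := count3 (b := 2) hP le_rfl hA.le (fun x hx n => (n hx).elim) fun x hx n => by
    obtain ⟨y, h1, h2, h3, h4⟩ := h x hx n
    exact ⟨{x, y}, by rw [Finset.card_pair h4], fun z hz => by
      rcases Finset.mem_insert.1 hz with rfl | hz
      · exact ⟨hx, n, IsConj.refl _⟩
      · exact Finset.mem_singleton.1 hz ▸ ⟨h1, h2, h3⟩⟩
  have c := CfsgH2.card_mul_relIndex hA.le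
  obtain ⟨n, hn⟩ := hP.pgroup.exists_card_eq
  obtain ⟨i, -, e⟩ := (Nat.dvd_prime_pow hp.out).1 (hn ▸ c ▸ dvd_mul_left _ _ : A.relIndex P ∣ p ^ n)
  have : p ≤ A.relIndex P := by
    rcases i with _ | i
    · exact absurd (relIndex_eq_one.1 e) hA.not_ge
    · exact e ▸ Nat.le_of_dvd (pow_pos hp.out.pos _) (dvd_pow_self p i.succ_ne_zero)
  have : Nat.card A * p ≤ Nat.card P := c ▸ Nat.mul_le_mul_left _ this
  nlinarith

theorem three_conj {g x : G} (hg : Odd (orderOf g)) (hx : x ∉ C1(g)) :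
    ({x, g * x * g⁻¹, g ^ 2 * x * (g ^ 2)⁻¹} : Set G).ncard = 3 := by
  have n1 : x ≠ g * x * g⁻¹ := fun e => hx (mem_cent1.2 (eq_mul_inv_iff_mul_eq.1 e).symm)
  refine Set.ncard_eq_three.2 ⟨_, _, _, n1, fun e => hx (mem_cent1_symm ?_), fun e => n1 ?_, rfl⟩
  · exact CfsgH1.mem_of_pow_mem_of_coprime (Nat.coprime_two_left.2 hg) (mem_cent1.2 (eq_mul_inv_iff_mul_eq.1 e))
      (by rw [pow_orderOf_eq_one]; exact one_mem _)
  · have := congrArg (fun y => g⁻¹ * y * g) e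
    simpa [sq, mul_assoc] using this

theorem count_odd [Fact p.Prime] {P Q : Subgroup G} (hP : IsSylowIn p P ⊤) (hQ : Q ≤ P) (hZ : P ⊓ C(P) ≤ Q) {g : G}
    (hg : g ∈ N(Q)) (ho : Odd (orderOf g)) (h4 : 4 * Nat.card ↥(Q ⊓ C1(g)) ≤ Nat.card Q) :
    2 * kp {p} G ≤ Nat.card P := by
  have k := count3 (b := 3) hP hQ (A := Q ⊓ C1(g)) inf_le_left (fun x hx n => by
    obtain ⟨y, hy, e⟩ : ∃ y ∈ P, ¬ y * x = x * y := by
      by_contra! c
      exact n (hZ ⟨hx, c⟩)
    exact ⟨y * x * y⁻¹, mul_mem (mul_mem hy hx) (inv_mem hy), isConj_iff.2 ⟨y, rfl⟩,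
      fun c => e (eq_mul_inv_iff_mul_eq.1 c).symm⟩) fun x hx n => by
    have n' : x ∉ C1(g) := fun k => n ⟨hx, k⟩
    refine ⟨(Set.toFinite {x, g * x * g⁻¹, g ^ 2 * x * (g ^ 2)⁻¹}).toFinset,
      by rw [← Set.ncard_eq_toFinset_card, three_conj ho n'], fun y hy => ?_⟩
    obtain ⟨i, rfl⟩ : ∃ i : ℕ, y = g ^ i * x * (g ^ i)⁻¹ := by
      rcases (Set.Finite.mem_toFinset _).1 hy with rfl | rfl | rfl
      exacts [⟨0, by simp⟩, ⟨1, by simp⟩, ⟨2, rfl⟩]
    refine ⟨conj_mem_of_mem_normalizer (pow_mem hg i) hx, fun k => n' ?_, isConj_iff.2 ⟨_, rfl⟩⟩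
    have m := pow_mem (self_mem_cent1 g) i
    exact (mul_mem_cancel_left m).1 ((mul_mem_cancel_right (inv_mem m)).1 k.2)
  omega

theorem four_le [hp : Fact p.Prime] {Q : Subgroup G} (hQ : IsPGroup p Q) {g : G} (hg : g ∈ N(Q)) (ho : Odd (orderOf g))
    (hc : (orderOf g).Coprime p) (hn : g ∉ C(Q)) : 4 * Nat.card ↥(Q ⊓ C1(g)) ≤ Nat.card Q := by
  classical
  rw [← CfsgH2.card_mul_relIndex (inf_le_left : Q ⊓ C1(g) ≤ Q), mul_comm]
  refine Nat.mul_le_mul_left _ (not_lt.1 fun l => hn fun x hx => by_contra fun n => ?_)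
  let f : Fin 4 → Q := ![1, ⟨x, hx⟩, ⟨_, conj_mem_of_mem_normalizer hg hx⟩,
    ⟨_, conj_mem_of_mem_normalizer (pow_mem hg 2) hx⟩]
  have := Fintype.ofFinite (Q ⧸ (Q ⊓ C1(g)).subgroupOf Q)
  obtain ⟨i, j, ij, e⟩ := Fintype.exists_ne_map_eq_of_card_lt
    (fun i => (f i : Q ⧸ (Q ⊓ C1(g)).subgroupOf Q)) (by rw [← Nat.card_eq_fintype_card, Fintype.card_fin]; exact l)
  have d : ∀ y z : G, y⁻¹ * z ∈ C1(g) → g * y * g⁻¹ * y⁻¹ = g * z * g⁻¹ * z⁻¹ := fun y z k => by
    have := mem_cent1.1 k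
    calc g * y * g⁻¹ * y⁻¹ = g * y * g⁻¹ * (y⁻¹ * z * g) * g⁻¹ * z⁻¹ := by group
      _ = _ := by rw [← this]; group
  have e' := d _ _ (QuotientGroup.eq.1 e).2
  have n1 : g * x * g⁻¹ * x⁻¹ ≠ 1 := fun k => n (by rw [mul_inv_eq_one, mul_inv_eq_iff_eq_mul] at k; exact k.symm)
  have fx : g * x * g⁻¹ * x⁻¹ ∈ C1(g) := by
    by_contra c
    have t := three_conj ho c
    generalize hd : g * x * g⁻¹ * x⁻¹ = D at *
    have v : ∀ i, g * (f i : G) * g⁻¹ * (f i : G)⁻¹ = ![1, D, g * D * g⁻¹, g ^ 2 * D * (g ^ 2)⁻¹] i := fun i => by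
      fin_cases i <;> simp [f, ← hd, sq, mul_assoc]
    rw [v, v] at e'
    have a1 : D ≠ g * D * g⁻¹ := fun k => by rw [← k] at t; simp [Set.ncard_insert_eq_ite] at t; split_ifs at t <;> omega
    have a2 : D ≠ g ^ 2 * D * (g ^ 2)⁻¹ := fun k => by
      rw [← k] at t; simp [Set.ncard_insert_eq_ite] at t; split_ifs at t <;> omega
    have a3 : g * D * g⁻¹ ≠ g ^ 2 * D * (g ^ 2)⁻¹ := fun k => by
      rw [← k] at t; simp [Set.ncard_insert_eq_ite] at t; split_ifs at t <;> omega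
    have b1 : g * D * g⁻¹ ≠ 1 := fun k => n1 (conj_eq_one_iff.1 k)
    have b2 : g ^ 2 * D * (g ^ 2)⁻¹ ≠ 1 := fun k => n1 (conj_eq_one_iff.1 k)
    fin_cases i <;> fin_cases j
    exacts [ij rfl, n1 e'.symm, b1 e'.symm, b2 e'.symm, n1 e', ij rfl, a1 e', a2 e', b1 e', a1 e'.symm, ij rfl, a3 e',
      b2 e', a2 e'.symm, a3 e'.symm, ij rfl]
  have pw : ∀ n : ℕ, g ^ n * x * (g ^ n)⁻¹ = (g * x * g⁻¹ * x⁻¹) ^ n * x := fun n => by
    induction n with
    | zero => simp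
    | succ n ih =>
      have := mem_cent1.1 (pow_mem fx n)
      calc _ = g * (g ^ n * x * (g ^ n)⁻¹) * g⁻¹ := by rw [pow_succ']; group
        _ = _ := by rw [ih, ← mul_assoc, this, pow_succ]; group
  have := pw (orderOf g)
  rw [pow_orderOf_eq_one, one_mul, inv_one, mul_one, right_eq_mul] at this
  exact n1 (eq_one_of_mem_pgroup_of_coprime hQ (mul_mem (conj_mem_of_mem_normalizer hg hx) (inv_mem hx))
    (hc.coprime_dvd_left (orderOf_dvd_of_pow_eq_one this)))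

theorem kp_le_hall {π : Set ℕ} {H : Subgroup G} (h : ∀ x : G, IsPiNum π (orderOf x) → ∃ y ∈ H, IsConj y x) :
    kp π G ≤ Nat.card (ConjClasses H) := by
  choose f h1 h2 using h
  have m : ∀ c : {c : ConjClasses G // ∀ x ∈ c.carrier, IsPiNum π (orderOf x)}, IsPiNum π (orderOf c.1.out) :=
    fun c => c.2 _ (ConjClasses.mem_carrier_iff_mk_eq.2 c.1.out_eq)
  refine Nat.card_le_card_of_injective (fun c => ConjClasses.mk (⟨_, h1 _ (m c)⟩ : H)) fun c d e => ?_
  have := (H.subtype).map_isConj (ConjClasses.mk_eq_mk_iff_isConj.1 e)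
  exact Subtype.ext (c.1.out_eq.symm.trans ((ConjClasses.mk_eq_mk_iff_isConj.2 (((h2 _ (m c)).symm.trans
    this).trans (h2 _ (m d)))).trans d.1.out_eq))

theorem kp_le_syl [Fact p.Prime] {P : Subgroup G} (hP : IsSylowIn p P ⊤) : kp {p} G ≤ Nat.card (ConjClasses P) :=
  kp_le_hall fun x hx => by
    obtain ⟨y, hy, e⟩ := exists_mem_syl hP (c := ConjClasses.mk x) (carrier_iff.2 hx)
    exact ⟨y, hy, ConjClasses.mk_eq_mk_iff_isConj.1 e⟩

theorem card_cc_le : Nat.card (ConjClasses G) ≤ Nat.card G := Nat.card_le_card_of_surjective _ ConjClasses.mk_surjective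

theorem le_kp_of_npc [Fact p.Prime] {P : Subgroup G} (hP : IsSylowIn p P ⊤) (h : HasNormalPComplement p G) :
    Nat.card (ConjClasses P) ≤ kp {p} G := by
  refine Nat.card_le_card_of_injective (fun c => ⟨ConjClasses.mk c.out.1, carrier_iff.2
    ((isPi_singleton_iff.2 hP.pgroup).orderOf c.out.2)⟩) fun c d e => ?_
  obtain ⟨g, e⟩ := isConj_iff.1 (ConjClasses.mk_eq_mk_iff_isConj.1 (congrArg Subtype.val e))
  obtain ⟨v, hv, k⟩ := controls_of_hasNPC hP (hasNPC_top_iff.2 h) (mem_top g)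
  exact c.out_eq.symm.trans ((ConjClasses.mk_eq_mk_iff_isConj.2 (isConj_iff.2 ⟨⟨v, hv⟩, Subtype.ext
    ((k _ c.out.2 (e ▸ d.out.2)).trans e)⟩)).trans d.out_eq)

theorem kp_union {μ ν π : Set ℕ} (hπ : π ⊆ μ ∪ ν) {B : ℕ} (h : ∀ x : G, kp ν C1(x) ≤ B) : kp π G ≤ kp μ G * B := by
  classical
  let D := {c : ConjClasses G // ∀ x ∈ c.carrier, IsPiNum μ (orderOf x)}
  let E : D → Type u := fun d => {c : ConjClasses C1(d.1.out) // ∀ x ∈ c.carrier, IsPiNum ν (orderOf x)}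
  have := Fintype.ofFinite D
  have k : ∀ c : {c : ConjClasses G // ∀ x ∈ c.carrier, IsPiNum π (orderOf x)}, ∃ s : Σ d, E d,
      ConjClasses.mk (s.1.1.out * (s.2.1.out : G)) = c.1 := by
    rintro ⟨c, hc⟩
    obtain ⟨x, rfl⟩ := ConjClasses.mk_surjective c
    obtain ⟨a, ha, b, hb, e, h1, h2⟩ := exists_pi_part μ x
    let d : D := ⟨ConjClasses.mk a, carrier_iff.2 h1⟩
    obtain ⟨g, hg⟩ := isConj_iff.1 (ConjClasses.mk_eq_mk_iff_isConj.1 d.1.out_eq).symm
    have m : g * b * g⁻¹ ∈ C1(d.1.out) := by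
      rw [← hg, ← cj_centralizer_singleton, conj_mem_cj_iff]
      exact mem_cent1.2 (setLike_mul_comm ha hb)
    let t : E d := ⟨ConjClasses.mk ⟨_, m⟩, carrier_iff.2 fun r hr hd => by
      rw [← Subgroup.orderOf_coe, orderOf_conj'] at hd
      exact (hπ (carrier_iff.1 hc r hr (hd.trans (orderOf_dvd_of_mem_zpowers hb)))).resolve_left (h2 r hr hd)⟩
    obtain ⟨y, hy⟩ := isConj_iff.1 (ConjClasses.mk_eq_mk_iff_isConj.1 t.1.out_eq).symm
    refine ⟨⟨d, t⟩, ConjClasses.mk_eq_mk_iff_isConj.2 (isConj_iff.2 ⟨(y * g)⁻¹, ?_⟩)⟩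
    have := mem_cent1.1 y.2
    change _ * (d.1.out * (t.1.out : G)) * _ = x
    rw [← hy, ← e]
    simp only [coe_mul, coe_inv]
    generalize (y : G) = z at this ⊢
    rw [← hg] at this ⊢
    calc _ = g⁻¹ * z⁻¹ * (g * a * g⁻¹ * z) * g * b := by group
      _ = _ := by rw [this]; group
  choose f hf using k
  refine (Nat.card_le_card_of_injective f fun c c' e => Subtype.ext (by rw [← hf, ← hf, e])).trans ?_
  rw [Nat.card_sigma, kp, Nat.card_eq_fintype_card (α := D), ← Finset.card_univ, ← smul_eq_mul, ← Finset.sum_const]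
  exact Finset.sum_le_sum fun d _ => h _

theorem kp_le_prod (ν : Finset ℕ) (hν : ∀ r ∈ ν, r.Prime) : ∀ (G : Type u) [Group G] [Finite G],
    kp ν G ≤ ∏ r ∈ ν, r ^ (Nat.card G).factorization r := by
  induction ν using Finset.induction_on with
  | empty =>
    intro G _ _
    refine (kp_le_hall (H := ⊥) fun x hx => ⟨1, one_mem _, ?_⟩).trans (card_cc_le.trans (by simp))
    rw [(orderOf_eq_one_iff (x := x)).1 (Nat.eq_one_iff_not_exists_prime_dvd.2 fun r hr hd => by simpa using hx r hr hd)]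
  | insert r ν n ih =>
    intro G _ _
    have : Fact r.Prime := ⟨hν r (Finset.mem_insert_self _ _)⟩
    obtain ⟨P, hP⟩ := IsSylowIn.exists_sylowIn (p := r) (⊤ : Subgroup G)
    rw [Finset.prod_insert n, ← card_top (G := G), ← hP.card_eq, card_top]
    refine (kp_union (μ := {r}) (ν := ν) (by simp) fun x => (ih (fun s hs => hν s (Finset.mem_insert_of_mem hs)) _).trans
      (Finset.prod_le_prod' fun s hs => Nat.pow_le_pow_right (hν s (Finset.mem_insert_of_mem hs)).pos ?_)).trans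
      (Nat.mul_le_mul_right _ ((kp_le_syl hP).trans card_cc_le))
    exact (Nat.factorization_le_iff_dvd Nat.card_pos.ne' Nat.card_pos.ne').2 (card_subgroup_dvd_card _) s

/-- `d_π(G) ≤ d_p(G)` -/
theorem kp_down {π : Finset ℕ} (hπ : ∀ r ∈ π, r.Prime) [Fact p.Prime] (hp : p ∈ π) {a b : ℕ}
    (h : a * ∏ r ∈ π, r ^ (Nat.card G).factorization r < b * kp π G) {P : Subgroup G} (hP : IsSylowIn p P ⊤) :
    a * Nat.card P < b * kp {p} G := by
  have k := kp_union (G := G) (π := π) (μ := {p}) (ν := π.erase p) (fun r hr => by by_cases e : r = p <;> simp_all)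
    (B := ∏ r ∈ π.erase p, r ^ (Nat.card G).factorization r) fun x =>
    (kp_le_prod _ (fun s hs => hπ s (Finset.mem_of_mem_erase hs)) _).trans (Finset.prod_le_prod' fun s hs =>
      Nat.pow_le_pow_right (hπ s (Finset.mem_of_mem_erase hs)).pos
        ((Nat.factorization_le_iff_dvd Nat.card_pos.ne' Nat.card_pos.ne').2 (card_subgroup_dvd_card _) s))
  rw [← Finset.mul_prod_erase _ _ hp, ← card_top (G := G), ← hP.card_eq, card_top, ← mul_assoc] at h
  exact Nat.lt_of_mul_lt_mul_right (h.trans_le (by rw [mul_assoc]; exact Nat.mul_le_mul_left _ k))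

theorem npc_two {P : Subgroup G} (hP : IsSylowIn 2 P ⊤) (h : Nat.card P < 2 * kp {2} G) : HasNormalPComplement 2 G :=
  hasNPC_top_iff.1 (frobenius_hasNPC hP fun Q hQ _ hZ g _ hg hc => by_contra fun n => by
    have ho := Nat.coprime_two_right.1 hc
    exact h.not_ge (count_odd hP hQ (le_trans (inf_le_inf_left _ (cent_anti hQ)) hZ) hg ho
      (four_le (hP.pgroup.to_le hQ) hg ho hc n)))

theorem npc_odd [Fact p.Prime] {P : Subgroup G} (hP : IsSylowIn p P ⊤) (h : (p + 1) * Nat.card P < 2 * p * kp {p} G) :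
    HasNormalPComplement p G ∧ P ≤ C(P) := by
  have key : N(P) ≤ C(P) := fun g hg => by_contra fun n => h.not_ge (count2 hP (A := P ⊓ C1(g))
    (lt_of_le_of_ne inf_le_left fun e => n (le_cent1_iff.1 (inf_eq_left.1 e))) fun x hx m => ⟨g * x * g⁻¹,
      conj_mem_of_mem_normalizer hg hx, fun k => m ⟨hx, (mul_mem_cancel_left (self_mem_cent1 g)).1
        ((mul_mem_cancel_right (inv_mem (self_mem_cent1 g))).1 k.2)⟩, isConj_iff.2 ⟨g, rfl⟩,
      fun e => m ⟨hx, mem_cent1.2 (eq_mul_inv_iff_mul_eq.1 e).symm⟩⟩)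
  exact ⟨hasNPC_top_iff.1 (burnside_hasNPC hP (inf_le_right.trans key)), le_normalizer.trans key⟩

theorem card_cc_of_comm (h : ∀ a b : G, a * b = b * a) : Nat.card (ConjClasses G) = Nat.card G :=
  (Nat.card_eq_of_bijective _ ⟨fun a b e => by
    obtain ⟨c, rfl⟩ := isConj_iff.1 (ConjClasses.mk_eq_mk_iff_isConj.1 e)
    rw [h c a, mul_inv_cancel_right], ConjClasses.mk_surjective⟩).symm

theorem card_der_le (h : Nat.card G < 2 * Nat.card (ConjClasses G)) : Nat.card (_root_.commutator G) ≤ 2 := by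
  classical
  have s := CfsgH4.sum_charDegree_sq (G := G)
  have l := CfsgH4.card_lin_irr (G := G)
  have c := (_root_.commutator G).card_mul_index
  rw [← CfsgH3.card_irr_eq_card_conjClasses, Nat.card_eq_fintype_card (α := IrrCharacter G)] at h
  rw [Nat.card_eq_fintype_card, Fintype.card_subtype] at l
  have : ∑ χ : IrrCharacter G, 4 ≤ ∑ χ : IrrCharacter G, (charDegree χ.1 ^ 2 + if χ.1 1 = 1 then 3 else 0) :=
    Finset.sum_le_sum fun χ _ => by
      obtain ⟨n, hn, e⟩ := CfsgH3.Cfsg.IsIrrCharacter.exists_deg χ.2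
      have : charDegree χ.1 = n := by simp [charDegree, e]
      rw [this, e]
      split_ifs with k
      · rw [show n = 1 by exact_mod_cast k]; norm_num
      · have : n ≠ 1 := fun k' => k (by simp [k'])
        have : 2 ≤ n := by omega
        nlinarith
  rw [Finset.sum_add_distrib, s, ← Finset.sum_filter, Finset.sum_const, Finset.sum_const, l, Finset.card_univ] at this
  by_contra n
  have : 3 * (_root_.commutator G).index ≤ Nat.card G := c ▸ Nat.mul_le_mul_right _ (by omega)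
  simp only [smul_eq_mul] at *
  omega

theorem pi_compl {π : Finset ℕ} (h : ∀ (r : ℕ) [Fact r.Prime], r ∈ π → HasNormalPComplement r G) :
    Hall (π : Set ℕ)ᶜ (Opi (π : Set ℕ)ᶜ (⊤ : Subgroup G)) ⊤ :=
  hall_Opi_of_forall_npc fun r _ hr => hasNPC_top_iff.2 (h r (by simpa using hr))

theorem pi_compl' {π : Finset ℕ} (h : ∀ (r : ℕ) [Fact r.Prime], r ∈ π → HasNormalPComplement r G) :
    ∃ N : Subgroup G, N.Normal ∧ (∀ r : ℕ, r.Prime → r ∣ Nat.card N → r ∉ π) ∧
      ∀ r : ℕ, r.Prime → r ∣ N.index → r ∈ π :=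
  ⟨_, normal_of_top_le (le_normalizer_Opi _ _), (pi_compl h).isPi, fun r hr hd => by
    simpa using (pi_compl h).idx r hr (by rwa [relIndex_top_right])⟩

end CfsgH1
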