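import Cfsg.Agent.H1.FC6
import Cfsg.Agent.H3.Hup
import Cfsg.Agent.H9.HH3
import Cfsg.Agent.H8.Perm2

/-! Odd order groups transitive up to sign on an elementary abelian group. -/

set_option autoImplicit false
set_option linter.style.haveILetI false
set_option linter.unusedSectionVars false

namespace CfsgH1
open Subgroup Cfsg CfsgFT CfsgH2 CfsgSuz CfsgPm

variable {G : Type*} [Group G] [Finite G]

theorem huppert_pm {E D : Subgroup G} {q : ℕ} (hq : q.Prime) (hE : IsElementaryAbelian q E) (hb : E ≠ ⊥)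
    (ho : Odd (Nat.card D)) (hn : D ≤ N(E)) (hf : D ⊓ C(E) = ⊥)
    (ht : ∀ a ∈ E, a ≠ 1 → ∀ b ∈ E, b ≠ 1 → ∃ d ∈ D, d * a * d⁻¹ = b ∨ d * a * d⁻¹ = b⁻¹) : IsCyclic (fittingOf D) := by
  refine cyclic_of_fpf_nil hb ((fit_le D).trans hn) (fit_nilpotent D)
    (Odd.of_dvd_nat ho (card_dvd_of_le (fit_le D))) fun g hg g1 => ?_
  obtain ⟨n, hp⟩ := exists_prime_pow g1
  haveI := Fact.mk hp
  set p := orderOf (g ^ n) with hpdef
  have hgn : g ^ n ∈ Opi {p} D := le_Opi_of_le_fit (zpowers_le.2 (pow_mem hg n))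
    (isPi_singleton_iff.2 (isPGroup_zpowers_of_orderOf (k := 1) (by simp [hpdef]))) (mem_zpowers _)
  have := huppert_p (P := Opi {p} D) (p := p) (fun e => by
      have := odd_orderOf_of_mem ho (fit_le D (pow_mem hg n))
      rw [← hpdef, e] at this
      exact absurd this (by decide)) hq hE (isPi_singleton_iff.1 (isPi_Opi _ _)) ((Opi_le _ _).trans hn)
    (eq_bot_iff.2 ((inf_le_inf_right _ (Opi_le _ _)).trans hf.le)) (by
      intro a ha a1 b hb b1
      obtain ⟨d, hd, e⟩ := ht a ha a1 b hb b1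
      have : C1(b) = C1(d * a * d⁻¹) := e.elim (· ▸ rfl) fun e => by
        rw [e]; ext x; simp only [mem_C1]; exact (Commute.inv_right_iff).symm
      rw [this, ← cj_centralizer_singleton, ← card_cj d, cj_inf,
        cj_eq_of_norm (le_normalizer_Opi _ _ hd)]) _ hgn (fun e => hp.one_lt.ne' (by simp [hpdef, e]))
  refine eq_bot_iff.2 (le_trans (inf_le_inf_left _ fun c hc => ?_) this.le)
  exact mem_cent1.2 ((show Commute g c from mem_cent1.1 hc).pow_left n)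

theorem semi_pm {p : ℕ} [hp : Fact p.Prime] {V : Type*} [AddCommGroup V] [Module (ZMod p) V] [Finite V] [Nontrivial V]
    (ρ : Representation (ZMod p) G V) {D F : Subgroup G} (hn : D ≤ N(F)) (hl : F ≤ D) (hc : F ≤ C(F)) (hC : D ⊓ C(F) ≤ F)
    (hf : ∀ d ∈ D, ρ d = 1 → d = 1) (ht : ∀ v w : V, v ≠ 0 → w ≠ 0 → ∃ d ∈ D, ρ d v = w ∨ ρ d v = -w) :
    ∃ k, k ≠ 0 ∧ Nat.card V = p ^ k ∧ ∃ e : V ≃+ GaloisField p k, ∀ d ∈ D,
      ∃ (a : (GaloisField p k)ˣ) (σ : GaloisField p k ≃+* GaloisField p k), ∀ v, e (ρ d v) = a * σ (e v) := by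
  let τ := (LinearMap.GeneralLinearGroup.generalLinearEquiv (ZMod p) V).toMonoidHom.comp ρ.asGroupHom
  let θ := τ.noncommCoprod (DistribMulAction.toModuleAut (ZMod p) V : ℤˣ →* _) fun g e => LinearEquiv.ext fun v =>
    map_zsmul (ρ g) e.1 v
  have th : ∀ g e v, θ (g, e) v = e • ρ g v := fun g e v => map_zsmul (ρ g) e.1 v
  let H := (D.prod ⊤).map θ
  let A := ((F.prod ⊤).map θ).subgroupOf H
  have h1 : ∀ v w : V, v ≠ 0 → w ≠ 0 → ∃ h : H, h.1 v = w := fun v w a b => by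
    obtain ⟨d, hd, e | e⟩ := ht v w a b
    · exact ⟨⟨_, (d, 1), ⟨hd, trivial⟩, rfl⟩, by simp [th, e]⟩
    · exact ⟨⟨_, (d, -1), ⟨hd, trivial⟩, rfl⟩, by simp [th, e]⟩
  haveI : A.Normal := CfsgFT.normal_subgroupOf ((map_mono (show D.prod ⊤ ≤ N(F.prod (⊤ : Subgroup ℤˣ)) from fun x hx =>
    mem_normalizer_of_conj_mem fun y hy => mem_prod.2 ⟨CfsgH1.conj_mem_of_mem_normalizer (hn hx.1) hy.1, trivial⟩)).trans (le_normalizer_map θ))
  haveI : IsMulCommutative A := ⟨⟨fun a b => Subtype.ext (Subtype.ext (by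
    obtain ⟨x, hx, e⟩ := a.2
    obtain ⟨y, hy, e'⟩ := b.2
    change a.1.1 * b.1.1 = b.1.1 * a.1.1
    rw [← show θ x = a.1.1 from e, ← show θ y = b.1.1 from e', ← map_mul, ← map_mul]
    exact congrArg θ (Prod.ext (hc hy.1 _ hx.1) (mul_comm _ _))))⟩⟩
  have h2 : C(A) ≤ A := by
    rintro ⟨_, ⟨d, e⟩, hd, rfl⟩ hx
    refine ⟨(d, e), ⟨hC ⟨hd.1, fun x hx' => ?_⟩, trivial⟩, rfl⟩
    have := congrArg Subtype.val (hx ⟨_, (x, 1), ⟨hl hx', trivial⟩, rfl⟩ ⟨(x, 1), ⟨hx', trivial⟩, rfl⟩)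
    change θ _ * θ _ = θ _ * θ _ at this
    rw [← map_mul, ← map_mul, ← mul_inv_eq_one, ← map_inv, ← map_mul] at this
    refine mul_inv_eq_one.1 (hf _ (mul_mem (mul_mem (hl hx') hd.1) (inv_mem (mul_mem hd.1 (hl hx')))) (LinearMap.ext fun v => ?_))
    simpa using (th _ _ v).symm.trans (LinearEquiv.congr_fun this v)
  obtain ⟨k, d, t, k0, d0, e1, e2, e3, e4, -⟩ := lin_num h1 A
  obtain ⟨v, hv⟩ := exists_ne (0 : V)
  have c : Nat.card V ≤ Nat.card H + 1 := by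
    rw [← Finite.card_option]
    refine Nat.card_le_card_of_surjective (fun o : Option H => o.elim 0 fun h => h.1 v) fun w => ?_
    rcases eq_or_ne w 0 with rfl | n
    · exact ⟨none, rfl⟩
    · exact (h1 v w hv n).elim fun h e => ⟨some h, e⟩
  rw [← C(A).card_mul_index, le_antisymm h2 (le_centralizer A)] at c
  rw [le_antisymm h2 (le_centralizer A)] at e3
  have q : k < p ^ k := Nat.lt_pow_self hp.out.one_lt
  obtain rfl : d = 1 := by
    by_contra n
    have := Nat.pow_le_pow_right (show 0 < p ^ k by omega) (show 2 ≤ d by omega)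
    have := Nat.le_of_dvd k0 e3
    have : Nat.card A ≤ Nat.card A * t := Nat.le_mul_of_pos_right _ (Nat.pos_of_ne_zero (by rintro rfl; omega))
    nlinarith
  obtain ⟨k, k0, c, e, he⟩ := lin_semi h1 A (by rw [e1, e4, pow_one])
  refine ⟨k, k0, c, e, fun d hd => ?_⟩
  obtain ⟨a, σ, h⟩ := he ⟨_, (d, 1), ⟨hd, trivial⟩, rfl⟩
  refine ⟨Units.mk0 a fun z => hv ?_, σ, fun v => by simpa [th] using h v⟩
  simpa [z] using h v

end CfsgH1
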