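import Cfsg.Agent.H1.BHM

/-! Groups in which centralizers of noncentral elements are maximal (Kosvintsev). -/

set_option autoImplicit false
set_option linter.style.haveILetI false
set_option linter.unusedSectionVars false

namespace CfsgH1

open Subgroup Cfsg CfsgH2 CfsgFT
open scoped commutatorElement

variable {G : Type*} [Group G] [Finite G]

theorem prime_of_coatom {M : Subgroup G} [M.Normal] (hM : IsCoatom M) : M.index.Prime := by
  obtain ⟨p, pp, d⟩ := Nat.exists_prime_and_dvd (fun e => hM.1 (index_eq_one.1 e))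
  haveI := Fact.mk pp
  obtain ⟨y, hy⟩ := exists_prime_orderOf_dvd_card' (G := G ⧸ M) p d
  have : (zpowers y).comap (QuotientGroup.mk' M) = ⊤ := hM.2 _ (lt_of_le_of_ne
    ((QuotientGroup.ker_mk' M).ge.trans (ker_le_comap _ _)) fun e => by
      obtain ⟨x, rfl⟩ := QuotientGroup.mk'_surjective M y
      rw [show QuotientGroup.mk' M x = 1 from (QuotientGroup.eq_one_iff _).2 (e.ge (mem_zpowers _)), orderOf_one] at hy
      exact pp.one_lt.ne hy)
  rw [← comap_top (QuotientGroup.mk' M)] at this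
  rw [index_eq_card, ← card_top, ← comap_injective (QuotientGroup.mk'_surjective M) this, Nat.card_zpowers, hy]
  exact pp

theorem coatom_map {K : Type*} [Group K] {f : G →* K} (hf : Function.Surjective f) {M : Subgroup G} (h : IsCoatom M)
    (k : f.ker ≤ M) : IsCoatom (M.map f) := ⟨fun e => h.1 (by rw [← comap_map_eq_self k, e, comap_top]), fun L l => by
  rw [← map_comap_eq_self_of_surjective hf L, h.2 (L.comap f) (lt_of_le_of_ne (map_le_iff_le_comap.1 l.le) fun e =>
    l.ne (by rw [e, map_comap_eq_self_of_surjective hf])), map_top_of_surjective _ hf]⟩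

def MaxC (G : Type*) [Group G] : Prop := ∀ x : G, x ∉ center G → IsCoatom C1(x)

def PrZ (x : G) (r : ℕ) : Prop := r.Prime ∧ x ∉ center G ∧ x ^ r ∈ center G

local notation "π" => QuotientGroup.mk' (center G)

theorem prZ_iff {x : G} {r : ℕ} (hr : r.Prime) : PrZ x r ↔ orderOf (π x) = r := by
  haveI := Fact.mk hr
  rw [orderOf_eq_prime_iff, ← map_pow]
  exact ⟨fun h => ⟨(QuotientGroup.eq_one_iff _).2 h.2.2, fun e => h.2.1 ((QuotientGroup.eq_one_iff _).1 e)⟩,
    fun h => ⟨hr, fun e => h.2 ((QuotientGroup.eq_one_iff _).2 e), (QuotientGroup.eq_one_iff _).1 h.1⟩⟩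

theorem exists_prZ {H : Subgroup G} {p : ℕ} (h : ¬ IsPGroup p (H.map π)) :
    ∃ w ∈ H, ∃ q, q ≠ p ∧ PrZ w q := by
  by_contra k; push Not at k
  refine h (IsPGroup.of_card (n := _) (Nat.eq_prime_pow_of_unique_prime_dvd Nat.card_pos.ne' fun {d} pd hd => ?_))
  haveI := Fact.mk pd
  obtain ⟨⟨_, w, hw, rfl⟩, e⟩ := exists_prime_orderOf_dvd_card' d hd
  exact by_contra fun n => k w hw d n ((prZ_iff pd).2 (by rwa [← Subgroup.orderOf_coe] at e))

theorem PrZ.eq {x : G} {p q : ℕ} (h : PrZ x q) (hp : p.Prime) {H : Subgroup (G ⧸ center G)} (k : IsPGroup p H) (m : π x ∈ H) :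
    q = p := by
  haveI := Fact.mk hp
  obtain ⟨n, hn⟩ := k.exists_card_eq
  exact (Nat.prime_dvd_prime_iff_eq h.1 hp).1 (h.1.dvd_of_dvd_pow
    (hn ▸ (prZ_iff h.1).1 h ▸ orderOf_dvd_natCard _ m))

namespace MaxC

theorem eq (h : MaxC G) {x y : G} (hx : x ∉ center G) (hy : y ∉ center G) (k : C1(x) ≤ C1(y)) : C1(x) = C1(y) :=
  ((h x hx).le_iff_eq (h y hy).1).1 k |>.symm

theorem pw (x : G) (n : ℕ) : C1(x) ≤ C1(x ^ n) := fun _ k => mem_cent1.2 (Commute.pow_left (mem_cent1.1 k) n)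

theorem pr (h : MaxC G) {x : G} (hx : x ∉ center G) : ∃ n r, PrZ (x ^ n) r ∧ C1(x) = C1(x ^ n) := by
  obtain ⟨r, pr, c, e⟩ := Nat.exists_prime_and_dvd (n := orderOf (π x)) fun e =>
    hx ((QuotientGroup.eq_one_iff _).1 (orderOf_eq_one_iff.1 e))
  have c0 : c ≠ 0 := by rintro rfl; exact (orderOf_pos _).ne' e
  have : PrZ (x ^ c) r := (prZ_iff pr).2 (by
    rw [map_pow, orderOf_pow_of_dvd c0 (e ▸ dvd_mul_left _ _), e, Nat.mul_div_cancel _ (Nat.pos_of_ne_zero c0)])
  exact ⟨c, r, this, h.eq hx this.2.1 (pw x c)⟩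

theorem two (h : MaxC G) {x y : G} {p q : ℕ} (hx : PrZ x p) (hy : PrZ y q) (n : p ≠ q) (c : y ∈ C1(x)) :
    C1(x) = C1(y) := by
  have k : ∀ {x y : G} {p q : ℕ}, PrZ x p → PrZ y q → p ≠ q → Commute x y → C1(x * y) = C1(x) := by
    intro x y p q hx hy n c
    have a : x ^ q ∉ center G := fun m => n ((Nat.prime_dvd_prime_iff_eq hx.1 hy.1).1 ((prZ_iff hx.1).1 hx ▸
      orderOf_dvd_of_pow_eq_one (by rw [← map_pow]; exact (QuotientGroup.eq_one_iff _).2 m)))
    have b : (x * y) ^ q ∉ center G := by rw [c.mul_pow, mul_mem_cancel_right hy.2.2]; exact a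
    rw [h.eq hx.2.1 a (pw x q), h.eq (fun m => b (pow_mem m q)) b (pw _ q), c.mul_pow]
    ext g; rw [mem_cent1, mem_cent1, mul_assoc, ← mem_center_iff.1 hy.2.2, ← mul_assoc, ← mul_assoc, mul_left_inj]
  rw [← k hx hy n (mem_cent1.1 c), mem_cent1.1 c, k hy hx n.symm (mem_cent1'.1 c)]

theorem ab (h : MaxC G) {x y : G} {p q : ℕ} (hx : PrZ x p) (hy : PrZ y q) (n : p ≠ q) (c : y ∈ C1(x)) :
    ∀ m ∈ C1(x), m ∉ center G → C1(m) = C1(x) := fun m hm k => by
  obtain ⟨i, r, a, b⟩ := h.pr k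
  rw [b]
  by_cases e : p = r
  · rw [h.two hx hy n c] at hm ⊢; exact (h.two hy a (e ▸ n.symm) (pow_mem hm i)).symm
  · exact (h.two hx a e (pow_mem hm i)).symm

theorem solv (h : MaxC G) : Group.IsSolvable G := by
  haveI := Fact.mk Nat.prime_two
  by_cases k : IsPGroup 2 ((⊤ : Subgroup G).map π)
  · rw [map_top_of_surjective _ (QuotientGroup.mk'_surjective _)] at k
    haveI := (k.of_equiv topEquiv).isNilpotent
    haveI := Subgroup.isNilpotent_of_ker_le_center π (QuotientGroup.ker_mk' _).le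
    infer_instance
  obtain ⟨x, -, r, r2, hx⟩ := exists_prZ k
  haveI := Fact.mk hx.1
  by_cases k : IsPGroup r ((C1(x)).map π)
  · haveI := k.isNilpotent
    refine djt (h x hx.2.1) (Subgroup.isNilpotent_of_ker_le_center ((π).subgroupMap C1(x)) fun g hg => ?_)
      ((der_le _).trans fun g hg => center_le_centralizer _ (by_contra fun n => r2 ?_))
    · exact mem_center_iff.2 fun a => Subtype.ext (mem_center_iff.1
        ((QuotientGroup.eq_one_iff _).1 (congrArg Subtype.val hg)) a)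
    · obtain ⟨i, s, a, -⟩ := h.pr n
      exact (a.eq hx.1 k ⟨_, pow_mem (Opi_le _ _ hg) i, rfl⟩).symm.trans
        (a.eq Nat.prime_two ((isPi_singleton_iff.1 (isPi_Opi {2} C1(x))).map π) ⟨_, pow_mem hg i, rfl⟩)
  obtain ⟨y, hy, q, n, a⟩ := exists_prZ k
  have : C1(x) ≤ C(C1(x)) := fun m hm => by
    by_cases c : m ∈ center G
    · exact center_le_centralizer _ c
    · exact le_cent1_iff.1 (h.ab hx a n.symm hy m hm c).ge
  exact djt (h x hx.2.1) ⟨1, by
    rw [Subgroup.upperCentralSeries_one, eq_top_iff]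
    exact fun a _ => mem_center_iff.2 fun b => Subtype.ext (mem_cent.1 (this a.2) b b.2)⟩ ((der_le _).trans (cent_mono this (Opi_le _ _) (Opi_le _ _)))

theorem elem (h : MaxC G) (k : ∀ x : G, (C1(x)).Normal) (hna : ¬ IsMulCommutative G) :
    ∃ p : ℕ, p.Prime ∧ IsElementaryAbelian p (⊤ : Subgroup (G ⧸ center G)) := by
  have d : ∀ a b : G, ⁅a, b⁆ ∈ center G := fun a b => mem_center_iff.2 fun x => by
    by_cases c : x ∈ center G
    · exact (mem_center_iff.1 c _).symm
    haveI := isCyclic_of_prime_card (α := G ⧸ C1(x)) (hp := ⟨prime_of_coatom (h x c)⟩) rfl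
    refine mem_cent1.1 ((QuotientGroup.eq_one_iff _).1 ?_)
    change QuotientGroup.mk' _ ⁅a, b⁆ = 1
    rw [map_commutatorElement, commutatorElement_eq_one_iff_mul_comm]
    exact IsCyclic.commGroup.mul_comm _ _
  have e : ∀ x ∉ center G, PrZ x (C1(x)).index := fun x c => ⟨prime_of_coatom (h x c), c, mem_center_iff.2 fun g => by
    symm
    rw [← commutatorElement_eq_one_iff_mul_comm, commutatorElement_pow_left' (mem_center_iff.1 (d _ _) _).symm,
      ← commutatorElement_pow_right' (mem_center_iff.1 (d _ _) _).symm, commutatorElement_eq_one_iff_mul_comm]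
    exact mem_cent1.1 (pow_index_mem _ g)⟩
  have cm : ∀ a b : G ⧸ center G, a * b = b * a := fun a b => by
    obtain ⟨a, rfl⟩ := QuotientGroup.mk'_surjective _ a
    obtain ⟨b, rfl⟩ := QuotientGroup.mk'_surjective _ b
    rw [← commutatorElement_eq_one_iff_mul_comm, ← map_commutatorElement]
    exact (QuotientGroup.eq_one_iff _).2 (d a b)
  obtain ⟨x, hx⟩ : ∃ x, x ∉ center G := by
    by_contra c; push Not at c
    exact hna ⟨⟨fun a b => mem_center_iff.1 (c b) a⟩⟩
  refine ⟨_, (e x hx).1, ⟨⟨fun a b => Subtype.ext (cm _ _)⟩⟩, fun y _ => ?_⟩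
  obtain ⟨y, rfl⟩ := QuotientGroup.mk'_surjective _ y
  by_cases c : y ∈ center G
  · rw [show π y = 1 from (QuotientGroup.eq_one_iff _).2 c, one_pow]
  by_contra n
  have o1 := (prZ_iff (e x hx).1).1 (e x hx)
  have o2 := (prZ_iff (e y c).1).1 (e y c)
  have ne : (C1(x)).index ≠ (C1(y)).index := fun t => n (by rw [t, ← o2, pow_orderOf_eq_one])
  have o := Commute.orderOf_mul_eq_mul_orderOf_of_coprime (cm (π x) (π y))
    (by rw [o1, o2]; exact (Nat.coprime_primes (e x hx).1 (e y c).1).2 ne)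
  rw [o1, o2, ← map_mul] at o
  by_cases c' : x * y ∈ center G
  · rw [show π (x * y) = 1 from (QuotientGroup.eq_one_iff _).2 c', orderOf_one] at o
    exact (e x hx).1.one_lt.ne' (Nat.eq_one_of_mul_eq_one_right o.symm)
  · exact Nat.not_prime_mul (e x hx).1.one_lt.ne' (e y c).1.one_lt.ne' (o ▸ (prZ_iff (e _ c').1).1 (e _ c') ▸ (e _ c').1)

theorem struct (h : MaxC G) {y : G} (hy : ¬ (C1(y)).Normal) : ∃ (N : Subgroup (G ⧸ center G)) (p : ℕ), p.Prime ∧
    N.Normal ∧ N ≠ ⊥ ∧ IsMulCommutative N ∧ IsPGroup p N ∧ N.index.Prime ∧ N.index ≠ p ∧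
    ∀ K : Subgroup (G ⧸ center G), K.Normal → K ≤ N → K = ⊥ ∨ K = N := by
  haveI := h.solv
  have yZ : y ∉ center G := fun k => hy (cent1_eq_top.2 k ▸ inferInstance)
  haveI : Nontrivial (G ⧸ center G) := QuotientGroup.nontrivial_iff.2 fun e => yZ (e.ge (mem_top y))
  obtain ⟨N, p, pp, nN, N0, cN, pN, eN, mN⟩ := exists_minNormal_of_isSolvable (G := G ⧸ center G)
  haveI := Fact.mk pp
  have np : ¬ IsPGroup p ((⊤ : Subgroup G).map π) := fun k => by
    rw [map_top_of_surjective _ (QuotientGroup.mk'_surjective _)] at k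
    haveI := (k.of_equiv topEquiv).isNilpotent
    haveI := Subgroup.isNilpotent_of_ker_le_center π (QuotientGroup.ker_mk' _).le
    exact hy (NormalizerCondition.normal_of_coatom _ Group.normalizerCondition_of_isNilpotent (h y yZ))
  have sj := QuotientGroup.mk'_surjective (center G)
  have kc : ∀ x : G, (π).ker ≤ C1(x) := fun x => (QuotientGroup.ker_mk' _).le.trans (center_le_centralizer _)
  have pN' : ∀ x, π x ∈ N → x ∉ center G → PrZ x p := fun x a b =>
    ⟨pp, b, (QuotientGroup.eq_one_iff _).1 (by have := eN _ a; rwa [← map_pow] at this)⟩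
  obtain ⟨_, x1, x2⟩ := (N.bot_or_exists_ne_one).resolve_left N0
  obtain ⟨x, rfl⟩ := sj ‹G ⧸ center G›
  have xZ : x ∉ center G := fun k => x2 ((QuotientGroup.eq_one_iff _).2 k)
  have dich : ∀ w ∉ center G, N ≤ (C1(w)).map π ∨ (N ⊓ (C1(w)).map π = ⊥ ∧ N ⊔ (C1(w)).map π = ⊤) := fun w c => by
    by_cases k : N ≤ (C1(w)).map π
    · exact .inl k
    have t : N ⊔ (C1(w)).map π = ⊤ := (coatom_map sj (h w c) (kc w)).2 _ (right_lt_sup.2 k)
    refine .inr ⟨(mN _ (normal_of_top_le (t.ge.trans (sup_le (le_norm_of_comm (comm_iff.1 cN) inf_le_left)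
      (le_normalizer_inf' (le_top.trans (normalizer_eq_top _).ge) le_normalizer)))) inf_le_left).resolve_right
        fun e => k (inf_eq_left.1 e), t⟩
  have mc : ∀ {a w : G}, π a ∈ (C1(w)).map π → a ∈ C1(w) := fun {a w} k => (comap_map_eq_self (kc w)).le k
  have cmp : ∀ {A B : Subgroup (G ⧸ center G)}, N ≤ A → A ⊓ B = ⊥ → N ⊔ B = ⊤ → A = N := fun {A B} a b c => by
    rw [← inf_top_eq A, ← c, inf_sup_left a (le_top.trans (normalizer_eq_top _).ge), b, sup_bot_eq]
  have key : ∀ w q, q ≠ p → PrZ w q → N ⊓ (C1(w)).map π = ⊥ ∧ N ⊔ (C1(w)).map π = ⊤ := fun w q n hw =>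
    (dich w hw.2.1).resolve_left fun k => by
      have ab := h.ab hw (pN' x x1 xZ) n (mc (k x1))
      have nw : (C1(w)).Normal := ⟨fun a ha g => by
        have m := nN.conj_mem _ x1 (π g⁻¹)
        rw [← map_inv, ← map_mul, ← map_mul] at m
        have := mem_cent1.1 ((ab _ (mc (k m)) fun z => xZ (by simpa [mul_assoc] using
          (Normal.conj_mem inferInstance (g⁻¹ * x * g⁻¹⁻¹) z g))).ge ha)
        rw [← ab x (mc (k x1)) xZ, mem_cent1]
        calc _ = g * (g⁻¹ * x * g⁻¹⁻¹ * a) * g⁻¹ := by group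
          _ = _ := by rw [this]; group⟩
      have yw : ∀ a ∈ C1(y), a ∈ C1(w) → a ∈ center G := fun a h1 h2 => by_contra fun c =>
        hy ((ab y ((ab a h2 c).le (mem_cent1_symm h1)) yZ).symm ▸ nw)
      have t := (dich y yZ).resolve_left fun l => xZ (yw x (mc (l x1)) (mc (k x1)))
      have := cmp k (eq_bot_iff.2 fun _ ⟨⟨a, h1, e⟩, h2⟩ => e ▸ (QuotientGroup.eq_one_iff _).2
        (yw a (mc (e ▸ h2)) h1)) t.2
      have m : π w ∈ N := this.le ⟨w, self_mem_cent1 w, rfl⟩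
      exact n ((prZ_iff hw.1).1 hw ▸ (prZ_iff pp).1 (pN' w m hw.2.1))
  have pC : IsPGroup p ((C1(x)).map π) := by_contra fun k => by
    obtain ⟨w, hw, q, n, a⟩ := exists_prZ k
    exact x2 ((key w q n a).1.le ⟨x1, x, mem_cent1_symm hw, rfl⟩)
  have NC : N ≤ (C1(x)).map π := (dich x xZ).resolve_right fun t =>
    np (by rw [map_top_of_surjective _ sj, ← t.2]; exact pN.to_sup_of_normal_left pC)
  obtain ⟨w, -, q, n, hw⟩ := exists_prZ np
  have e := cmp NC (eq_bot_iff.2 fun _ ⟨⟨a, h1, e⟩, h2⟩ => e ▸ (QuotientGroup.eq_one_iff _).2 (by_contra fun c => by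
    obtain ⟨i, r, a1, a2⟩ := h.pr c
    obtain rfl := a1.eq pp pC ⟨_, pow_mem h1 i, rfl⟩
    exact x2 ((key w q n hw).1.le ⟨x1, x, (h.two hw a1 n (pow_mem (mc (e ▸ h2)) i)).ge
      (mem_cent1_symm (pow_mem h1 i)), rfl⟩))) (key w q n hw).2
  have ip := prime_of_coatom (e ▸ coatom_map sj (h x xZ) (kc x) : IsCoatom N)
  refine ⟨N, p, pp, nN, N0, cN, pN, ip, fun k => np ?_, mN⟩
  obtain ⟨j, hj⟩ := pN.exists_card_eq
  rw [map_top_of_surjective _ sj]
  exact IsPGroup.of_card (n := j + 1) (by rw [card_top, ← N.card_mul_index, hj, k, pow_succ])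

theorem main (h : MaxC G) (hna : ¬ IsMulCommutative G) :
    (∃ p : ℕ, p.Prime ∧ IsElementaryAbelian p (⊤ : Subgroup (G ⧸ center G))) ∨
    (¬ IsMulCommutative (G ⧸ center G) ∧ (∀ H : Subgroup (G ⧸ center G), H ≠ ⊤ → IsMulCommutative ↥H) ∧
      ∃ p q a : ℕ, p.Prime ∧ q.Prime ∧ p ≠ q ∧ Nat.card (G ⧸ center G) = p ^ a * q ∧
        ∀ P : Subgroup (G ⧸ center G), Nat.card ↥P = p ^ a → P.Normal) := by
  by_cases k : ∀ x : G, (C1(x)).Normal
  · exact .inl (h.elem k hna)
  push Not at k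
  obtain ⟨y, hy⟩ := k
  obtain ⟨N, p, pp, nN, N0, cN, pN, ip, n, mN⟩ := h.struct hy
  haveI := Fact.mk pp
  haveI := Fact.mk ip
  obtain ⟨j, hj⟩ := pN.exists_card_eq
  refine .inr ⟨fun m => hy ⟨fun a ha g => ?_⟩, fun H hH => ?_, p, _, j, pp, ip, n.symm,
    by rw [← N.card_mul_index, hj], fun P hP => ?_⟩
  · have : ⁅g, a⁆ ∈ center G := (QuotientGroup.eq_one_iff _).1 (by
      change π ⁅g, a⁆ = 1
      rw [map_commutatorElement, commutatorElement_eq_one_iff_mul_comm]; exact m.is_comm.comm _ _)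
    simpa [commutatorElement_def] using mul_mem (center_le_centralizer _ this) ha
  · by_cases c : H ≤ N
    · exact comm_iff.2 (cent_mono (comm_iff.1 cN) c c)
    have t : N ⊔ H = ⊤ := (isCoatom_of_index_prime (p := N.index) rfl).2 _ (left_lt_sup.2 c)
    rcases mN (N ⊓ H) (normal_of_top_le (t.ge.trans (sup_le (le_norm_of_comm (comm_iff.1 cN) inf_le_left)
      (le_normalizer_inf' (le_top.trans (normalizer_eq_top _).ge) le_normalizer)))) inf_le_left with e | e
    · have d : Nat.card H ∣ N.index := by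
        rw [← CfsgH2.card_mul_relIndex (inf_le_right : N ⊓ H ≤ H), e, card_bot, one_mul, ← e, inf_relIndex_right]
        exact relIndex_dvd_index_of_normal N H
      rcases (Nat.dvd_prime ip).1 d with e | e
      · rw [card_eq_one.1 e]; infer_instance
      · exact comm_iff.2 (comm_of_cyclic (isCyclic_of_prime_card e))
    · exact (hH (by rw [← t, sup_eq_right.2 (inf_eq_left.1 e)])).elim
  · have : P ≤ N := relIndex_eq_one.1 (Nat.eq_one_of_dvd_coprimes (((Nat.coprime_primes ip pp).2 n).pow_right j)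
      (relIndex_dvd_index_of_normal N P) (hP ▸ relIndex_dvd_card _ _))
    rwa [CfsgH2.eq_of_le_of_card_le this (by rw [hj, hP])]

end MaxC

end CfsgH1
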