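import Cfsg.Agent.H1.Solz2

/-! The local fusion graph of `PSL₂(q)` has diameter two. -/

set_option autoImplicit false
set_option linter.style.haveILetI false
set_option linter.unusedSectionVars false

namespace CfsgH1.L2

open Matrix Subgroup Cfsg CfsgH2 CfsgH9
open Matrix.SpecialLinearGroup (toGL)

local notation "C1(" x ")" => Subgroup.centralizer (Singleton.singleton x : Set _)
local notation "N(" x ")" => Subgroup.normalizer (SetLike.coe x)

theorem diam_two {V : Type*} {Γ : SimpleGraph V} (h : ∀ u v, u ≠ v → ¬ Γ.Adj u v → (Γ.commonNeighbors u v).Nonempty)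
    {u v : V} (h1 : u ≠ v) (h2 : ¬ Γ.Adj u v) : Γ.Connected ∧ Γ.diam = 2 := by
  have e : Γ.ediam = 2 := le_antisymm (SimpleGraph.ediam_le_of_edist_le fun a b => not_lt.1 fun k => by
      obtain ⟨k1, k2, k3⟩ := SimpleGraph.two_lt_edist_iff.1 k
      exact (h a b k1 k2).ne_empty k3)
    (SimpleGraph.edist_eq_two_iff.2 ⟨h1, h2, h u v h1 h2⟩ ▸ SimpleGraph.edist_le_ediam)
  haveI : Nonempty V := ⟨u⟩
  exact ⟨SimpleGraph.connected_of_ediam_ne_top (by rw [e]; simp), by rw [SimpleGraph.diam, e]; rfl⟩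

variable {F : Type*} [Field F] [Fintype F] [DecidableEq F]

local notation "q" => Fintype.card F

def CN2 (x y : P2 F) : Prop := ∃ z, orderOf z = 2 ∧ z ≠ x ∧ z ≠ y ∧ Odd (orderOf (x * z)) ∧ Odd (orderOf (y * z))

theorem cn2_wlog {x x' : P2 F} (c : IsConj x x')
    (h : ∀ y, orderOf y = 2 → x ≠ y → ¬ Odd (orderOf (x * y)) → CN2 x y) :
    ∀ y, orderOf y = 2 → x' ≠ y → ¬ Odd (orderOf (x' * y)) → CN2 x' y := fun y a b d => by
  obtain ⟨g, rfl⟩ := isConj_iff.1 c
  obtain ⟨y, rfl⟩ := (MulAut.conj g).surjective y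
  change ¬ Odd (orderOf (MulAut.conj g x * _)) at d
  rw [← map_mul, MulEquiv.orderOf_eq] at d
  obtain ⟨z, z1, z2, z3, z4, z5⟩ := h y (by rwa [MulEquiv.orderOf_eq] at a) (fun e => b (e ▸ rfl)) d
  refine ⟨MulAut.conj g z, by rwa [MulEquiv.orderOf_eq], (MulAut.conj g).injective.ne z2, (MulAut.conj g).injective.ne z3,
    ?_, by rwa [← map_mul, MulEquiv.orderOf_eq]⟩
  change Odd (orderOf (MulAut.conj g x * _))
  rwa [← map_mul, MulEquiv.orderOf_eq]

theorem odd_two (h2 : (2 : F) = 0) {g : S2 F} (h : g.val.trace ≠ 0) : Odd (orderOf (pr g)) := by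
  haveI : Fact (Nat.Prime 2) := ⟨Nat.prime_two⟩
  haveI : CharP F 2 := (CharP.charP_iff_prime_eq_zero Nat.prime_two).2 (by exact_mod_cast h2)
  have d := (Dvd.intro _ rfl).trans (order_pr g)
  rcases casesS g with k | k | ⟨u, k, n⟩
  · simp [pr_eq_one.2 k]
  · rw [← Nat.not_even_iff_odd, even_iff_two_dvd]
    rcases k.card_cases with e | e <;> rw [e] at d
    exacts [fun c => not_dvd_q_sub 2 (c.trans d), fun c => not_dvd_q_add 2 (c.trans d)]
  · exact (h (by rw [k.1, ← two_mul, h2, zero_mul])).elim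

theorem odd_unip (h2 : (2 : F) ≠ 0) {g : S2 F} (h : g.val.trace ^ 2 = 4) : Odd (orderOf (pr g)) := by
  obtain ⟨p, hp⟩ := CharP.exists F
  haveI : Fact p.Prime := ⟨CharP.char_is_prime F p⟩
  by_cases s : Sc g.val
  · simp [pr_eq_one.2 s]
  have : ∃ x : Fˣ, Ev g.val x x := by
    rcases sq_eq_sq_iff_eq_or_eq_neg.1 (h.trans (by norm_num : (4 : F) = 2 ^ 2)) with e | e
    · exact ⟨1, by simp [e]; norm_num, by simp [g.2]⟩
    · exact ⟨-1, by simp [e]; norm_num, by simp [g.2]⟩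
  obtain ⟨x, ev⟩ := this
  rw [jor_pr p ev s]
  exact (Fact.out : p.Prime).odd_of_ne_two fun e => h2 (by subst e; exact_mod_cast CharP.cast_eq_zero F 2)

theorem odd_spl (h4 : q % 4 = 3) {g : S2 F} {x z : F} (h : Ev g.val x z) (n : x ≠ z) : Odd (orderOf (pr g)) := by
  have d := order_pr g
  rw [h.card_centS_spl n, d_odd (Nat.odd_iff.2 (by omega))] at d
  rw [← Nat.not_even_iff_odd]
  rintro ⟨k, e⟩
  have := (Dvd.intro k (by omega) : 4 ∣ orderOf (pr g) * 2).trans d
  omega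

theorem invol_tr {g : S2 F} (h : orderOf (pr g) = 2) : ¬ Sc g.val ∧ g.val.trace = 0 := by
  have n : ¬ Sc g.val := fun s => by simp [pr_eq_one.2 s] at h
  exact ⟨n, (pr_pow n).1.1 (orderOf_dvd_iff_pow_eq_one.1 h.dvd)⟩

theorem invol_of {g : S2 F} (n : ¬ Sc g.val) (h : g.val.trace = 0) : orderOf (pr g) = 2 :=
  orderOf_eq_prime ((pr_pow n).1.2 h) fun e => n (pr_eq_one.1 e)

theorem ne_of_ll {g h : S2 F} (a : g.val 1 0 = 0) (b : h.val 1 0 ≠ 0) : pr h ≠ pr g := fun e =>
  b (mem_BB.1 (e ▸ mem_BB.2 a))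

theorem cn2_two (h2 : (2 : F) = 0) {x : P2 F} (hx : orderOf x = 2) :
    ∀ y, orderOf y = 2 → x ≠ y → ¬ Odd (orderOf (x * y)) → CN2 x y := by
  haveI : Fact (Nat.Prime 2) := ⟨Nat.prime_two⟩
  haveI : CharP F 2 := (CharP.charP_iff_prime_eq_zero Nat.prime_two).2 (by exact_mod_cast h2)
  obtain ⟨y, hy, c⟩ := conj_unip hx
  refine cn2_wlog c.symm fun b o _ n => ?_
  obtain ⟨b, rfl⟩ := pr_surj b
  obtain ⟨ns, t⟩ := invol_tr o
  rw [trace_fin_two] at t
  have w : b.val 1 0 = 0 := by_contra fun w => n (by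
    rw [← map_mul]
    exact odd_two h2 fun e => mul_ne_zero hy w (by
      simp only [vmul, trace_fin_two, mul2, utS_val] at e; simp at e; linear_combination e - t))
  have v : b.val 0 1 ≠ 0 := fun v => ns ⟨v, w, by linear_combination t - b.val 1 1 * h2⟩
  have j : (J0 F).val 1 0 ≠ 0 := by simp [J0_val]
  refine ⟨pr (J0 F), invol_of (fun s => j s.2.1) tr_J0, ne_of_ll rfl j, ne_of_ll w j, ?_, ?_⟩ <;>
    rw [← map_mul] <;> refine odd_two h2 ?_ <;> simp only [vmul, trace_fin_two, mul2, J0_val] <;> simp [hy, v, w]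

theorem cn2_one (h4 : q % 4 = 1) {x : P2 F} (hx : orderOf x = 2) :
    ∀ y, orderOf y = 2 → x ≠ y → ¬ Odd (orderOf (x * y)) → CN2 x y := by
  have ho : Odd q := Nat.odd_iff.2 (by omega)
  have h2 : (2 : F) ≠ 0 := fun e => by
    have := FiniteField.even_card_iff_char_two.1 (ringChar.eq_iff.2 ((CharP.charP_iff_prime_eq_zero Nat.prime_two).2
      (by exact_mod_cast e))); omega
  obtain ⟨i, hi⟩ := FiniteField.isSquare_neg_one_iff.2 (by omega : q % 4 ≠ 3)
  obtain ⟨i, rfl⟩ : ∃ u : Fˣ, u = i := ⟨Units.mk0 i fun e => by simp [e] at hi, rfl⟩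
  have ii : ((i⁻¹ : Fˣ) : F) = -i := by rw [Units.val_inv_eq_inv_val]; exact inv_eq_of_mul_eq_one_right (by linear_combination hi)
  have tr : ∀ y, (utS i y).val.trace = 0 := fun y => by rw [trace_fin_two, utS_val, ii]; simp
  refine cn2_wlog (isConj_invol ho (invol_of_tr0 h2 (tr 0)) hx) fun b o _ n => ?_
  obtain ⟨b, rfl⟩ := pr_surj b
  have t := (invol_tr o).2
  have d := dtS b
  rw [trace_fin_two] at t
  rw [← map_mul] at n
  have n : (2 * i * b.val 0 0) ^ 2 ≠ 4 := fun e => n (odd_unip h2 (by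
    simp only [vmul, trace_fin_two, mul2, utS_val, ii]; simp
    rw [← e]; congr 1; linear_combination -i * t))
  have w : b.val 1 0 ≠ 0 := fun w => n (by
    rw [w] at d; linear_combination -4 * b.val 0 0 ^ 2 * hi + 4 * d - 4 * b.val 0 0 * t)
  refine ⟨pr (utS i ((2 - 2 * i * b.val 0 0) / b.val 1 0)), invol_of_tr0 h2 (tr _), fun e => ?_, (ne_of_ll rfl w).symm, ?_, ?_⟩
  · have : (2 - 2 * i * b.val 0 0) / b.val 1 0 = 0 := by
      rcases pr_eq.1 e with e | e <;> simpa using congrFun (congrFun (sext.1 e) 0) 1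
    exact n (by rw [← sub_eq_zero.1 ((div_eq_zero_iff.1 this).resolve_right w)]; norm_num)
  all_goals rw [← map_mul]; refine odd_unip h2 ?_; simp only [vmul, trace_fin_two, mul2, utS_val, ii]; simp
  · linear_combination 4 * (1 - i * i) * hi
  · field_simp
    linear_combination (-i * (4 - i * (b.val 0 0 + b.val 1 1))) * t

def AA (a : S2 F) : Set (S2 F) := {c | c.val.trace = 0 ∧ ∃ m ≠ 0, (a * c).val.trace ^ 2 - 4 = m ^ 2}

theorem ncard_AA (h4 : q % 4 = 3) {a : S2 F} (ha : a.val.trace = 0) : (q - 3) * (q + 1) ≤ 2 * (AA a).ncard := by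
  have ho : Odd q := Nat.odd_iff.2 (by omega)
  have h2 : (2 : F) ≠ 0 := fun e => by
    have := FiniteField.even_card_iff_char_two.1 (ringChar.eq_iff.2 ((CharP.charP_iff_prime_eq_zero Nat.prime_two).2
      (by exact_mod_cast e))); omega
  obtain ⟨g, rfl⟩ := isConj_iff.1 (isConj_of_tr (ss_of_tr h2 tr_J0) (ha.trans tr_J0.symm))
  refine le_trans ?_ (Nat.mul_le_mul_left 2 (Set.ncard_le_ncard_of_injOn (s := AA (J0 F)) (MulAut.conj g) (fun c k =>
    ⟨(trS_cj g c).trans k.1, by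
      rw [show g * J0 F * g⁻¹ * MulAut.conj g c = g * (J0 F * c) * g⁻¹ by simp [mul_assoc], trS_cj]; exact k.2⟩)
    (MulAut.conj g).injective.injOn))
  have cT : Nat.card C1(J0 F) = q + 1 := ((card_tr0 ho tr_J0).resolve_left (by omega)).2
  have dd : ∀ h : C1(J0 F), h.1.val 0 0 ^ 2 + h.1.val 1 0 ^ 2 = 1 := fun h => by
    have := dtS h.1
    rw [(mem_cent_J0.1 h.2).1, (mem_cent_J0.1 h.2).2] at this; linear_combination this
  let f : {l : Fˣ // l ≠ 1 ∧ l ≠ -1} × C1(J0 F) → S2 F := fun p =>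
    ⟨!![(p.1.1 - (p.1.1⁻¹ : Fˣ)) / 2 * p.2.1.val 0 0, (p.1.1 - (p.1.1⁻¹ : Fˣ)) / 2 * p.2.1.val 1 0 + (p.1.1 + (p.1.1⁻¹ : Fˣ)) / 2;
      (p.1.1 - (p.1.1⁻¹ : Fˣ)) / 2 * p.2.1.val 1 0 - (p.1.1 + (p.1.1⁻¹ : Fˣ)) / 2, -((p.1.1 - (p.1.1⁻¹ : Fˣ)) / 2 * p.2.1.val 0 0)], by
      have := p.1.1.mul_inv
      generalize ((p.1.1⁻¹ : Fˣ) : F) = u at this
      rw [det_fin_two]; simp; field_simp
      linear_combination -(p.1.1 - u) ^ 2 * dd p.2 + 4 * this⟩
  have nz : ∀ l : {l : Fˣ // l ≠ 1 ∧ l ≠ -1}, (l.1 : F) - (l.1⁻¹ : Fˣ) ≠ 0 := fun l e =>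
    (mul_self_eq_one_iff.1 (by rw [← l.1.mul_inv, sub_eq_zero.1 e] : (l.1 : F) * l.1 = 1)).elim
      (fun k => l.2.1 (Units.ext k)) fun k => l.2.2 (Units.ext k)
  have := two_mul_card_range f (fun p => (⟨p.1.1⁻¹, by simpa using p.1.2.1, by simpa [inv_eq_iff_eq_inv] using p.1.2.2⟩,
    ⟨-p.2.1, by simpa using mul_mem (neg_mem_cent (J0 F)) p.2.2⟩))
    (fun p e => nz p.1 (by rw [show p.1.1⁻¹ = p.1.1 from congrArg (fun x => x.1.1) e, sub_self])) fun p p' => by
      constructor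
      · intro e
        have e := sext.1 e
        have e0 := congrFun (congrFun e 0) 0
        have e1 := congrFun (congrFun e 0) 1
        have e2 := congrFun (congrFun e 1) 0
        simp only [f, of_apply, cons_val', cons_val_zero, cons_val_one, cons_val_fin_one] at e0 e1 e2
        have i1 := p.1.1.mul_inv
        have i2 := p'.1.1.mul_inv
        field_simp at e0 e1 e2
        have s1 : (p'.1.1 : F) + (p'.1.1⁻¹ : Fˣ) = p.1.1 + (p.1.1⁻¹ : Fˣ) := mul_left_cancel₀ h2 (by linear_combination e1 - e2)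
        have ex : ∀ h h' : C1(J0 F), h.1.val 0 0 = h'.1.val 0 0 → h.1.val 1 0 = h'.1.val 1 0 → h = h' := fun h h' k0 k1 => by
          obtain ⟨a1, a2⟩ := mem_cent_J0.1 h.2
          obtain ⟨b1, b2⟩ := mem_cent_J0.1 h'.2
          exact Subtype.ext (sext.2 (m2_ext k0 (by rw [a1, b1, k1]) k1 (by rw [a2, b2, k0])))
        rcases mul_eq_zero.1 (by linear_combination i1 - i2 + p'.1.1 * s1 :
          ((p'.1.1 : F) - p.1.1) * (p'.1.1 - (p.1.1⁻¹ : Fˣ)) = 0) with s | s
        · have s : p'.1.1 = p.1.1 := Units.ext (sub_eq_zero.1 s)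
          rw [s] at e0 e1
          exact .inl (Prod.ext (Subtype.ext s) (ex _ _ (mul_left_cancel₀ (nz p.1) e0)
            (mul_left_cancel₀ (nz p.1) (add_right_cancel e1))))
        · have s : p'.1.1 = p.1.1⁻¹ := Units.ext (sub_eq_zero.1 s)
          rw [s, _root_.inv_inv] at e0 e1
          exact .inr (Prod.ext (Subtype.ext s) (ex _ _ (mul_left_cancel₀ (nz p.1) (by
            change _ = _ * -(p.2.1.val 0 0); linear_combination -e0))
            (mul_left_cancel₀ (nz p.1) (by change _ = _ * -(p.2.1.val 1 0); linear_combination -e1))))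
      · rintro (rfl | rfl)
        · rfl
        · refine sext.2 (m2_ext ?_ ?_ ?_ ?_) <;> simp [f] <;> ring
  have c2 : Nat.card {l : Fˣ // l ≠ 1 ∧ l ≠ -1} = q - 3 := by
    have n : (1 : Fˣ) ≠ -1 := fun e => h2 (by have := congrArg Units.val e; simp at this; linear_combination this)
    have := Set.ncard_add_ncard_compl ({1, -1} : Set Fˣ)
    rw [Set.ncard_pair n, card_units'] at this
    have e : Nat.card {l : Fˣ // l ≠ 1 ∧ l ≠ -1} = ({1, -1}ᶜ : Set Fˣ).ncard :=
      Nat.card_congr (Equiv.subtypeEquivRight fun l => by simp)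
    omega
  rw [Nat.card_prod, cT, c2] at this
  refine this ▸ Nat.mul_le_mul_left 2 (Set.ncard_le_ncard ?_)
  rintro _ ⟨p, rfl⟩
  refine ⟨by simp [f, trace_fin_two], _, nz p.1, ?_⟩
  have := p.1.1.mul_inv
  have trJ : ∀ g : S2 F, (J0 F * g).val.trace = g.val 0 1 - g.val 1 0 := fun g => by
    simp only [trace_fin_two, vmul, mul2, J0_val]; simp; ring
  rw [trJ]
  simp only [f, of_apply, cons_val', cons_val_zero, cons_val_one, cons_val_fin_one]
  field_simp
  linear_combination 16 * this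

theorem AA_odd (h4 : q % 4 = 3) {a c : S2 F} (h : c ∈ AA a) : ¬ Sc (a * c).val ∧ ¬ Ell (a * c).val ∧ Odd (orderOf (pr (a * c))) := by
  have h2 : (2 : F) ≠ 0 := fun e => by
    have := FiniteField.even_card_iff_char_two.1 (ringChar.eq_iff.2 ((CharP.charP_iff_prime_eq_zero Nat.prime_two).2
      (by exact_mod_cast e))); omega
  obtain ⟨-, m, m0, e⟩ := h
  have ev : Ev (a * c).val (((a * c).val.trace + m) / 2) (((a * c).val.trace - m) / 2) :=
    ⟨by field_simp; ring, by rw [(a * c).2]; field_simp; linear_combination -e⟩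
  have n : ((a * c).val.trace + m) / 2 ≠ ((a * c).val.trace - m) / 2 := fun k => m0 (by
    field_simp at k; exact mul_left_cancel₀ h2 (by linear_combination k))
  exact ⟨ev.not_sc n, ev.not_ell, odd_spl h4 ev n⟩

theorem tr_anti (h2 : (2 : F) ≠ 0) {c w : S2 F} (hw : w.val.trace = 0) (h : c * w * c⁻¹ = w⁻¹) : (c * w).val.trace = 0 := by
  rw [inv_of_tr hw, mul_inv_eq_iff_eq_mul, neg_mul] at h
  have := trS_neg (w * c)
  rw [← h, vmul w, trace_mul_comm, ← vmul] at this
  exact mul_left_cancel₀ h2 (by linear_combination this)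

theorem cn2_three (h4 : q % 4 = 3) (h7 : 4 ≤ q) {x y : P2 F} (hx : orderOf x = 2) (hy : orderOf y = 2)
    (n : ¬ Odd (orderOf (x * y))) : CN2 x y := by
  have ho : Odd q := Nat.odd_iff.2 (by omega)
  have h2 : (2 : F) ≠ 0 := fun e => by
    have := FiniteField.even_card_iff_char_two.1 (ringChar.eq_iff.2 ((CharP.charP_iff_prime_eq_zero Nat.prime_two).2
      (by exact_mod_cast e))); omega
  obtain ⟨a, rfl⟩ := pr_surj x
  obtain ⟨b, rfl⟩ := pr_surj y
  have ta := (invol_tr hx).2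
  have tb := (invol_tr hy).2
  rw [← map_mul] at n
  have t4 : (a * b).val.trace ^ 2 ≠ 4 := fun e => n (odd_unip h2 e)
  have el : Ell (a * b).val := (ell_or_ev _).resolve_right fun ⟨u, v, ev⟩ => by
    by_cases e : u = v
    · subst e; exact t4 (by rw [ev.1]; linear_combination 4 * ev.mul_eq)
    · exact n (odd_spl h4 ev e)
  have cJ : Nat.card C1(J0 F) = q + 1 := ((card_tr0 ho tr_J0).resolve_left (by omega)).2
  have eJ : Ell (J0 F).val := (ss_of_tr h2 tr_J0).resolve_right fun ⟨_, _, n, k⟩ => by have := k.card_centS_spl n; omega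
  obtain ⟨w, wT, ew, cw⟩ := el.exists_memS eJ
  have tw : w.val.trace = 0 := by obtain ⟨g, rfl⟩ := isConj_iff.1 cw; rw [trS_cj, tr_J0]
  have sw : Ss w.val := .inl ew
  have ia : a * w * a⁻¹ = w⁻¹ := inv_of_inv el.not_sc wT (by
    rw [_root_.mul_inv_rev, ← mul_assoc, sq_of_tr ta, inv_of_tr tb]; simp)
  have ib : b * w * b⁻¹ = w⁻¹ := inv_of_inv el.not_sc wT (by
    rw [_root_.mul_inv_rev, inv_of_tr ta, inv_of_tr tb, mul_assoc, mul_assoc, mul_neg b, sq_of_tr tb]; simp)
  suffices ∃ c, c ∈ AA a ∧ c ∈ AA b by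
    obtain ⟨c, ca, cb⟩ := this
    have k : ∀ {a}, a.val.trace = 0 → c ∈ AA a → pr c ≠ pr a := fun {a} t k e => (AA_odd h4 k).1 (pr_eq_one.1 (by
      rw [map_mul, e, pr_sq t]))
    exact ⟨pr c, invol_of_tr0 h2 ca.1, k ta ca, k tb cb, map_mul pr a c ▸ (AA_odd h4 ca).2.2, map_mul pr b c ▸ (AA_odd h4 cb).2.2⟩
  by_contra! dj
  have nT : ∀ {a c : S2 F}, c ∈ AA a → a * c ∉ C1(w) := fun k m =>
    (AA_odd h4 k).2.1 (Ell.of_mem (w := toGL w) (z := toGL _) ew (mem_centS.1 m) (AA_odd h4 k).1)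
  let L : Set (S2 F) := N(C1(w)) \ C1(w)
  have iL : ∀ c ∈ L, c * w * c⁻¹ = w⁻¹ := fun c k => sw.inv_of_norm k.1 k.2 (self_mem_cent w)
  have LA : ∀ {a : S2 F}, a * w * a⁻¹ = w⁻¹ → ∀ c ∈ AA a, c ∉ L := fun {a} e c k m => nT k (CfsgFT.mem_cent1.2 (by
    have : a * c * w * (a * c)⁻¹ = w := by
      calc _ = a * (c * w * c⁻¹) * a⁻¹ := by group
        _ = _ := by rw [iL c m, ← conj_inv, e, _root_.inv_inv]
    exact (mul_inv_eq_iff_eq_mul.1 this).symm))
  have wa := tr_anti h2 tw ia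
  have wb := tr_anti h2 tw ib
  have k0 : 2 - (a * b).val.trace ≠ 0 := fun e => t4 (by rw [← sub_eq_zero.1 e]; norm_num)
  obtain ⟨α, β, α0, β0, e⟩ : ∃ α β : F, α ≠ 0 ∧ β ≠ 0 ∧ α ^ 2 + (2 - (a * b).val.trace) * β ^ 2 = 1 := by
    generalize 2 - (a * b).val.trace = k at k0
    have : ∃ m : F, m * (k ^ 2 * m ^ 4 - 1) ≠ 0 := by
      by_contra! z
      have := Polynomial.eq_zero_of_natDegree_lt_card_of_eval_eq_zero
        (Polynomial.X * (Polynomial.C (k ^ 2) * Polynomial.X ^ 4 - 1)) (f := id) Function.injective_id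
        (fun m => by simpa using z m) (lt_of_le_of_lt (by compute_degree) (by omega : 5 < q))
      have := congrArg (Polynomial.coeff · 1) this
      simp [Polynomial.coeff_one] at this
    obtain ⟨m, hm⟩ := this
    have d : 1 + k * m ^ 2 ≠ 0 := fun e => hm (by linear_combination m * (k * m ^ 2 - 1) * e)
    exact ⟨(1 - k * m ^ 2) / (1 + k * m ^ 2), 2 * m / (1 + k * m ^ 2),
      div_ne_zero (fun e => hm (by linear_combination -m * (k * m ^ 2 + 1) * e)) d,
      div_ne_zero (mul_ne_zero h2 fun e => hm (by simp [e])) d, by field_simp; ring⟩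
  have da := dtS a
  have db := dtS b
  have dw := dtS w
  have ta' := ta
  have tb' := tb
  have tw' := tw
  simp only [vmul, trace_fin_two, mul2] at ta' tb' tw' wa wb e
  let c : S2 F := ⟨α • w.val + β • (a.val + b.val), by
    rw [det_fin_two]; simp
    linear_combination e + α ^ 2 * dw + β ^ 2 * da + β ^ 2 * db - α * β * (wa + wb) +
      (α * β * (w.val 0 0 + w.val 1 1) + β ^ 2 * (b.val 0 0 + b.val 1 1)) * ta' + α * β * (w.val 0 0 + w.val 1 1) * tb'⟩
  have cv : ∀ i j, c.val i j = α * w.val i j + β * (a.val i j + b.val i j) := fun i j => by simp [c, mul_add]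
  have tc : c.val.trace = 0 := by rw [trace_fin_two, cv, cv]; linear_combination α * tw' + β * ta' + β * tb'
  have cab : (a * c).val.trace = (b * c).val.trace := by
    simp only [vmul, trace_fin_two, mul2, cv]
    linear_combination α * (wa - wb) - 2 * β * da + 2 * β * db + β * (a.val 0 0 + a.val 1 1) * ta' -
      β * (b.val 0 0 + b.val 1 1) * tb'
  have cL : c ∉ L := fun m => by
    have := tr_anti h2 tw (iL c m)
    simp only [vmul, trace_fin_two, mul2, cv] at this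
    exact mul_ne_zero h2 α0 (by
      linear_combination -this + β * (wa + wb) - 2 * α * dw + α * (w.val 0 0 + w.val 1 1) * tw')
  have cT : c ∉ C1(w) := fun m => by
    have := tr_anti h2 tc (inv_of_inv sw.not_sc m ia)
    simp only [vmul, trace_fin_two, mul2, cv] at this k0
    exact mul_ne_zero β0 k0 (by linear_combination -this + α * wa - 2 * β * da + β * (a.val 0 0 + a.val 1 1) * ta')
  have wA : ∀ {a : S2 F}, a * w * a⁻¹ = w⁻¹ → ∀ u ∈ C1(w), u.val.trace = 0 → u ∉ AA a := fun {a} e u m t k => by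
    obtain ⟨-, r, r0, k⟩ := k
    rw [tr_anti h2 t (inv_of_inv sw.not_sc m e)] at k
    exact FiniteField.isSquare_neg_one_iff.1 ⟨r / 2, by field_simp; linear_combination k⟩ h4
  have nw : -w ∈ C1(w) := by simpa using mul_mem (neg_mem_cent w) (self_mem_cent w)
  have tn : (-w).val.trace = 0 := by rw [trS_neg, tw, neg_zero]
  have sub : AA a ∪ AA b ∪ L ∪ {w, -w, c} ⊆ {g | IsConj w g} := by
    have k : ∀ g : S2 F, g.val.trace = 0 → IsConj w g := fun g t => isConj_of_tr sw (t.trans tw.symm)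
    rintro g (((m | m) | m) | rfl | rfl | rfl)
    exacts [k g m.1, k g m.1, k g (tr_of_sq (sext.2 (sw.sq_of_norm m.1 m.2)) fun s =>
      m.2 (center_le_centralizer _ (mem_centerS.2 s))), IsConj.refl _, k _ tn, k _ tc]
  have := Set.ncard_le_ncard sub
  have cw : Nat.card C1(w) = q + 1 := ew.card_centS
  rw [Set.ncard_union_eq (Set.disjoint_right.2 (by
      rintro g (rfl | rfl | rfl) ((m | m) | m)
      exacts [wA ia _ (self_mem_cent _) tw m, wA ib _ (self_mem_cent _) tw m, m.2 (self_mem_cent _), wA ia _ nw tn m,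
        wA ib _ nw tn m, m.2 nw, dj _ m ⟨tc, cab ▸ m.2⟩, dj _ ⟨tc, cab ▸ m.2⟩ m, cL m])),
    Set.ncard_union_eq (Set.disjoint_left.2 (by rintro g (m | m); exacts [LA ia g m, LA ib g m])),
    Set.ncard_union_eq (Set.disjoint_left.2 dj), Set.ncard_sdiff (le_normalizer : C1(w) ≤ _),
    Set.ncard_eq_three.2 ⟨w, -w, c, fun e => sw.inv_ne (by rw [inv_of_tr tw, ← e]), fun e => cT (e ▸ self_mem_cent w),
      fun e => cT (e ▸ nw), rfl⟩, show {g | IsConj w g}.ncard = _ from card_cls_eq_index w,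
    index_of (n := q * (q - 1)) (by rw [cw]; ring)] at this
  simp only [← Nat.card_coe_set_eq, SetLike.coe_sort_coe] at this
  simp only [Nat.card_coe_set_eq] at this
  rw [sw.card_norm, cw] at this
  have a1 := ncard_AA h4 ta
  have a2 := ncard_AA h4 tb
  obtain ⟨r, hr⟩ : ∃ r, q = r + 3 := ⟨q - 3, by omega⟩
  rw [hr] at this a1 a2
  simp only [Nat.add_sub_cancel, show r + 3 - 1 = r + 2 from rfl] at this a1 a2
  have : 2 * (r + 3 + 1) - (r + 3 + 1) = r + 4 := by omega
  nlinarith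

theorem lf_graph (h4 : 4 ≤ q) {t : P2 F} (ht : orderOf t = 2) :
    (SimpleGraph.fromRel fun x y : {x : P2 F // IsConj t x} => Odd (orderOf (x.1 * y.1))).Connected ∧
      (SimpleGraph.fromRel fun x y : {x : P2 F // IsConj t x} => Odd (orderOf (x.1 * y.1))).diam = 2 := by
  have o : ∀ x : {x : P2 F // IsConj t x}, orderOf x.1 = 2 := fun x => by
    obtain ⟨c, e⟩ := isConj_iff.1 x.2; rw [← e]; exact ((MulAut.conj c).orderOf_eq t).trans ht
  have k : (∀ z : P2 F, orderOf z = 2 → IsConj t z) ∧ (∃ x y : P2 F, orderOf x = 2 ∧ orderOf y = 2 ∧ orderOf (x * y) = 2) ∧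
      ∀ x y : P2 F, orderOf x = 2 → orderOf y = 2 → x ≠ y → ¬ Odd (orderOf (x * y)) → CN2 x y := by
    rcases Nat.even_or_odd q with e | e
    · have h2 := two_eq e
      haveI : Fact (Nat.Prime 2) := ⟨Nat.prime_two⟩
      haveI : CharP F 2 := (CharP.charP_iff_prime_eq_zero Nat.prime_two).2 (by exact_mod_cast h2)
      have u : ∀ y : F, y ≠ 0 → orderOf (pr (utS 1 y)) = 2 := fun y hy =>
        invol_of (fun s => hy s.1) (by simp [trace_fin_two]; linear_combination h2)
      refine ⟨fun z hz => ?_, ?_, fun x y a => cn2_two h2 a y⟩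
      · obtain ⟨y, hy, c⟩ := conj_unip ht
        obtain ⟨y', hy', c'⟩ := conj_unip hz
        exact (c.trans (pr.map_isConj ((isConj_jor_iff inv_one hy').2 ⟨hy, sq_of_two_eq_zero h2 _⟩))).trans c'.symm
      · obtain ⟨y, hy⟩ : ∃ y : F, y ∉ ({0, -1} : Finset F) := by
          by_contra! z
          have := (Finset.card_le_card fun y (_ : y ∈ Finset.univ) => z y).trans Finset.card_le_two
          rw [Finset.card_univ] at this; omega
        simp only [Finset.mem_insert, Finset.mem_singleton, not_or] at hy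
        refine ⟨_, _, u 1 one_ne_zero, u y hy.1, ?_⟩
        rw [← map_mul, utS_mul, mul_one]; exact u _ (by simpa [add_eq_zero_iff_eq_neg] using hy.2)
    · refine ⟨fun z hz => isConj_invol e ht hz, ?_, fun x y a b c d => ?_⟩
      · have h2 : (2 : F) ≠ 0 := fun k => by
          have := FiniteField.even_card_iff_char_two.1 (ringChar.eq_iff.2 ((CharP.charP_iff_prime_eq_zero Nat.prime_two).2
            (by exact_mod_cast k))); have := Nat.odd_iff.1 e; omega
        obtain ⟨j, Q⟩ := exists_qu h2 (tr_J0 (F := F))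
        exact ⟨_, _, invol_of_tr0 h2 Q.tj, invol_of_tr0 h2 Q.ti, by rw [← map_mul]; exact invol_of_tr0 h2 Q.tr_mul⟩
      · rcases (by have := Nat.odd_iff.1 e; omega : q % 4 = 1 ∨ q % 4 = 3) with h | h
        exacts [cn2_one h a y b c d, cn2_three h h4 a b d]
  obtain ⟨k1, ⟨x, y, hx, hy, hxy⟩, k3⟩ := k
  refine diam_two (u := ⟨x, k1 x hx⟩) (v := ⟨y, k1 y hy⟩) (fun u v a b => ?_) (fun e => ?_) fun e => ?_
  · obtain ⟨z, z1, z2, z3, z4, z5⟩ := k3 _ _ (o u) (o v) (fun e => a (Subtype.ext e)) fun e =>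
      b ((SimpleGraph.fromRel_adj _ _ _).2 ⟨a, .inl e⟩)
    refine ⟨⟨z, k1 z z1⟩, ?_⟩
    rw [SimpleGraph.mem_commonNeighbors, SimpleGraph.fromRel_adj, SimpleGraph.fromRel_adj]
    exact ⟨⟨fun e => z2 (congrArg Subtype.val e).symm, .inl z4⟩, fun e => z3 (congrArg Subtype.val e).symm, .inl z5⟩
  · obtain rfl : x = y := congrArg Subtype.val e
    rw [← pow_two, orderOf_dvd_iff_pow_eq_one.1 hx.dvd, orderOf_one] at hxy; omega
  · have : orderOf (y * x) = 2 := by
      rw [show y * x = MulAut.conj y (x * y) by simp [mul_assoc], MulEquiv.orderOf_eq, hxy]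
    rcases ((SimpleGraph.fromRel_adj _ _ _).1 e).2 with e | e <;> simp only [hxy, this] at e <;> exact absurd e (by decide)

end CfsgH1.L2
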