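import Cfsg.Agent.H1.Frob
import Cfsg.Agent.H2.PGroup

/-! Mazurov's lemma on element orders in extensions by Frobenius groups. -/

set_option autoImplicit false
set_option linter.style.haveILetI false
set_option linter.unusedSectionVars false

namespace CfsgH1

open Subgroup Cfsg CfsgH2 CfsgFT Finset commutatorElement

universe u
variable {G : Type u} [Group G] [Finite G]

theorem frob_norm {M : Type*} [CommGroup M] (ρ : G →* Monoid.End M) {R : Subgroup G} [Fintype R] {h : G} {n : ℕ} (hR : h ∈ N(R))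
    (fp : ∀ i < n, R ⊓ C1(h ^ (i + 1)) = ⊥) (H : ∀ m, ∏ i ∈ range (n + 1), ρ (h ^ i) m = 1) (m : M) :
    m ^ Nat.card R = ∏ f : R, ρ f m := by
  have e1 : ∏ f : R, ∏ i ∈ range (n + 1), ρ (f * h ^ i * f⁻¹) m = 1 := prod_eq_one fun f _ => by
    simp only [map_mul, Monoid.End.coe_mul, Function.comp]
    rw [← map_prod, H, map_one]
  have e2 : ∏ f : R, ∏ i ∈ range (n + 1), ρ (f * h ^ i) m = 1 := prod_eq_one fun f _ => by
    simp only [map_mul, Monoid.End.coe_mul, Function.comp]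
    rw [← map_prod, H, map_one]
  rw [prod_comm, prod_range_succ'] at e1 e2
  rw [prod_congr rfl (g := fun i => ∏ f : R, ρ (f * h ^ (i + 1)) m) fun i hi => by
    have k := pow_mem hR (i + 1)
    have fp := fp i (mem_range.1 hi)
    generalize h ^ (i + 1) = y at *
    refine Function.Bijective.prod_comp (g := fun f : R => ρ (f * y) m) (e := fun f : R =>
      ⟨f * (y * f⁻¹ * y⁻¹), mul_mem f.2 (CfsgH2.conj_mem_of_mem_normalizer k (inv_mem f.2))⟩) (Finite.injective_iff_bijective.1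
        fun a b e => inv_mul_eq_one.1 (Subtype.ext (mem_bot.1 (fp ▸ ⟨(a⁻¹ * b).2, mem_cent1.2 ?_⟩)))) ▸ prod_congr rfl
          fun f _ => by simp [mul_assoc]
    have e : (a : G) * (y * (a : G)⁻¹ * y⁻¹) = b * (y * (b : G)⁻¹ * y⁻¹) := congrArg Subtype.val e
    calc _ = (a : G)⁻¹ * (a * (y * (a : G)⁻¹ * y⁻¹)) * y * b := by simp [mul_assoc]
      _ = _ := by rw [e]; simp [mul_assoc], ← e2, mul_right_inj] at e1
  simpa using e1

theorem mul_pow_eq_prod {P : Subgroup G} (h : N(P)) (a : P) (n : ℕ) : ∃ b : P, ((a : G) * h) ^ n = b * h ^ n ∧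
    Abelianization.of b = ∏ i ∈ range n, Abelianization.of (P.normalizerMonoidHom (h ^ i) a) := by
  induction n with
  | zero => exact ⟨1, by simp, by simp⟩
  | succ n ih =>
    obtain ⟨b, e, k⟩ := ih
    refine ⟨b * P.normalizerMonoidHom (h ^ n) a, ?_, by rw [map_mul, k, prod_range_succ]⟩
    rw [pow_succ, e]
    show _ = (b : G) * ((h : G) ^ n * a * ((h : G) ^ n)⁻¹) * _
    group

theorem cent_of_norm {p : ℕ} [Fact p.Prime] {P R : Subgroup G} {h : G} {n : ℕ} (hP : IsPGroup p P) (hRP : R ≤ N(P))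
    (c : (Nat.card R).Coprime (Nat.card P)) (h1 : h ∈ N(P)) (h2 : h ∈ N(R)) (fp : ∀ i < n, R ⊓ C1(h ^ (i + 1)) = ⊥)
    (H : ∀ a ∈ P, (a * h) ^ (n + 1) = 1) : P ≤ C(R) := by
  classical
  let ρ : N(P) →* Monoid.End (Abelianization P) :=
    { toFun g := Abelianization.map (P.normalizerMonoidHom g).toMonoidHom
      map_one' := Abelianization.hom_ext _ _ (by ext; simp; rfl)
      map_mul' a b := Abelianization.hom_ext _ _ (by ext; simp; rfl) }
  have hρ : ∀ g a, ρ g (Abelianization.of a) = Abelianization.of (P.normalizerMonoidHom g a) := fun _ _ => rfl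
  have := Fintype.ofFinite (R.subgroupOf N(P))
  have k := frob_norm ρ (R := R.subgroupOf N(P)) (h := ⟨h, h1⟩) (n := n) (mem_normalizer_of_conj_mem fun x hx =>
    CfsgH2.conj_mem_of_mem_normalizer (g := h) h2 hx) (fun i hi => eq_bot_iff.2 fun x hx => Subtype.ext (mem_bot.1 (fp i hi ▸
      ⟨hx.1, mem_cent1.2 (congrArg Subtype.val (mem_cent1.1 hx.2))⟩))) fun m => by
    obtain ⟨a, rfl⟩ := QuotientGroup.mk_surjective m
    obtain ⟨b, e, k⟩ := mul_pow_eq_prod ⟨h, h1⟩ a (n + 1)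
    have := H 1 (one_mem _)
    rw [one_mul] at this
    rw [H a a.2, this, mul_one] at e
    rw [show b = 1 from Subtype.ext e.symm, map_one] at k
    exact k.symm
  refine le_centralizer_of_commutator_le_frattini hRP (c.coprime_dvd_right (card_subgroup_dvd_card _))
    ((commutator_le.2 fun a ha r hr => ?_).trans (commutator_le_map_frattini hP))
  have e : ∀ m, ρ ⟨r, hRP hr⟩ (m ^ Nat.card (R.subgroupOf N(P))) = m ^ Nat.card (R.subgroupOf N(P)) := fun m => by
    rw [k, map_prod]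
    exact Fintype.prod_equiv (Equiv.mulLeft ⟨⟨r, hRP hr⟩, hr⟩) _ _ fun f => by simp
  obtain ⟨m, hm⟩ := (powCoprime (G := Abelianization P) (n := Nat.card (R.subgroupOf N(P))) ((c.symm.coprime_dvd_left
    (card_quotient_dvd_card _)).coprime_dvd_right (Nat.card_congr (subgroupOfEquivOfLe hRP).toEquiv).dvd)).surjective (Abelianization.of ⟨a, ha⟩)
  have := e m
  rw [show m ^ _ = _ from hm, hρ, ← mul_inv_eq_one, ← map_inv, ← map_mul, ← MonoidHom.mem_ker, Abelianization.ker_of] at this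
  have := mem_map_of_mem P.subtype ((commutator P).inv_mem this)
  rw [_root_.commutator_def, map_commutator, ← MonoidHom.range_eq_map, range_subtype] at this
  rw [← commutatorElement_inv]
  exact this

theorem mazurov (N : Subgroup G) [hN : N.Normal] (Fb Hb : Subgroup (G ⧸ N)) [Fb.Normal] (hHb : IsFrobeniusComplement Hb)
    (hker : frobeniusKernel Hb = (Fb : Set (G ⧸ N))) (hcyc : IsCyclic Hb) (hcop : (Nat.card Fb).Coprime (Nat.card N))
    (hnot : ¬ Fb ≤ (C(N)).map (QuotientGroup.mk' N)) : ∃ p : ℕ, p.Prime ∧ p ∣ Nat.card N ∧ ∃ g : G, orderOf g = p * Nat.card Hb := by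
  obtain ⟨F, e, -, -, -, fp⟩ := frob_data hHb
  obtain rfl : F = Fb := SetLike.coe_injective (e.trans hker)
  have nil := nilpotent_of_fpf' le_normalizer_of_normal hHb.1 fp
  obtain ⟨r, hr, nr⟩ : ∃ r, ∃ _ : Fact r.Prime, ¬ Opi {r} F ≤ (C(N)).map (QuotientGroup.mk' N) := by
    by_contra! k
    exact hnot (le_of_nilpotent_of_forall_Opi nil fun q hq _ => k q hq)
  have : (Opi {r} F).Normal := normalizer_eq_top_iff.1 (top_le_iff.1 (le_normalizer_Opi_of _ le_normalizer_of_normal))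
  obtain ⟨R, hR⟩ := IsSylowIn.exists_sylowIn (p := r) ((Opi {r} F).comap (QuotientGroup.mk' N))
  have eR : R.map (QuotientGroup.mk' N) = Opi {r} F := by
    have := hR.map (QuotientGroup.mk' N)
    rw [map_comap_eq_self_of_surjective (QuotientGroup.mk'_surjective N)] at this
    exact this.eq_of_isPGroup (isPGroup_Opi _)
  have c : (Nat.card R).Coprime (Nat.card N) := coprime_pgroup_p' hR.pgroup (isPi_compl_singleton_iff.2 fun d =>
    hr.1.ne_one (Nat.eq_one_of_dvd_coprimes hcop ((dvd_card_of_isPGroup (isPGroup_Opi _) fun e => nr (e ▸ bot_le)).trans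
      (card_dvd_of_le (Opi_le _ _))) d))
  have s : Group.IsSolvable R ∨ Group.IsSolvable N := Or.inl (solvable_of_pgroup hR.pgroup)
  obtain ⟨p, hp, P, hP, l, nP⟩ : ∃ p, ∃ _ : Fact p.Prime, ∃ P, IsSylowIn p P N ∧ R ≤ N(P) ∧ ¬ P ≤ C(R) := by
    by_contra! k
    exact nr (eR ▸ map_mono (le_centralizer_iff.1 (le_of_forall_sylowIn_le fun q hq _ =>
      (exists_invariant_sylow le_normalizer_of_normal c s q).imp fun S hS => ⟨hS.1, k q hq S hS.1 hS.2⟩)))
  obtain ⟨⟨u, hu⟩, o⟩ := isCyclic_iff_exists_orderOf_eq_natCard.1 hcyc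
  rw [Subgroup.orderOf_mk] at o
  obtain ⟨h, h1, h2, rfl⟩ : ∃ h ∈ N(P), h ∈ N(R) ∧ QuotientGroup.mk' N h = u := by
    obtain ⟨g, rfl⟩ := QuotientGroup.mk'_surjective N u
    obtain ⟨a, ha, k⟩ := hR.frattini (g := g) (le_normalizer_of_normal (mem_top g))
    rw [← eR, comap_map_mk'] at ha
    obtain ⟨b, hb, a, ha', rfl⟩ := (mem_sup_of_normalizer' le_normalizer_of_normal).1 ha
    rw [mul_assoc, mul_mem_cancel_left (le_normalizer hb)] at k
    obtain ⟨d, hd, e⟩ := invariant_sylow_conj le_normalizer_of_normal c s (hP.cj_of_mem_normalizer (g := a * g)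
      (le_normalizer_of_normal (mem_top _))) hP (by rw [← cj_normalizer, ← cj_eq_iff_mem_normalizer.2 k]; exact cj_mono _ l) l
    rw [← cj_eq_smul, cj_cj, cj_eq_iff_mem_normalizer] at e
    exact ⟨_, e, mul_mem (cent_le_norm _ hd.2) k, by simp [(QuotientGroup.eq_one_iff _).2 hd.1, (QuotientGroup.eq_one_iff _).2 ha']⟩
  obtain ⟨n, hn⟩ : ∃ n, Nat.card Hb = n + 1 := ⟨_, (Nat.sub_add_cancel Nat.card_pos).symm⟩
  obtain ⟨a, ha, k⟩ : ∃ a ∈ P, (a * h) ^ (n + 1) ≠ 1 := by
    by_contra! k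
    refine nP (cent_of_norm hP.pgroup l (c.coprime_dvd_right (card_dvd_of_le hP.le)) h1 h2 (fun i hi => eq_bot_iff.2 fun x hx =>
      mem_bot.1 (inf_eq_bot_of_coprime' c ▸ ⟨hx.1, (QuotientGroup.eq_one_iff x).1 (mem_bot.1 (fp _ (pow_mem hu (i + 1))
        (pow_ne_one_of_lt_orderOf i.succ_ne_zero (by omega)) ▸ ⟨Opi_le _ _ (hR.le hx.1), mem_cent1.2 ?_⟩))⟩)) k)
    simpa using congrArg (QuotientGroup.mk' N) (mem_cent1.1 hx.2)
  have e : QuotientGroup.mk' N (a * h) = QuotientGroup.mk' N h := by simp [(QuotientGroup.eq_one_iff _).2 (hP.le ha)]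
  obtain ⟨j, hj⟩ := orderOf_map_dvd (QuotientGroup.mk' N) (a * h)
  rw [e, o, hn] at hj
  have oj : orderOf ((a * h) ^ (n + 1)) = j := by
    rw [orderOf_pow_of_dvd n.succ_ne_zero ⟨j, hj⟩, hj, Nat.mul_div_cancel_left _ n.succ_pos]
  obtain ⟨q, hq, i, rfl⟩ := Nat.exists_prime_and_dvd (oj ▸ mt orderOf_eq_one_iff.1 k)
  have i0 : i ≠ 0 := fun e => (orderOf_pos _).ne' (by rw [oj, e, mul_zero])
  refine ⟨q, hq, (Dvd.intro _ oj.symm).trans (orderOf_dvd_natCard N ((QuotientGroup.eq_one_iff _).1 (by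
    rw [← QuotientGroup.mk'_apply, map_pow, e, ← hn, ← o, pow_orderOf_eq_one]))), (a * h) ^ i, ?_⟩
  rw [orderOf_pow_of_dvd i0 (hj ▸ (Dvd.intro_left q rfl).mul_left _), hj, ← mul_assoc, Nat.mul_div_cancel _ (Nat.pos_of_ne_zero i0),
    hn, mul_comm]

end CfsgH1
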