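import Cfsg.Agent.H1.PSL2d
import Cfsg.Agent.H4.Deg2
import Cfsg.Agent.H4.Ext2
import Cfsg.Agent.H2.BS16

/-! The McKay equality for `SL₂(q)`, `q` odd. -/

set_option autoImplicit false
set_option linter.style.haveILetI false
set_option linter.unusedSectionVars false

namespace CfsgH1.L2

open Matrix Subgroup Cfsg CfsgH2 CfsgH3 CfsgH4

local notation "C1(" x ")" => Subgroup.centralizer (Singleton.singleton x : Set _)
local notation "N(" x ")" => Subgroup.normalizer (SetLike.coe x)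

noncomputable def mk (l : ℕ) (G : Type*) [Group G] : ℕ := Nat.card {χ : IrrCharacter G // ¬ l ∣ charDegree (χ : G → ℂ)}

theorem mk_congr {G H : Type*} [Group G] [Group H] (e : G ≃* H) (l : ℕ) : mk l G = mk l H :=
  Nat.card_congr ⟨fun χ => ⟨⟨_, χ.1.2.comp_equiv e.symm⟩, by simpa [charDegree] using χ.2⟩,
    fun χ => ⟨⟨_, χ.1.2.comp_equiv e⟩, by simpa [charDegree] using χ.2⟩, fun χ => by simp, fun χ => by simp⟩

section
variable {G : Type*} [Group G] [Finite G]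

theorem mk_all {l : ℕ} (h : ∀ χ, IsIrrCharacter G χ → ¬ l ∣ charDegree χ) : mk l G = Nat.card (ConjClasses G) := by
  rw [← card_irr_eq_card_conjClasses]; exact Nat.card_congr (Equiv.subtypeUnivEquiv fun χ => h _ χ.2)

theorem mk_pgroup {l : ℕ} [hl : Fact l.Prime] (h : IsPGroup l G) : mk l G = (commutator G).index := by
  rw [← card_hom_units, Nat.card_congr (linearIrrEquiv G)]
  refine Nat.card_congr (Equiv.subtypeEquivRight fun χ => ?_)
  obtain ⟨n, e⟩ := IsPGroup.iff_card.1 h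
  obtain ⟨k, -, d⟩ := (Nat.dvd_prime_pow hl.out).1 (e ▸ χ.2.deg_dvd_card (coe_charDegree χ.2.isChar).symm)
  rw [← coe_charDegree χ.2.isChar, Nat.cast_eq_one, d]
  rcases k with _ | k
  · simp [hl.out.ne_one]
  · simp [pow_succ, hl.out.ne_one]

theorem mk_fam {n : ℕ} (A : Fin n → Set (G → ℂ)) (f : (G → ℂ) → ℂ) (a d : Fin n → ℕ)
    (ha : Function.Injective a) (h1 : ∀ i, ∀ χ ∈ A i, IsIrrCharacter G χ ∧ f χ = a i ∧ χ 1 = d i)
    (h2 : ∀ χ, IsIrrCharacter G χ → ∃ i, χ ∈ A i) (l : ℕ) : mk l G = ∑ i, if l ∣ d i then 0 else (A i).ncard := by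
  have fin : {χ | IsIrrCharacter G χ}.Finite := inferInstanceAs (Finite (IrrCharacter G))
  have m : ∀ i χ, χ ∈ (if l ∣ d i then ∅ else A i) ↔ ¬ l ∣ d i ∧ χ ∈ A i := fun i χ => by split_ifs with h <;> simp [h]
  have := Set.ncard_iUnion_of_finite (s := fun i => if l ∣ d i then ∅ else A i)
    (fun i => fin.subset fun χ k => (h1 i χ ((m i χ).1 k).2).1) fun i j k => Set.disjoint_left.2 fun χ a b =>
      k (ha (Nat.cast_injective (R := ℂ) ((h1 i χ ((m i χ).1 a).2).2.1.symm.trans (h1 j χ ((m j χ).1 b).2).2.1)))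
  rw [finsum_eq_sum_of_fintype] at this
  simp only [apply_ite Set.ncard, Set.ncard_empty] at this
  rw [← this]
  refine Nat.card_congr ((Equiv.subtypeSubtypeEquivSubtypeInter _ fun χ => ¬ l ∣ charDegree χ).trans
    (Equiv.subtypeEquivRight fun χ => ?_))
  rw [Set.mem_iUnion]
  refine ⟨fun ⟨k, e⟩ => ?_, fun ⟨i, k⟩ => ?_⟩
  · obtain ⟨i, hi⟩ := h2 χ k
    exact ⟨i, (m i χ).2 ⟨charDegree_eq (h1 i χ hi).2.2 ▸ e, hi⟩⟩
  · obtain ⟨k1, k2⟩ := (m i χ).1 k
    exact ⟨(h1 i χ k2).1, charDegree_eq (h1 i χ k2).2.2 ▸ k1⟩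

end

variable {F : Type*} [Field F] [Fintype F] [DecidableEq F]

local notation "q" => Fintype.card F

theorem mk_S (ho : Odd q) {l : ℕ} (hl : l.Prime) : 2 * mk l (S2 F) = 2 + (if l ∣ q then 0 else 2) +
    (if l ∣ q + 1 then 0 else q - 3) + (if l ∣ q - 1 then 0 else q - 1) + (if l ∣ (q + 1) / 2 then 0 else 4) +
      (if l ∣ (q - 1) / 2 then 0 else 4) := by
  have h2 := two_le_q (F := F)
  obtain ⟨w, hw⟩ := exists_ellS (F := F)
  have o := Nat.odd_iff.1 ho
  rw [mk_fam ![{fun _ => 1}, {St F}, sRS F, sDD hw, sH RS, sH (DD hw)]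
      (fun χ => 2 * χ 1 + 5 * (2 * ∑ y, χ (utS 1 y)))
      ![10 * q + 2, 12 * q, 22 * q + 2, 2 * (q - 1), 11 * q + 1, q - 1] ![1, q, q + 1, q - 1, (q + 1) / 2, (q - 1) / 2]]
  · have a := ncard_RS_odd ho
    have b := ncard_DD_odd hw ho
    simp only [Fin.sum_univ_six, cons_val_zero, cons_val_one, cons_val, Set.ncard_singleton, ncard_HR ho, ncard_HD hw ho,
      Nat.dvd_one, hl.ne_one, if_false]
    generalize_proofs
    by_cases c1 : l ∣ q <;> by_cases c2 : l ∣ q + 1 <;> by_cases c3 : l ∣ q - 1 <;> by_cases c4 : l ∣ (q + 1) / 2 <;>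
      by_cases c5 : l ∣ (q - 1) / 2 <;> simp only [c1, c2, c3, c4, c5, if_true, if_false] <;> omega
  · intro i j
    fin_cases i <;> fin_cases j <;> simp <;> omega
  · intro i
    fin_cases i
    · rintro _ rfl; exact ⟨one_irr, by simp; ring, by simp⟩
    · rintro _ rfl; exact ⟨St_irr, by simp [St_one, sU_St]; ring, St_one⟩
    · rintro _ ⟨x, rfl⟩; exact ⟨RS_irr_iff.2 x.2, by simp [RS_one, sU_RS]; ring, by simp [RS_one]⟩
    · rintro _ ⟨x, rfl⟩; exact ⟨DD_irr hw x.2, by simp [DD_one, sU_DD, cast_q_sub], by simp [DD_one, cast_q_sub]⟩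
    · rintro χ h
      obtain ⟨x, -, -, _, k⟩ := id h
      exact ⟨k.irr, by simp [k.deg, k.sumU, RS_one, sU_RS]; ring, half_deg ho (deg_HR h)⟩
    · rintro χ h
      obtain ⟨x, -, -, _, k⟩ := id h
      refine ⟨k.irr, by simp [k.deg, k.sumU, DD_one, sU_DD, cast_q_sub], mul_left_cancel₀ two_ne_zero ?_⟩
      rw [deg_HD hw h, ← cast_q_sub]; exact_mod_cast (by omega : q - 1 = 2 * ((q - 1) / 2))
  · intro χ h
    rcases irrS_cases hw h with k | k | ⟨α, k, rfl⟩ | ⟨θ, k, rfl⟩ | k | k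
    exacts [⟨0, k⟩, ⟨1, k⟩, ⟨2, ⟨α, k⟩, rfl⟩, ⟨3, ⟨θ, k⟩, rfl⟩, ⟨4, k⟩, ⟨5, k⟩]

theorem mk_two (ho : Odd q) : mk 2 (S2 F) = 4 := by
  have := mk_S ho Nat.prime_two
  have o := Nat.odd_iff.1 ho
  have h2 := two_le_q (F := F)
  split_ifs at this <;> omega

theorem mckay (ho : Odd q) (l : ℕ) [hl : Fact l.Prime] (S : Sylow l (S2 F)) : mk l (S2 F) = mk l N(S.1) := by
  have o := Nat.odd_iff.1 ho
  have h2 := two_le_q (F := F)
  by_cases d : l ∣ Nat.card (S2 F)
  swap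
  · have : S.1 = ⊥ := by_contra fun n => d ((S.2.card_eq_or_dvd.resolve_left fun e => n (card_eq_one.1 e)).trans
      (card_subgroup_dvd_card _))
    rw [this, normalizer_eq_top]; exact mk_congr topEquiv.symm l
  by_cases e2 : l = 2
  · subst e2
    have hS : IsSylowIn 2 S.1 ⊤ := .of_sylow_top S
    rw [mk_two ho]
    rcases (by omega : (q % 8 = 3 ∨ q % 8 = 5) ∨ q % 8 = 1 ∨ q % 8 = 7) with c | c
    · obtain ⟨i, j, Q, h1, h3, -⟩ := sylow2_struct ho hS
      rw [← eq_of_le_of_card_ge (Q.idx2.le_iff.2 ⟨h1, h3⟩) (by rw [(card_syl2 ho hS).1 c, Q.card])]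
      obtain ⟨g, hg⟩ := Q.exists_sl23
      have gN : g ∈ N(closure {i, j}) := mem_normalizer_of_cj_le (by
        rw [CfsgH2.cj, MonoidHom.map_closure, closure_le]
        rintro _ ⟨x, rfl | rfl, rfl⟩
        · exact (hg.gc ▸ Q.idx2.b_mem : g * x * g⁻¹ ∈ closure {x, j})
        · exact (hg.gy ▸ mul_mem Q.idx2.a_mem Q.idx2.b_mem : g * x * g⁻¹ ∈ closure {i, x}))
      obtain ⟨f⟩ := hg.equivSL
      haveI : Fact (Nat.Prime 3) := ⟨Nat.prime_three⟩
      rw [← eq_of_le_of_card_ge (sup_le le_normalizer (zpowers_le.2 gN)) (by rw [Q.card_norm'.1 c, hg.card]), mk_congr f]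
      exact (mk_two (F := ZMod 3) (by decide)).symm
    · rw [norm_syl2 c hS, mk_pgroup S.2]
      have c16 := (card_syl2 ho hS).2 c
      obtain ⟨i, j, Q, h1, h3, -⟩ := sylow2_struct ho hS
      obtain ⟨a, b, r, -, e, k⟩ := (cyclic_or_quat S.2 (uniqInv_S (two_ne ho) _)).resolve_left fun c =>
        Q.not_mem (CfsgFT.mem_cent1.2 (congrArg Subtype.val (mul_comm' (⟨i, h1⟩ : S.1) ⟨j, h3⟩)))
      have c1 := (commutator S.1).card_mul_index
      rw [← card_map_of_injective S.1.subtype_injective, map_subtype_commutator, k.commutator_eq_sq, Nat.card_zpowers,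
        orderOf_sq_of (m := 2 ^ r) (by rw [e, pow_succ']), k.card, e, pow_succ] at c1
      exact Nat.eq_of_mul_eq_mul_left (Nat.two_pow_pos r) (by omega)
  have m := mk_S ho hl.out
  have two : ∀ {n}, l ∣ n → ¬ l ∣ n + 2 := fun a b => e2 ((Nat.prime_dvd_prime_iff_eq hl.out Nat.prime_two).1
    ((Nat.dvd_add_right a).1 b))
  have one : ∀ {n}, l ∣ n → ¬ l ∣ n + 1 := fun a b => hl.out.ne_one (Nat.dvd_one.1 ((Nat.dvd_add_right a).1 b))
  have hf : ∀ {n}, 2 ∣ n → (l ∣ n / 2 ↔ l ∣ n) := fun {n} ⟨k, e⟩ => by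
    rw [e, Nat.mul_div_cancel_left _ two_pos]
    exact (Nat.Coprime.dvd_mul_left ((Nat.coprime_primes hl.out Nat.prime_two).2 e2)).symm
  simp only [hf (by omega : 2 ∣ q + 1), hf (by omega : 2 ∣ q - 1)] at m
  have q1 : q - 1 + 1 = q := by omega
  have q2 : q - 1 + 2 = q + 1 := by omega
  by_cases dq : l ∣ q
  · obtain ⟨p, hp⟩ := CharP.exists F
    obtain ⟨n, pp, hn⟩ := FiniteField.card F p
    obtain rfl : l = p := (Nat.prime_dvd_prime_iff_eq hl.out pp).1 (hl.out.dvd_of_dvd_pow (hn ▸ dq))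
    obtain ⟨g, e⟩ := sylow_eq_US l S
    rw [← e, ← cj_normalizer, norm_US, ← mk_congr (cjEquiv g _), mk_all (G := BS F), card_cls_BS ho]
    · rw [if_pos dq, if_neg (one dq), if_neg fun k => one k (q1.symm ▸ dq), if_neg (one dq),
        if_neg fun k => one k (q1.symm ▸ dq)] at m
      omega
    intro χ hχ k
    haveI := (normal_subgroupOf_iff_le_normalizer (US_le (F := F))).2 norm_US.ge
    have := k.trans (deg_dvd_index_of_abelian (N := (US F).subgroupOf (BS F)) hχ (coe_charDegree hχ.isChar).symm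
      fun a ha b hb => Subtype.ext (US_comm ha hb))
    have c := card_mul_relIndex (US_le (F := F))
    rw [card_US, card_BS] at c
    exact not_dvd_q_sub l (this.trans (Nat.eq_of_mul_eq_mul_left (by omega) c).dvd)
  obtain ⟨w, h1, hw, h3, h4⟩ := sylow_ss e2 dq S d
  have c := hw.card_cls ho
  rw [hw.norm_eq h1 h3, mk_all (G := N(C1(w)))]
  · rcases hw.card_cases with e | e <;> rw [e] at c h4
    · rw [if_neg dq, if_neg (q2 ▸ two h4), if_pos h4, if_neg (q2 ▸ two h4), if_pos h4] at m; omega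
    · rw [if_neg dq, if_pos h4, if_neg fun k => two k (q2.symm ▸ h4), if_pos h4, if_neg fun k => two k (q2.symm ▸ h4)] at m
      omega
  intro χ hχ k
  have := deg_le_index_of_comm hχ (B := C1(w).subgroupOf N(C1(w))) fun a ha b hb => Subtype.ext (comm_centS hw.not_sc ha hb)
  have c := card_mul_relIndex (le_normalizer (H := C1(w)))
  rw [hw.card_norm, mul_comm 2] at c
  have := (Nat.le_of_dvd (charDegree_pos hχ) k).trans (this.trans (Nat.eq_of_mul_eq_mul_left Nat.card_pos c).le)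
  have := hl.out.two_le
  omega

end CfsgH1.L2
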