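import Cfsg.Agent.H1.McK
import Cfsg.Agent.H1.Blk2
import Cfsg.Agent.H8.Def2d
import Cfsg.Agent.H2.BlockTools

/-! The McKay equality for a Sylow subgroup of prime order. -/

set_option autoImplicit false
set_option linter.style.haveILetI false
set_option linter.unusedSectionVars false

namespace CfsgH1.McK1

open Subgroup Cfsg CfsgH2 CfsgH3 CfsgH4 CfsgH8 CfsgH8.O1 CfsgH8.FinSub CfsgH1.L2

variable {p : ℕ} [hp : Fact p.Prime] {G : Type*} [Group G] [Fintype G] {P : Sylow p G} [h : O1 P]

theorem eT_smul (n : NP P) (θ : IrrCharacter (CP P)) : eT (n • θ) = eT θ := by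
  have a := index_TT (θ := n • θ)
  have b := index_TT (θ := θ)
  have c : (TT (n • θ)).index = (TT θ).index := by
    rw [MulAction.index_stabilizer, MulAction.index_stabilizer, MulAction.orbit_smul]
  rw [c, ← b] at a
  exact Nat.eq_of_mul_eq_mul_left (Nat.pos_of_ne_zero index_ne_zero_of_finite) a

theorem formula : mk p G * fN P = ∑ θ ∈ KTF P, eT θ * (eT θ + (p - 1) / eT θ) := by
  classical
  obtain ⟨M, hM⟩ := CfsgH2.exists_isPModular p hp.out
  have := hM.2.1
  have := charP_of_isPModular hM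
  choose bl hb using fun θ : IrrCharacter (CP P) => exists_indBlock θ M
  have pb := fun θ => (isInducedBlock_iff.1 (hb θ)).2.1
  have k1 : ∀ θ ∈ KTF P, eT θ * (eT θ + (p - 1) / eT θ) = ∑ χ : IrrCharacter G, if χ ∈ bl θ then eT θ else 0 := by
    intro θ k
    obtain ⟨χ, hχ⟩ := block_nonempty (pb θ)
    obtain ⟨X, ζ, a, δ, S, h1, -⟩ := exists_excT (mem_KTF.1 k) (hb θ) hχ
    rw [← card_orbT', ← h1, ← S.card_B, h1, ← card_irrF, ← Finset.sum_filter, Finset.sum_const, smul_eq_mul, mul_comm]
    congr 2; ext; simp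
  rw [Finset.sum_congr rfl k1, Finset.sum_comm, L2.mk, Nat.card_eq_fintype_card, Fintype.card_subtype, ← smul_eq_mul,
    ← Finset.sum_const, Finset.sum_filter]
  refine Finset.sum_congr rfl fun χ _ => ?_
  split_ifs with d
  · exact (Finset.sum_eq_zero fun θ k => if_neg fun m =>
      not_dvd_deg (pb θ) (isDef_of_ind (hb θ)) m d).symm
  · obtain ⟨θ, k, i⟩ := exists_root (isPBlock_blockOf χ)
      (isDefectGroup_sylow (M := M) (isPBlock_blockOf χ) (mem_blockOf_self χ) d P)
    rw [← Finset.sum_filter, ← index_TT (θ := θ), MulAction.index_stabilizer, Set.ncard_eq_toFinset_card', ← smul_eq_mul,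
      ← Finset.sum_const]
    refine Finset.sum_congr (Finset.ext fun θ' => ?_) fun θ' m => ?_
    · rw [Set.mem_toFinset, Finset.mem_filter, mem_KTF]
      refine ⟨?_, fun ⟨k', m⟩ => exists_smul_of_ind k k' i
        (block_eq_of_mem (pb θ') (isPBlock_blockOf χ) m (mem_blockOf_self χ) ▸ hb θ')⟩
      rintro ⟨n, rfl⟩
      refine ⟨k.smul n, ?_⟩
      have := (ind_of_isInducedBlock i).cj (bId_mem _).2 (mem_top (n : G))
      rw [cjA_bIdS k, cj_eq_iff_mem_normalizer.2 ((normal_subgroupOf_iff_le_normalizer (centralizer_le_normalizer _)).1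
        inferInstance n.2)] at this
      rw [isInducedBlock_unique (hb _) ((isInducedBlock_iff' (isPBlock_blockOf _) (isPBlock_blockOf χ)).2 this)]
      exact mem_blockOf_self χ
    · obtain ⟨k', m⟩ := Finset.mem_filter.1 m
      obtain ⟨n, rfl⟩ := exists_smul_of_ind k (mem_KTF.1 k') i
        (block_eq_of_mem (pb θ') (isPBlock_blockOf χ) m (mem_blockOf_self χ) ▸ hb θ')
      exact (eT_smul n θ).symm

/-- the Sylow subgroup inside its normalizer -/
abbrev P' (P : Sylow p G) : Sylow p (NP P) := P.subtype le_normalizer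

instance : O1 (P' P) := ⟨(Nat.card_congr (subgroupOfEquivOfLe le_normalizer).toEquiv).trans h.card⟩

omit h in
theorem NP' : NP (P' P) = ⊤ := normalizer_eq_top_iff.2 (inferInstanceAs (P.1.subgroupOf (NP P)).Normal)

omit h in
theorem CP' : CP (P' P) = (CP P).subgroupOf (NP P) :=
  Subgroup.ext fun _ => ⟨fun k y hy => congrArg Subtype.val (k ⟨y, le_normalizer hy⟩ hy),
    fun k y hy => Subtype.ext (k y hy)⟩

/-- the two centralizers -/
def eC (P : Sylow p G) : CP (P' P) ≃* CP P :=
  (MulEquiv.subgroupCongr CP').trans (subgroupOfEquivOfLe (centralizer_le_normalizer _))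

omit h in
theorem fN' : fN (P' P) = fN P := by rw [fN, NP', relIndex_top_right, CP']; rfl

/-- transport of characters -/
def eI (P : Sylow p G) : IrrCharacter (CP P) ≃ IrrCharacter (CP (P' P)) :=
  ⟨fun χ => ⟨_, χ.2.comp_equiv (eC P)⟩, fun χ => ⟨_, χ.2.comp_equiv (eC P).symm⟩, fun χ => by simp, fun χ => by simp⟩

omit h in
theorem eT' (θ : IrrCharacter (CP P)) : eT (eI P θ) = eT θ := by
  have a := index_TT (θ := eI P θ)
  have b := index_TT (θ := θ)
  have c : TT (eI P θ) = (TT θ).comap (NP (P' P)).subtype := by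
    ext n
    refine ⟨fun k => Subtype.ext (funext fun c => ?_), fun k => Subtype.ext (funext fun c => ?_)⟩
    · obtain ⟨c, rfl⟩ := (eC P).surjective c
      exact congrFun (congrArg Subtype.val k) c
    · exact congrFun (congrArg Subtype.val k) (eC P c)
  rw [c, index_comap_of_surjective _ fun n => ⟨⟨n, NP' (P := P) ▸ mem_top n⟩, rfl⟩, fN', ← b] at a
  exact Nat.eq_of_mul_eq_mul_left (Nat.pos_of_ne_zero index_ne_zero_of_finite) a

theorem mckay1 : mk p G = Nat.card (ConjClasses (NP P)) := by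
  have a := formula (P := P)
  have b := formula (P := P' P)
  rw [← Finset.sum_equiv (eI P) (s := KTF P) (f := fun θ => eT θ * (eT θ + (p - 1) / eT θ)) (fun θ => ?_)
    (fun θ _ => by rw [eT']), ← a, fN'] at b
  · rw [← Nat.eq_of_mul_eq_mul_right (Nat.pos_of_ne_zero index_ne_zero_of_finite) b]
    have : (P' P).1.Normal := normalizer_eq_top_iff.1 NP'
    exact mk_all fun χ k d => (P' P).not_dvd_index (d.trans (deg_dvd_index_of_abelian k (coe_charDegree k.isChar).symm
      fun a ha b hb => le_C (P' P) hb a ha))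
  · rw [mem_KTF, mem_KTF]
    refine ⟨fun k c hc => (k (eC P c) hc).trans (congrArg θ.1 (map_one (eC P)).symm), fun k c hc => ?_⟩
    obtain ⟨c, rfl⟩ := (eC P).surjective c
    exact (k c hc).trans (congrArg θ.1 (map_one (eC P)))

end CfsgH1.McK1
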