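import Cfsg.Agent.H2.FrobEx
import Cfsg.Agent.H2.Transfer2
import Cfsg.Agent.H2.PGroup3
import Cfsg.Agent.S4208
import Cfsg.Agent.FT.PLen

/-! Normal `p`-complements from small generating sets. -/

set_option autoImplicit false
set_option linter.style.haveILetI false
set_option linter.unusedSectionVars false

namespace CfsgH1
open Subgroup Cfsg CfsgFT CfsgH2

variable {G : Type*} [Group G] [Finite G] {p : ℕ} [hp : Fact p.Prime]

theorem frat_le_of_gen (hP : IsPGroup p G) {k r : ℕ} {y : Fin k → G} (h : closure (Set.range y) = ⊤)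
    (hr : (frattini G).index = p ^ r) : r ≤ k := by
  by_contra n
  have l := Nat.pow_lt_pow_right hp.out.one_lt (not_le.1 n)
  have := card_gen_tuples hP k _ le_rfl (hr ▸ l.le)
  rw [if_neg (hr ▸ l.ne')] at this
  exact (Nat.card_pos_iff.2 ⟨⟨⟨y, by simp [h]⟩⟩, inferInstance⟩).ne' this

theorem gen_rank (G : Type*) [Group G] [Finite G] : ∃ y : Fin (Group.rank G) → G, closure (Set.range y) = ⊤ := by
  obtain ⟨S, h1, h2⟩ := Group.rank_spec G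
  refine ⟨fun i => (S.equivFinOfCardEq h1).symm i, top_le_iff.1 (h2.ge.trans (closure_mono fun x hx => ?_))⟩
  exact ⟨S.equivFinOfCardEq h1 ⟨x, hx⟩, by simp⟩

theorem gen_meta (h : IsMetacyclic G) : ∃ y : Fin 2 → G, closure (Set.range y) = ⊤ := by
  obtain ⟨N, -, -, h1, y, -, h2⟩ := isMetacyclic_iff.1 (isMetacyclic_top_iff.2 h)
  obtain ⟨x, rfl⟩ := (N.isCyclic_iff_exists_zpowers_eq_top).1 h1
  exact ⟨![x, y], top_le_iff.1 (h2.ge.trans (sup_le (zpowers_le.2 (subset_closure ⟨0, rfl⟩))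
    (zpowers_le.2 (subset_closure ⟨1, rfl⟩))))⟩

theorem aut_prime (hP : IsPGroup p G) {k : ℕ} {y : Fin k → G} (h : closure (Set.range y) = ⊤) {q : ℕ} (hq : q.Prime)
    (hn : q ≠ p) (hd : q ∣ Nat.card (MulAut G)) : ∃ c, 1 ≤ c ∧ c ≤ k ∧ q ∣ p ^ c - 1 := by
  obtain ⟨n, h1⟩ := hP.exists_card_eq
  obtain ⟨r, h2⟩ := hP.index (frattini G)
  have c : ∀ i, ¬ q ∣ p ^ i := fun i d => hn ((Nat.prime_dvd_prime_iff_eq hq hp.out).1 (hq.dvd_of_dvd_pow d))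
  obtain ⟨i, hi, d⟩ := (hq.prime.dvd_finsetProd_iff _).1
    ((hq.dvd_mul.1 (hd.trans (Cfsg.Agent.S4208.result h1 h2))).resolve_left (c _))
  obtain ⟨j, rfl⟩ := Nat.exists_eq_add_of_lt (Finset.mem_range.1 hi)
  rw [add_assoc, pow_add, ← Nat.mul_sub_one] at d
  exact ⟨_, by omega, le_trans (by omega) (frat_le_of_gen hP h h2), (hq.dvd_mul.1 d).resolve_left (c _)⟩

theorem act_prime {Q : Subgroup G} (hQ : IsPGroup p Q) {k : ℕ} {y : Fin k → Q} (h : closure (Set.range y) = ⊤) {q : ℕ}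
    (hq : q.Prime) (hn : q ≠ p) {g : G} (h1 : g ∈ N(Q)) (h2 : IsPGroup q (zpowers g)) (h3 : g ∉ C(Q)) :
    ∃ c, 1 ≤ c ∧ c ≤ k ∧ q ∣ p ^ c - 1 := by
  haveI := Fact.mk hq
  obtain ⟨j, hj⟩ := exists_orderOf_eq_pow h2 (mem_zpowers g)
  obtain ⟨i, -, hi⟩ := (Nat.dvd_prime_pow hq).1 (hj ▸ (orderOf_map_dvd Q.normalizerMonoidHom ⟨g, h1⟩).trans
    (orderOf_mk g h1).dvd)
  refine aut_prime hQ h hq hn (Dvd.dvd.trans (hi ▸ dvd_pow_self q ?_) (orderOf_dvd_natCard _))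
  rintro rfl
  exact h3 fun x hx => (mul_inv_eq_iff_eq_mul.1 (congrArg Subtype.val
    (MulEquiv.congr_fun (orderOf_eq_one_iff.1 hi) (⟨x, hx⟩ : Q)))).symm

theorem npc_of_gen (P : Sylow p G) {k : ℕ} (h1 : ∀ Q ≤ P.1, ∃ y : Fin k → Q, closure (Set.range y) = ⊤)
    (h : ∀ q : ℕ, q.Prime → q ≠ p → q ∣ Nat.card G → ∀ c, 1 ≤ c → c ≤ k → ¬ q ∣ p ^ c - 1) : HasNormalPComplement p G := by
  by_contra n
  obtain ⟨Q, hQ, q, hq, h2, h3, g, hg, h4, h5⟩ := exists_act_of_not_hasNPC P n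
  obtain ⟨y, hy⟩ := h1 Q hQ
  obtain ⟨c, c1, c2, c3⟩ := act_prime (P.2.to_le hQ) hy hq h2 hg h4 h5
  exact h q hq h2 h3 c c1 c2 c3

theorem npc_of_ab (P : Sylow p G) (hab : IsMulCommutative P.1)
    (h : ∀ q : ℕ, q.Prime → q ≠ p → q ∣ Nat.card G → ∀ c, 1 ≤ c → c ≤ Group.rank P.1 → ¬ q ∣ p ^ c - 1) :
    HasNormalPComplement p G := by
  refine hasNPC_top_iff.1 (burnside_hasNPC (.of_sylow_top P) fun g hg => by_contra fun n => ?_)
  obtain ⟨q, hq, -, x, hx, h4, h5⟩ := exists_primePow_not_mem n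
  have x1 := zpowers_le.2 hg.2 hx
  obtain ⟨y, hy⟩ := gen_rank P.1
  rcases eq_or_ne q p with rfl | e
  · exact h5 (le_centralizer _ (((IsSylowIn.of_sylow_top P).le_of_le_normalizer h4 le_top (zpowers_le.2 x1)) (mem_zpowers x)))
  obtain ⟨c, c1, c2, c3⟩ := act_prime P.2 hy hq e x1 h4 h5
  haveI := Fact.mk hq
  obtain ⟨j, hj⟩ := exists_orderOf_eq_pow h4 (mem_zpowers x)
  refine h q hq e ((hj ▸ dvd_pow_self q ?_).trans (orderOf_dvd_natCard x)) c c1 c2 c3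
  rintro rfl
  exact h5 (orderOf_eq_one_iff.1 hj ▸ one_mem _)

theorem npc_of_meta (P : Sylow p G) (hm : IsMetacyclic P.1)
    (h : ∀ q : ℕ, q.Prime → q ≠ p → q ∣ Nat.card G → ¬ q ∣ p ^ 2 - 1) : HasNormalPComplement p G :=
  npc_of_gen P (fun _ hQ => gen_meta (isMetacyclic_of_le hm hQ)) fun q h1 h2 h3 c c1 c2 d => h q h1 h2 h3 (by
    obtain rfl | rfl : c = 1 ∨ c = 2 := by omega
    · exact d.trans (by simpa using Nat.sub_dvd_pow_sub_pow p 1 2)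
    · exact d)

end CfsgH1
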