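import Cfsg.Agent.H1.PSL2a
import Cfsg.Agent.FT.Hall
import Cfsg.Prelude.Def_LocalEven

/-! The natural `SL₂(q)`-module in coordinates. -/

set_option autoImplicit false
set_option linter.style.haveILetI false
set_option linter.unusedSectionVars false

namespace CfsgH1.L2

open Matrix Subgroup Cfsg CfsgH2 CfsgFT

variable {G : Type*} [Group G] [Finite G] {F : Type*} [Field F] [Fintype F] [DecidableEq F]

structure NS (V L T : Subgroup G) (f : G → Fin 2 → F) (r : G → S2 F) : Prop where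
  norm : L ≤ N(V)
  add : ∀ x ∈ V, ∀ y ∈ V, f (x * y) = f x + f y
  inj : ∀ x ∈ V, ∀ y ∈ V, f x = f y → x = y
  surj : ∀ u, ∃ x ∈ V, f x = u
  mul : ∀ a ∈ L, ∀ b ∈ L, r (a * b) = r a * r b
  rinj : ∀ a ∈ L, ∀ b ∈ L, r a = r b → a = b
  rsurj : ∀ A, ∃ a ∈ L, r a = A
  act : ∀ a ∈ L, ∀ x ∈ V, f (a * x * a⁻¹) = (r a).val *ᵥ f x
  le : T ≤ L
  mem : ∀ a ∈ L, a ∈ T ↔ r a ∈ US F

theorem smv (A B : S2 F) (u : Fin 2 → F) : A.val *ᵥ B.val *ᵥ u = (A * B).val *ᵥ u := mulVec_mulVec _ _ _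

theorem smv1 (u : Fin 2 → F) : (1 : S2 F).val *ᵥ u = u := one_mulVec _

theorem charP_of_card {p n : ℕ} [hp : Fact p.Prime] (h : Fintype.card F = p ^ n) : CharP F p := by
  obtain ⟨l, hl⟩ := CharP.exists F
  obtain ⟨k, h1, h2⟩ := FiniteField.card F l
  rwa [(Nat.prime_dvd_prime_iff_eq h1 hp.out).1 (h1.dvd_of_dvd_pow (h ▸ h2 ▸ dvd_pow_self l k.ne_zero))] at hl

theorem exists_ns {p n : ℕ} [hp : Fact p.Prime] (h : Fintype.card F = p ^ n) {V L : Subgroup G}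
    (hn : IsNaturalSL2Module F V L) (hf : L ⊓ C(V) = ⊥) (S : Sylow p L) :
    ∃ f r, NS (F := F) V L (S.1.map L.subtype) f r := by
  classical
  have := charP_of_card h
  obtain ⟨h1, ρ, ψ, h2, h3, h4⟩ := hn
  have i : Function.Injective ρ := by
    rw [← MonoidHom.ker_eq_bot_iff, h3, subgroupOf_eq_bot, disjoint_iff, inf_comm, hf]
  obtain ⟨P, hP⟩ := (((IsSylowIn.of_sylow_top S).map ρ).trans_of_not_dvd le_top (by
    rw [map_top_of_surjective _ h2]; simp [hp.out.ne_one])).of_top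
  obtain ⟨g, e⟩ := sylow_eq_US p P
  refine ⟨fun x => if k : x ∈ V then (g⁻¹).val *ᵥ ψ (Additive.ofMul ⟨x, k⟩) else 0,
    fun a => if k : a ∈ L then g⁻¹ * ρ ⟨a, k⟩ * g else 1, h1, fun x hx y hy => ?_, fun x hx y hy k => ?_, fun u => ?_,
    fun a ha b hb => ?_, fun a ha b hb k => ?_, fun A => ?_, fun a ha x hx => ?_, map_subtype_le _, fun a ha => ?_⟩
  · rw [dif_pos hx, dif_pos hy, dif_pos (mul_mem hx hy), ← mulVec_add, ← map_add]; rfl
  · rw [dif_pos hx, dif_pos hy] at k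
    have := congrArg (g.val *ᵥ ·) k
    simp only [smv, mul_inv_cancel, smv1] at this
    exact congrArg Subtype.val (Additive.ofMul.injective (ψ.injective this))
  · refine ⟨_, (Additive.toMul (ψ.symm (g.val *ᵥ u))).2, ?_⟩
    rw [dif_pos (Subtype.property _)]
    simp only [Subtype.coe_eta, ofMul_toMul, AddEquiv.apply_symm_apply, smv, inv_mul_cancel, smv1]
  · rw [dif_pos ha, dif_pos hb, dif_pos (mul_mem ha hb), show (⟨a * b, mul_mem ha hb⟩ : L) = ⟨a, ha⟩ * ⟨b, hb⟩ from rfl,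
      map_mul]
    group
  · rw [dif_pos ha, dif_pos hb] at k
    exact congrArg Subtype.val (i (by simpa using k))
  · obtain ⟨a, e⟩ := h2 (g * A * g⁻¹)
    exact ⟨a, a.2, by rw [dif_pos a.2, Subtype.coe_eta, e]; group⟩
  · obtain ⟨w, e1, e2⟩ := h4 ⟨a, ha⟩ ⟨x, hx⟩
    have m : a * x * a⁻¹ ∈ V := e1 ▸ w.2
    rw [dif_pos ha, dif_pos hx, dif_pos m, show (⟨_, m⟩ : V) = w from Subtype.ext e1.symm, e2, smv, smv,
      mul_inv_cancel_right]
  · rw [dif_pos ha, ← mem_cj, e, hP, mem_map_iff_mem i]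
    exact mem_map_iff_mem (f := L.subtype) (x := ⟨a, ha⟩) Subtype.val_injective

namespace NS
variable {V L T : Subgroup G} {f : G → Fin 2 → F} {r : G → S2 F} (h : NS V L T f r)
include h

theorem f_one : f 1 = 0 := by simpa using h.add 1 (one_mem _) 1 (one_mem _)

theorem f_inv {x : G} (hx : x ∈ V) : f x⁻¹ = -f x :=
  eq_neg_of_add_eq_zero_left (by rw [← h.add _ (inv_mem hx) _ hx, inv_mul_cancel, h.f_one])

theorem r_one : r 1 = 1 := by simpa using h.mul 1 (one_mem _) 1 (one_mem _)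

theorem r_inv {a : G} (ha : a ∈ L) : r a⁻¹ = (r a)⁻¹ :=
  eq_inv_of_mul_eq_one_left (by rw [← h.mul _ (inv_mem ha) _ ha, inv_mul_cancel, h.r_one])

theorem r_pow {a : G} (ha : a ∈ L) (n : ℕ) : r (a ^ n) = r a ^ n := by
  induction n with
  | zero => simpa using h.r_one
  | succ n ih => rw [pow_succ, pow_succ, h.mul _ (pow_mem ha n) _ ha, ih]

theorem comm {x y : G} (hx : x ∈ V) (hy : y ∈ V) : x * y = y * x :=
  h.inj _ (mul_mem hx hy) _ (mul_mem hy hx) (by rw [h.add _ hx _ hy, h.add _ hy _ hx, add_comm])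

theorem cmem {a x : G} (ha : a ∈ L) (hx : x ∈ V) : a * x * a⁻¹ ∈ V := conj_mem_of_mem_normalizer (h.norm ha) hx

theorem inj' {x y : G} (hx : x ∈ V) (hy : y ∈ V) (h0 : f x 0 = f y 0) (h1 : f x 1 = f y 1) : x = y :=
  h.inj _ hx _ hy (funext fun i => by fin_cases i <;> assumption)

theorem fix {a x : G} (ha : a ∈ L) (hx : x ∈ V) : a * x = x * a ↔ (r a).val *ᵥ f x = f x := by
  rw [← h.act a ha x hx, ← mul_inv_eq_iff_eq_mul]
  exact ⟨fun e => by rw [e], h.inj _ (h.cmem ha hx) _ hx⟩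

theorem act_ut {a x : G} (ha : a ∈ L) (hx : x ∈ V) {c : Fˣ} {y : F} (e : r a = utS c y) :
    f (a * x * a⁻¹) 0 = c * f x 0 + y * f x 1 ∧ f (a * x * a⁻¹) 1 = (c⁻¹ : Fˣ) * f x 1 := by
  rw [h.act a ha x hx, e]
  simp [mulVec, dotProduct]

theorem exT (y : F) : ∃ t ∈ T, r t = utS 1 y := by
  obtain ⟨a, ha, e⟩ := h.rsurj (utS 1 y)
  exact ⟨a, (h.mem a ha).2 (mem_US.2 ⟨y, e.symm⟩), e⟩

theorem ofT {t : G} (ht : t ∈ T) : ∃ y, r t = utS 1 y := by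
  obtain ⟨y, e⟩ := mem_US.1 ((h.mem t (h.le ht)).1 ht)
  exact ⟨y, e.symm⟩

theorem fix_ut {a x : G} (ha : a ∈ L) (hx : x ∈ V) {y : F} (e : r a = utS 1 y) : a * x = x * a ↔ y * f x 1 = 0 := by
  obtain ⟨h0, h1⟩ := h.act_ut ha hx e
  rw [← mul_inv_eq_iff_eq_mul]
  refine ⟨fun k => by simpa [k] using h0, fun k => h.inj' (h.cmem ha hx) hx ?_ ?_⟩
  · simp [h0, k]
  · simp [h1]

theorem memZ {x : G} : x ∈ V ⊓ C(T) ↔ x ∈ V ∧ f x 1 = 0 := by
  refine and_congr_right fun hx => ⟨fun k => ?_, fun k t ht => ?_⟩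
  · obtain ⟨t, ht, e⟩ := h.exT 1
    simpa using (h.fix_ut (h.le ht) hx e).1 (k t ht)
  · obtain ⟨y, e⟩ := h.ofT ht
    exact (h.fix_ut (h.le ht) hx e).2 (by rw [k, mul_zero])

theorem ne_zero {s : G} (hs : s ∈ L) (h1 : s ≠ 1) {y : F} (e : r s = utS 1 y) : y ≠ 0 := by
  rintro rfl
  exact h1 (h.rinj _ hs _ (one_mem _) (by rw [e, utS_one, h.r_one]))

theorem cent1 {s : G} (hs : s ∈ T) (h1 : s ≠ 1) : V ⊓ C1(s) = V ⊓ C(T) := by
  ext x
  obtain ⟨y, e⟩ := h.ofT hs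
  rw [h.memZ, mem_inf, mem_cent1]
  refine and_congr_right fun hx => ?_
  rw [h.fix_ut (h.le hs) hx e, mul_eq_zero, or_iff_right (h.ne_zero (h.le hs) h1 e)]

theorem cm {t x : G} (ht : t ∈ L) (hx : x ∈ V) {y : F} (e : r t = utS 1 y) :
    x * t * x⁻¹ * t⁻¹ ∈ V ∧ f (x * t * x⁻¹ * t⁻¹) 0 = -(y * f x 1) ∧ f (x * t * x⁻¹ * t⁻¹) 1 = 0 := by
  obtain ⟨h0, h1⟩ := h.act_ut ht (inv_mem hx) e
  rw [show x * t * x⁻¹ * t⁻¹ = x * (t * x⁻¹ * t⁻¹) by group, h.add _ hx _ (h.cmem ht (inv_mem hx)), Pi.add_apply,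
    Pi.add_apply, h0, h1, h.f_inv hx]
  exact ⟨mul_mem hx (h.cmem ht (inv_mem hx)), by simp, by simp⟩

theorem comm_le : ⁅V, T⁆ ≤ V ⊓ C(T) := commutator_le.2 fun x hx t ht => by
  obtain ⟨y, e⟩ := h.ofT ht
  obtain ⟨h1, -, h2⟩ := h.cm (h.le ht) hx e
  exact h.memZ.2 ⟨h1, h2⟩

theorem le_comm {s : G} (hs : s ∈ T) (h1 : s ≠ 1) : V ⊓ C(T) ≤ ⁅V, zpowers s⁆ := fun z hz => by
  obtain ⟨y, e⟩ := h.ofT hs
  obtain ⟨hz, k⟩ := h.memZ.1 hz
  obtain ⟨x, hx, e'⟩ := h.surj ![0, -(f z 0 / y)]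
  obtain ⟨h2, h3, h4⟩ := h.cm (h.le hs) hx e
  have := h.ne_zero (h.le hs) h1 e
  rw [h.inj' hz h2 (by rw [h3, e']; simp; field_simp) (k.trans h4.symm)]
  exact commutator_mem_commutator hx (mem_zpowers s)

theorem clos {v : G} (hv : v ∈ V) (hc : v ∉ C(T)) : closure {x : G | ∃ t ∈ T, x = v * t * v⁻¹ * t⁻¹} = V ⊓ C(T) := by
  refine le_antisymm ((closure_le _).2 ?_) fun z hz => subset_closure ?_
  · rintro _ ⟨t, ht, rfl⟩
    exact h.comm_le (commutator_mem_commutator hv ht)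
  · have n : f v 1 ≠ 0 := fun k => hc (h.memZ.2 ⟨hv, k⟩).2
    obtain ⟨hz, k⟩ := h.memZ.1 hz
    obtain ⟨t, ht, e⟩ := h.exT (-(f z 0 / f v 1))
    obtain ⟨h2, h3, h4⟩ := h.cm (h.le ht) hv e
    exact ⟨t, ht, h.inj' hz h2 (by rw [h3]; field_simp) (k.trans h4.symm)⟩

theorem cardV : Nat.card V = Fintype.card F ^ 2 := by
  rw [Nat.card_eq_of_bijective (fun x : V => f x) ⟨fun x y e => Subtype.ext (h.inj _ x.2 _ y.2 e), fun u => by
    obtain ⟨x, hx, e⟩ := h.surj u; exact ⟨⟨x, hx⟩, e⟩⟩]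
  simp

theorem cardZ : Nat.card ↥(V ⊓ C(T)) = Fintype.card F := by
  rw [Nat.card_eq_of_bijective (fun x : ↥(V ⊓ C(T)) => f x 0) ⟨fun x y e => Subtype.ext (h.inj' x.2.1 y.2.1 e
    ((h.memZ.1 x.2).2.trans (h.memZ.1 y.2).2.symm)), fun c => by
    obtain ⟨x, hx, e⟩ := h.surj ![c, 0]; exact ⟨⟨x, h.memZ.2 ⟨hx, by simp [e]⟩⟩, by simp [e]⟩⟩]
  simp

theorem mem_norm (p : ℕ) [Fact p.Prime] [CharP F p] {a : G} (ha : a ∈ L) (k : (r a).val 1 0 = 0) : a ∈ N(T) :=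
  mem_normalizer_of_conj_mem fun t ht => by
    have m := h.le ht
    rw [h.mem _ (mul_mem (mul_mem ha m) (inv_mem ha)), h.mul _ (mul_mem ha m) _ (inv_mem ha), h.mul _ ha _ m, h.r_inv ha]
    exact conj_mem_of_mem_normalizer (norm_US (F := F) ▸ mem_BS.2 k) ((h.mem t m).1 ht)

theorem exD (p : ℕ) [Fact p.Prime] [CharP F p] (c : Fˣ) : ∃ a ∈ L ⊓ N(T), r a = utS c 0 := by
  obtain ⟨a, ha, e⟩ := h.rsurj (utS c 0)
  exact ⟨a, ⟨ha, h.mem_norm p ha (by simp [e])⟩, e⟩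

theorem fpf (p : ℕ) [hp : Fact p.Prime] [CharP F p] {a : G} (ha : a ∈ L) (h1 : a ≠ 1) (c : (orderOf a).Coprime p) :
    V ⊓ C1(a) = ⊥ := by
  refine eq_bot_iff.2 fun x hx => by_contra fun n => h1 ?_
  have k := (h.fix ha hx.1).1 (mem_cent1.1 hx.2)
  have n' : f x ≠ 0 := fun e => n (h.inj _ hx.1 _ (one_mem _) (e.trans h.f_one.symm))
  have d : ((r a).val - 1).det = 0 := exists_mulVec_eq_zero_iff.1 ⟨_, n', by rw [sub_mulVec, k, one_mulVec, sub_self]⟩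
  have sq : ((r a).val - 1) ^ 2 = 0 := by
    have d1 : (r a).val.det = 1 := (r a).2
    generalize (r a).val = A at d d1
    rw [det_fin_two] at d d1
    simp only [Matrix.sub_apply, one_apply_eq, ne_eq, zero_ne_one, not_false_eq_true, one_apply_ne, one_ne_zero,
      sub_zero] at d
    ext i j
    fin_cases i <;> fin_cases j <;> simp [sq, mul_apply, Fin.sum_univ_two, one_apply] <;> grind
  have e : (r a).val ^ p = 1 := by
    have := sub_pow_char_of_commute p (Commute.one_right (r a).val)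
    rw [one_pow, pow_eq_zero_of_le hp.out.two_le sq] at this
    exact sub_eq_zero.1 this.symm
  have : a ^ p = 1 := h.rinj _ (pow_mem ha p) _ (one_mem _) (by
    rw [h.r_pow ha, h.r_one]; exact Subtype.ext (by simpa using e))
  exact orderOf_eq_one_iff.1 (c.eq_one_of_dvd (orderOf_dvd_of_pow_eq_one this))

theorem irr1 (p : ℕ) [Fact p.Prime] [CharP F p] {U : Subgroup G} (hU : U ≤ V ⊓ C(T)) (hn : L ⊓ N(T) ≤ N(U)) :
    U = ⊥ ∨ U = V ⊓ C(T) := by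
  refine U.bot_or_exists_ne_one.imp_right fun ⟨u, hu, h1⟩ => le_antisymm hU fun z hz => ?_
  obtain ⟨hv, k⟩ := h.memZ.1 (hU hu)
  obtain ⟨hz, k'⟩ := h.memZ.1 hz
  have n : f u 0 ≠ 0 := fun e => h1 (h.inj' hv (one_mem _) (by simp [e, h.f_one]) (by simp [k, h.f_one]))
  by_cases e : f z 0 = 0
  · rw [h.inj' hz (one_mem _) (by simp [e, h.f_one]) (by simp [k', h.f_one])]; exact one_mem _
  obtain ⟨a, ha, e'⟩ := h.exD p (Units.mk0 _ (div_ne_zero e n))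
  obtain ⟨h2, h3⟩ := h.act_ut ha.1 hv e'
  rw [h.inj' hz (h.cmem ha.1 hv) (by rw [h2]; simp; field_simp) (by rw [h3, k, k', mul_zero])]
  exact conj_mem_of_mem_normalizer (hn ha) hu

theorem irr2 (p : ℕ) [Fact p.Prime] [CharP F p] {U : Subgroup G} (hZ : V ⊓ C(T) ≤ U) (hU : U ≤ V)
    (hn : L ⊓ N(T) ≤ N(U)) : U = V ⊓ C(T) ∨ U = V := by
  refine (em (U ≤ V ⊓ C(T))).imp (fun k => le_antisymm k hZ) fun k => le_antisymm hU fun z hz => ?_
  obtain ⟨u, hu, k⟩ := SetLike.not_le_iff_exists.1 k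
  have n : f u 1 ≠ 0 := fun e => k (h.memZ.2 ⟨hU hu, e⟩)
  by_cases e : f z 1 = 0
  · exact hZ (h.memZ.2 ⟨hz, e⟩)
  obtain ⟨a, ha, e'⟩ := h.exD p (Units.mk0 _ (div_ne_zero n e))
  obtain ⟨-, h3⟩ := h.act_ut ha.1 (hU hu) e'
  have m := conj_mem_of_mem_normalizer (hn ha) hu
  refine (mul_mem_cancel_right (inv_mem m)).1 (hZ (h.memZ.2 ⟨mul_mem hz (inv_mem (hU m)), ?_⟩))
  rw [h.add _ hz _ (inv_mem (hU m)), h.f_inv (hU m), Pi.add_apply, Pi.neg_apply, h3]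
  simp; field_simp; ring

theorem dir (p : ℕ) [Fact p.Prime] [CharP F p] {g : G} (hg : g ∈ L) (hn : g ∉ N(T)) :
    IsInternalDirectProduct (V ⊓ C(T)) (V ⊓ C(cj g T)) V := by
  have e : V ⊓ C(cj g T) = cj g (V ⊓ C(T)) := by
    rw [cj_inf, cj_centralizer, cj_eq_iff_mem_normalizer.2 (h.norm hg)]
  have i : (V ⊓ C(T)) ⊓ (V ⊓ C(cj g T)) = ⊥ := by
    rw [e]
    refine eq_bot_iff.2 ?_
    rintro _ ⟨k, x, hx, rfl⟩
    obtain ⟨hx, k'⟩ := h.memZ.1 hx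
    have := (h.memZ.1 k).2
    change f (g * x * g⁻¹) 1 = 0 at this
    rw [h.act g hg x hx] at this
    simp only [mulVec, dotProduct, Fin.sum_univ_two, k', mul_zero, add_zero, mul_eq_zero] at this
    rw [h.inj' hx (one_mem _) (by simp [this.resolve_left fun c => hn (h.mem_norm p hg c), h.f_one])
      (by simp [k', h.f_one]), map_one]
    exact one_mem _
  refine ⟨inf_le_left, inf_le_left, fun a ha b hb => h.comm ha.1 hb.1, i,
    CfsgH2.eq_of_le_of_card_le (sup_le inf_le_left inf_le_left) ?_⟩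
  rw [card_of_compl (A := V ⊓ C(T)) (B := V ⊓ C(cj g T))
    (fun b hb => centralizer_le_normalizer _ fun a ha => h.comm ha.1 hb.1) i rfl, e, card_cj, h.cardZ,
    h.cardV, sq]

end NS

end CfsgH1.L2
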