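import Cfsg.Agent.H1.Basic
import Cfsg.Agent.H9.Inv
import Cfsg.Agent.H5.OrthMat
import Cfsg.Agent.H5.SpMat

/-! The structure of `O₄⁺(2)`. -/

set_option autoImplicit false
set_option linter.style.haveILetI false

namespace CfsgH1

open Subgroup Cfsg CfsgH2 Matrix

theorem wreath_of {G : Type*} [Group G] [Finite G] (c : Nat.card G = 72) {s u g : G} (hs : s * s = 1) (hu : u * u = 1)
    (h3 : (s * u) ^ 3 = 1) (hn : s * u ≠ 1) (h1 : Commute s (g * s * g⁻¹)) (h2 : Commute s (g * u * g⁻¹))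
    (h4 : Commute u (g * s * g⁻¹)) (h5 : Commute u (g * u * g⁻¹)) : ∃ A B : Subgroup G,
      Nonempty (A ≃* Equiv.Perm (Fin 3)) ∧ Nonempty (B ≃* Equiv.Perm (Fin 3)) ∧ A ⊓ B = ⊥ ∧ (∀ a ∈ A, ∀ b ∈ B, a * b = b * a) ∧
      (A ⊔ B).index = 2 ∧ ∃ g : G, A.map (MulAut.conj g).toMonoidHom = B := by
  haveI : Fact (Nat.Prime 3) := ⟨Nat.prime_three⟩
  have o : orderOf (s * u) = 3 := orderOf_eq_prime h3 hn
  have s1 : s ≠ 1 := fun e => hn (by
    rw [e, one_mul] at h3 ⊢; rwa [pow_succ, pow_two, hu, one_mul] at h3)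
  have k : Idx2 (closure {s * u, s}) (s * u) s (-1) 0 := idx2_closure (by
      rw [_root_.zpow_neg_one, _root_.mul_inv_rev, ← mul_assoc, hs, one_mul, inv_eq_of_mul_eq_one_right hu]) (by simpa using hs)
    fun m => by
      have := orderOf_dvd_of_mem_zpowers m
      rw [o, orderOf_eq_prime (p := 2) (by rw [pow_two, hs]) s1] at this; omega
  obtain ⟨e⟩ := k.dihedral o
  obtain ⟨e'⟩ := CfsgH9.dihedral_three
  have f := e.trans e'
  have cm : ∀ a ∈ closure ({s * u, s} : Set G), ∀ b ∈ (closure {s * u, s}).map (MulAut.conj g).toMonoidHom, a * b = b * a := by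
    rw [MonoidHom.map_closure, Set.image_pair]
    have : closure ({s * u, s} : Set G) ≤ centralizer (closure {MulAut.conj g (s * u), MulAut.conj g s} : Subgroup G) := by
      rw [centralizer_closure, closure_le, map_mul]
      rintro _ (rfl | rfl) _ (rfl | rfl)
      exacts [((h1.mul_right h2).mul_left (h4.mul_right h5)).symm, (h1.mul_left h4).symm, (h1.mul_right h2).symm, h1.symm]
    exact fun a ha b hb => (this ha b hb).symm
  have f' := ((MulAut.conj g).subgroupMap (closure {s * u, s})).symm.trans f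
  have i : closure ({s * u, s} : Set G) ⊓ (closure {s * u, s}).map (MulAut.conj g).toMonoidHom = ⊥ := by
    refine (eq_bot_iff_forall _).2 fun x ⟨a, b⟩ => ?_
    have z : ∀ y : Equiv.Perm (Fin 3), (∀ w, y * w = w * y) → y = 1 := by decide
    refine congrArg Subtype.val ((MulEquiv.map_eq_one_iff f').1 (z (f' ⟨x, b⟩) fun w => ?_))
    obtain ⟨w, rfl⟩ := f'.surjective w
    rw [← map_mul, ← map_mul]; exact congrArg f' (Subtype.ext (cm x a w w.2))
  refine ⟨_, _, ⟨f⟩, ⟨f'⟩, i, cm, ?_, g, rfl⟩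
  have c1 := card_sup_of_disjoint (fun b hb => centralizer_le_normalizer _ fun a ha => cm a ha b hb) (disjoint_iff.2 i)
  have c2 := (closure ({s * u, s} : Set G) ⊔ (closure {s * u, s}).map (MulAut.conj g).toMonoidHom).card_mul_index
  rw [c1, Nat.card_congr f.toEquiv, c] at c2
  erw [Nat.card_congr f'.toEquiv] at c2
  rw [Nat.card_perm, Nat.card_fin] at c2
  norm_num [Nat.factorial] at c2; omega

abbrev O42 := isometryGroup (ZMod 2) (quadFormPlus 2 (ZMod 2))

def mkO (M : Matrix (Fin 2 ⊕ Fin 2) (Fin 2 ⊕ Fin 2) (ZMod 2)) (h : M * M = 1)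
    (k : ∀ v, quadFormPlus 2 (ZMod 2) (M *ᵥ v) = quadFormPlus 2 (ZMod 2) v) : O42 := ⟨⟨M, M, h, h⟩, fun u _ => k u⟩

def oS : O42 := mkO (fromBlocks 0 !![0, 1; 1, 0] !![0, 1; 1, 0] 0) (by decide +kernel) (by unfold quadFormPlus; decide +kernel)
def oU : O42 := mkO (fromBlocks 1 !![0, 1; 1, 0] 0 1) (by decide +kernel) (by unfold quadFormPlus; decide +kernel)
def oG : O42 := mkO (fromBlocks !![1, 0; 0, 0] !![0, 0; 0, 1] !![0, 0; 0, 1] !![1, 0; 0, 0]) (by decide +kernel)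
  (by unfold quadFormPlus; decide +kernel)

theorem o_ext {a b : O42} : a = b ↔ a.1.val = b.1.val := ⟨fun e => e ▸ rfl, fun e => Subtype.ext (Units.ext e)⟩

theorem card_O42 : Nat.card O42 = 72 := by
  rw [CfsgH5.card_isometryGroup (CfsgH5.plusForm_Q 2), (CfsgH5.plusForm_nondeg 2).orth_card_plus (CfsgH5.plusForm_isPlus 2)
    (m := 2) (by decide) (CfsgH5.finrank_sp 2), Nat.card_zmod]; rfl

theorem o42 : ∃ A B : Subgroup O42,
      Nonempty (A ≃* Equiv.Perm (Fin 3)) ∧ Nonempty (B ≃* Equiv.Perm (Fin 3)) ∧ A ⊓ B = ⊥ ∧ (∀ a ∈ A, ∀ b ∈ B, a * b = b * a) ∧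
      (A ⊔ B).index = 2 ∧ ∃ g : O42, A.map (MulAut.conj g).toMonoidHom = B := by
  haveI : Finite O42 := Nat.finite_of_card_ne_zero (by rw [card_O42]; norm_num)
  exact wreath_of card_O42 (s := oS) (u := oU) (g := oG) (o_ext.2 (by decide +kernel)) (o_ext.2 (by decide +kernel))
    (by rw [pow_succ, pow_two]; exact o_ext.2 (by decide +kernel)) (mt o_ext.1 (by decide +kernel))
    (o_ext.2 (by decide +kernel)) (o_ext.2 (by decide +kernel)) (o_ext.2 (by decide +kernel)) (o_ext.2 (by decide +kernel))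

end CfsgH1
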