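import Cfsg.Agent.H1.GL2s
import Cfsg.Agent.H8.Perm2

namespace CfsgH1.L2
open Matrix Projectivization

variable {F : Type*} [Field F]

theorem pmk_eq {u v : Fin 2 → F} (hu : u ≠ 0) (hv : v ≠ 0) : mk F u hu = mk F v hv ↔ u 0 * v 1 - u 1 * v 0 = 0 := by
  rw [mk_eq_mk_iff']
  refine ⟨fun ⟨a, h⟩ => by simp [← h]; ring, fun h => ?_⟩
  by_cases h0 : v 0 = 0
  · have h1 : v 1 ≠ 0 := fun h1 => hv (by ext i; fin_cases i <;> simpa)
    refine ⟨u 1 / v 1, ?_⟩
    ext i; fin_cases i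
    · simp [h0, h1] at h ⊢; exact h.symm
    · simp [h1]
  · refine ⟨u 0 / v 0, ?_⟩
    ext i; fin_cases i
    · simp [h0]
    · simp; field_simp; linear_combination h

def p0 (F : Type*) [Field F] : Projectivization F (Fin 2 → F) := mk F ![1, 0] (by simp)
def p1 (F : Type*) [Field F] : Projectivization F (Fin 2 → F) := mk F ![0, 1] (by simp)
def p2 (F : Type*) [Field F] : Projectivization F (Fin 2 → F) := mk F ![1, 1] (by simp)

theorem gsmul (g : G2 F) (v : Fin 2 → F) (i : Fin 2) : (g • v) i = g.val i 0 * v 0 + g.val i 1 * v 1 := by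
  change (g.val *ᵥ v) i = _
  simp [mulVec, dotProduct]

theorem frame {a b c : Projectivization F (Fin 2 → F)} (h1 : a ≠ b) (h2 : a ≠ c) (h3 : b ≠ c) :
    ∃ g : G2 F, g • p0 F = a ∧ g • p1 F = b ∧ g • p2 F = c := by
  induction a using Projectivization.ind with | _ u hu =>
  induction b using Projectivization.ind with | _ v hv =>
  induction c using Projectivization.ind with | _ w hw =>
  rw [Ne, pmk_eq] at h1 h2 h3
  refine ⟨GeneralLinearGroup.mkOfDetNeZero !![(v 0 * w 1 - v 1 * w 0) * u 0, -(u 0 * w 1 - u 1 * w 0) * v 0;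
    (v 0 * w 1 - v 1 * w 0) * u 1, -(u 0 * w 1 - u 1 * w 0) * v 1] ?_, ?_, ?_, ?_⟩
  · rw [det_fin_two_of]
    convert neg_ne_zero.2 (mul_ne_zero (mul_ne_zero h1 h2) h3) using 1; ring
  all_goals simp only [p0, p1, p2, smul_mk, pmk_eq, gsmul]; simp; ring

theorem fix3 {g : G2 F} (h0 : g • p0 F = p0 F) (h1 : g • p1 F = p1 F) (h2 : g • p2 F = p2 F) : Sc g.val := by
  simp only [p0, p1, p2, smul_mk, pmk_eq, gsmul] at h0 h1 h2
  simp at h0 h1 h2
  exact ⟨h1, h0, by rw [h0, h1] at h2; linear_combination h2⟩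

end CfsgH1.L2
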