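import Cfsg.Agent.H1.PSL2c
import Cfsg.Agent.H4.Reg2
import Cfsg.Agent.H4.Vanish
import Cfsg.Prelude.Def_DegreeGraph

/-! Characters of `PSL₂(q)`. -/

set_option autoImplicit false
set_option linter.style.haveILetI false
set_option linter.unusedSectionVars false

namespace CfsgH1.L2

open Matrix Subgroup Cfsg CfsgH2 CfsgH3
open Matrix.SpecialLinearGroup (toGL)

local notation "C1(" x ")" => Subgroup.centralizer (Singleton.singleton x : Set _)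

theorem exists_sq_char {A : Type*} [Group A] [Finite A] (hA : IsCyclic A) (h : ¬ Nat.card A ∣ 4) :
    ∃ θ : A →* ℂˣ, θ ≠ θ⁻¹ ∧ ∀ z, z * z = 1 → θ z = 1 := by
  letI := hA.commGroup
  obtain ⟨a, ha⟩ := IsCyclic.exists_ofOrder_eq_natCard (α := A)
  obtain ⟨θ, k⟩ := CommGroup.exists_apply_ne_one_of_hasEnoughRootsOfUnity A ℂ (a := a ^ 4)
    fun k => h (ha ▸ orderOf_dvd_of_pow_eq_one k)
  refine ⟨θ * θ, ne_inv_iff.2 ⟨a, ?_⟩, fun z hz => ?_⟩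
  · rwa [MonoidHom.mul_apply, ← sq, ← pow_mul, ← map_pow]
  · rw [MonoidHom.mul_apply, ← map_mul, hz, map_one]

theorem cd_equiv {G H : Type*} [Group G] [Group H] (e : G ≃* H) : charDegrees G = charDegrees H :=
  Set.ext fun _ => ⟨fun ⟨χ, h⟩ => ⟨⟨_, χ.2.comp_equiv e.symm⟩, by simpa [charDegree] using h⟩,
    fun ⟨χ, h⟩ => ⟨⟨_, χ.2.comp_equiv e⟩, by simpa [charDegree] using h⟩⟩

variable {F : Type*} [Field F] [Fintype F] [DecidableEq F]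

local notation "q" => Fintype.card F

theorem exists_P2 {χ : S2 F → ℂ} (h : IsIrrCharacter _ χ) (k : χ (-1) = χ 1) :
    ∃ ψ : P2 F → ℂ, IsIrrCharacter _ ψ ∧ ∀ g, ψ (pr g) = χ g := by
  obtain ⟨ψ, e⟩ := CfsgH4.exists_infl (N := center (S2 F)) (χ := ⟨χ, h⟩) fun n hn => by
    rcases scS.1 (mem_centerS.1 hn) with rfl | rfl
    exacts [rfl, k]
  exact ⟨ψ.1, ψ.2, fun g => congrFun (congrArg Subtype.val e) g⟩

theorem irr_pr {ψ : P2 F → ℂ} (h : IsIrrCharacter _ ψ) : IsIrrCharacter (S2 F) fun g => ψ (pr g) :=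
  h.inflate

theorem exists_St : ∃ ψ : P2 F → ℂ, IsIrrCharacter _ ψ ∧ ∀ g, ψ (pr g) = St F g :=
  exists_P2 St_irr (by rw [St_one, St_sc (scS.2 (.inr rfl))])

theorem exists_DD (h4 : 4 ≤ q) {w : S2 F} (hw : Ell w.val) : ∃ θ : C1(w) →* ℂˣ,
    (∀ z, z * z = 1 → θ z = 1) ∧ ∃ ψ : P2 F → ℂ, IsIrrCharacter _ ψ ∧ ∀ g, ψ (pr g) = DD hw θ g := by
  obtain ⟨θ, h1, h2⟩ := exists_sq_char hw.isCyclicS (fun k => by
    have := Nat.le_of_dvd four_pos k; rw [hw.card_centS] at this; omega)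
  refine ⟨θ, h2, exists_P2 (DD_irr hw h1) ?_⟩
  rw [DD_one, show (-1 : S2 F) = (⟨-1, neg_mem_cent w⟩ : C1(w)) from rfl, DD_sc hw θ (scS.2 (.inr rfl)),
    h2 _ (Subtype.ext (by simp))]
  simp

theorem exists_RS (h : ¬ q - 1 ∣ 4) : ∃ α : Fˣ →* ℂˣ,
    ∃ ψ : P2 F → ℂ, IsIrrCharacter _ ψ ∧ ∀ g, ψ (pr g) = RS α g := by
  obtain ⟨θ, h1, h2⟩ := exists_sq_char (A := Fˣ) inferInstance (by rwa [card_units'])
  refine ⟨θ, exists_P2 (RS_irr_iff.2 h1) ?_⟩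
  rw [RS_one, show (-1 : S2 F) = utS (-1) 0 from sext.2 (m2_ext (by simp) (by simp) (by simp) (by simp)),
    RS_sc _ (by simp), h2 _ (by simp)]
  simp

theorem deg_cases {χ : S2 F → ℂ} (h : IsIrrCharacter _ χ) :
    (charDegree χ = q ∧ χ = St F) ∨ charDegree χ ∣ q + 1 ∨ charDegree χ ∣ q - 1 := by
  obtain ⟨n, -, e⟩ := h.exists_deg
  obtain ⟨w, hw⟩ := exists_ellS (F := F)
  rw [CfsgH4.charDegree_eq e]
  rcases irrS_deg hw h e with k | k | k | k | k | k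
  · exact .inr (.inl (by rw [k.1]; exact one_dvd _))
  · exact .inl k
  · exact .inr (.inl k.1.dvd)
  · exact .inr (.inr (dvd_of_eq (by omega)))
  · exact .inr (.inl ⟨2, by omega⟩)
  · exact .inr (.inr ⟨2, by omega⟩)

theorem cd_P2_le : charDegrees (P2 F) ⊆ charDegrees (S2 F) := fun _ ⟨χ, h⟩ => ⟨⟨_, irr_pr χ.2⟩, h⟩

theorem cd_facts (h4 : 4 ≤ q) (h : ¬ q - 1 ∣ 4) {S : Type*} [Group S]
    (hS : Nonempty (S ≃* P2 F) ∨ Nonempty (S ≃* S2 F)) :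
    (∀ n ∈ charDegrees S, n = q ∨ n ∣ q + 1 ∨ n ∣ q - 1) ∧ q ∈ charDegrees S ∧
      q + 1 ∈ charDegrees S ∧ q - 1 ∈ charDegrees S := by
  have a : ∀ n ∈ charDegrees (S2 F), n = q ∨ n ∣ q + 1 ∨ n ∣ q - 1 := by
    rintro _ ⟨χ, rfl⟩; exact (deg_cases χ.2).imp_left And.left
  have b : q ∈ charDegrees (P2 F) ∧ q + 1 ∈ charDegrees (P2 F) ∧ q - 1 ∈ charDegrees (P2 F) := by
    obtain ⟨χ, h1, e1⟩ := exists_St (F := F)
    obtain ⟨_, ψ, h2, e2⟩ := exists_RS h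
    obtain ⟨w, hw⟩ := exists_ellS (F := F)
    obtain ⟨_, -, φ, h3, e3⟩ := exists_DD h4 hw
    exact ⟨⟨⟨χ, h1⟩, CfsgH4.charDegree_eq ((e1 1).trans St_one)⟩, ⟨⟨ψ, h2⟩, CfsgH4.charDegree_eq
      ((e2 1).trans (by rw [RS_one]; simp))⟩, ⟨φ, h3⟩, CfsgH4.charDegree_eq
      ((e3 1).trans (by rw [DD_one, Nat.cast_sub (by omega)]; simp))⟩
  rcases hS with ⟨⟨e⟩⟩ | ⟨⟨e⟩⟩ <;> rw [cd_equiv e]
  exacts [⟨fun n hn => a n (cd_P2_le hn), b⟩, ⟨a, cd_P2_le b.1, cd_P2_le b.2.1, cd_P2_le b.2.2⟩]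

theorem deg_graph (h4 : 4 ≤ q) (h : ¬ q - 1 ∣ 4) {S : Type*} [Group S]
    (hS : Nonempty (S ≃* P2 F) ∨ Nonempty (S ≃* S2 F)) :
    degreePrimes S = {r : ℕ | r.Prime ∧ r ∣ q * (q ^ 2 - 1)} ∧ ∀ r s : ℕ, (degreeGraph S).Adj r s ↔
      (r ≠ s ∧ r.Prime ∧ s.Prime ∧ ((r ∣ q + 1 ∧ s ∣ q + 1) ∨ (r ∣ q - 1 ∧ s ∣ q - 1))) := by
  obtain ⟨a, b, c, e⟩ := cd_facts h4 h hS
  refine ⟨Set.ext fun r => and_congr_right fun hr => ?_, fun r s => and_congr_right fun n =>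
    and_congr_right fun hr => and_congr_right fun hs => ⟨?_, ?_⟩⟩
  · rw [q_sq_sub, hr.dvd_mul, hr.dvd_mul]
    refine ⟨fun ⟨n, hn, k⟩ => (a n hn).imp (fun e => by rwa [← e]) (.imp k.trans k.trans), ?_⟩
    rintro (k | k | k)
    exacts [⟨_, b, k⟩, ⟨_, c, k⟩, ⟨_, e, k⟩]
  · rintro ⟨m, hm, k⟩
    have k1 := (Nat.dvd_mul_right r s).trans k
    have k2 := (Nat.dvd_mul_left s r).trans k
    rcases a m hm with rfl | k' | k'
    · obtain ⟨p, hp⟩ := CharP.exists F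
      obtain ⟨l, h1, h2⟩ := FiniteField.card F p
      rw [h2] at k1 k2
      exact (n (((Nat.prime_dvd_prime_iff_eq hr h1).1 (hr.dvd_of_dvd_pow k1)).trans
        ((Nat.prime_dvd_prime_iff_eq hs h1).1 (hs.dvd_of_dvd_pow k2)).symm)).elim
    exacts [.inl ⟨k1.trans k', k2.trans k'⟩, .inr ⟨k1.trans k', k2.trans k'⟩]
  · have := (Nat.coprime_primes hr hs).2 n
    rintro (k | k)
    exacts [⟨_, c, this.mul_dvd_of_dvd_of_dvd k.1 k.2⟩, ⟨_, e, this.mul_dvd_of_dvd_of_dvd k.1 k.2⟩]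

theorem norm_DD_le {w : S2 F} (hw : Ell w.val) (θ : C1(w) →* ℂˣ) {g : S2 F} (hg : ¬ Sc g.val) :
    ‖DD hw θ g‖ ≤ 2 := by
  have n : ∀ z, ‖(θ z : ℂ)‖ = 1 := fun z => Complex.norm_eq_one_of_pow_eq_one (n := orderOf z)
    (by rw [← Units.val_pow_eq_pow_val, ← map_pow, pow_orderOf_eq_one, map_one, Units.val_one])
    (orderOf_pos z).ne'
  rcases cases2 (toGL g : G2 F) with k | k | ⟨x, y, k1, k⟩ | ⟨x, k, -⟩
  · exact (hg k).elim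
  · obtain ⟨z, h1, h2, e⟩ := hw.exists_memS k
    obtain ⟨c, e⟩ := isConj_iff.1 e.symm
    rw [← e, (DD_gen hw θ).classFun, show z = (⟨z, h1⟩ : C1(w)) from rfl, DD_ell hw θ h2,
      norm_neg, ← map_inv]
    exact (norm_add_le _ _).trans (by rw [n, n]; norm_num)
  · simp [DD_spl hw θ k k1]
  · simp [DD_jor hw θ k hg, n]

end CfsgH1.L2
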