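import Cfsg.Agent.H1.Dk2
import Cfsg.Agent.H4.Deg2

/-! Finite subgroups of `PGL₂(ℂ)` and primitive characters of degree two. -/

set_option autoImplicit false
set_option linter.style.haveILetI false
set_option linter.unusedSectionVars false

namespace CfsgH1.L2

open Matrix Subgroup Cfsg CfsgH3 CfsgH9 MulAction OnePoint

section
variable {K : Type*} [Field K] [DecidableEq K] [IsAlgClosed K] [CharZero K]
  {M : Subgroup (Equiv.Perm (OnePoint K))} [Finite M]

theorem aff_one {g : M} {c : Equiv.Perm (OnePoint K)} {a b : K} (h : IsAff (c⁻¹ * g.1 * c) a b) (ha : a = 1) : g = 1 := by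
  subst ha
  have k := h.pow_one' (orderOf g)
  have e := conj_pow (a := c⁻¹) (b := (g : Equiv.Perm (OnePoint K))) (i := orderOf g)
  rw [inv_inv, ← coe_pow, pow_orderOf_eq_one, coe_one, mul_one, inv_mul_cancel] at e
  rw [e] at k
  obtain rfl : b = 0 := (mul_eq_zero.1 (k.unique IsAff.one).2).resolve_left (Nat.cast_ne_zero.2 (orderOf_pos g).ne')
  exact Subtype.ext (by simpa [mul_eq_one_iff_eq_inv] using h.ext IsAff.one)

theorem cyc_stab0 (hM : M ≤ (mob (K := K)).range) (x : OnePoint K) : IsCyclic (stabilizer M x) := by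
  obtain ⟨c, -, k⟩ := exists_conj_aff x
  choose a b hab using fun g : stabilizer M x => k _ (hM g.1.2) g.2
  let f : stabilizer M x →* K := ⟨⟨a, ((hab 1).unique (by simpa using IsAff.one)).1⟩, fun g g' =>
    ((hab (g * g')).unique (by simpa [mul_assoc] using (hab g).mul (hab g'))).1⟩
  exact isCyclic_of_injective_ringHom f ((injective_iff_map_eq_one _).2 fun g e => Subtype.ext
    (aff_one (hab g) e))

theorem geo0 (hM : M ≤ (mob (K := K)).range) : Geo 1 M (OnePoint K) := by
  refine ⟨fun g a b => (a (by simpa using b)).elim, fun g k => ?_, fun x g h _ _ a b => by simp_all, fun x g h a b => ?_⟩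
  · obtain ⟨m, hm⟩ := hM g.2
    obtain ⟨x, hx⟩ := exists_fix m
    obtain ⟨c, hc, H⟩ := exists_conj_aff x
    obtain ⟨a, b, hab⟩ := H g (hM g.2) (hm ▸ hx)
    have ha : a ≠ 1 := fun e => k (by rw [pow_one, aff_one hab e])
    refine ⟨c ∞, c (b / (1 - a) : K), by simp, fun z => ?_⟩
    have := hab.fix2 ha (c⁻¹ z)
    change g.1 z = z ↔ _
    simpa [Equiv.symm_apply_eq] using this
  · haveI := cyc_stab0 hM x
    have : g * h = h * g := congrArg Subtype.val (mul_comm' (⟨g, a⟩ : stabilizer M x) ⟨h, b⟩)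
    rw [pow_one, this]; group

theorem mob_eq_one {g : G2 K} : mob g = 1 ↔ Sc g.val := by
  refine ⟨fun h => ?_, fun h => ?_⟩
  · have a : g • (∞ : OnePoint K) = ∞ := congrFun (congrArg (↑) h) ∞
    have b := isAff_mob a
    rw [h] at b
    obtain ⟨b, c⟩ := b.unique IsAff.one
    have a := smul_infty_eq_self_iff.1 a
    exact ⟨(div_eq_zero_iff.1 c).resolve_right (ne_of_ut a).2, a, eq_of_div_eq_one b⟩
  · have := isAff_mob (smul_infty_eq_self_iff.2 h.2.1)
    rw [show g 0 1 = 0 from h.1, show g 0 0 = g 1 1 from h.2.2, zero_div, div_self (ne_of_ut h.2.1).2] at this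
    exact this.ext IsAff.one

end

theorem prim2 {G : Type*} [Group G] [Fintype G] {χ : G → ℂ} (hχ : IsIrrCharacter G χ) (hf : ∀ g, χ g = χ 1 → g = 1)
    (h2 : charDegree χ = 2) (hp : ∀ H : Subgroup G, H ≠ ⊤ → ∀ θ : H → ℂ, IsCharacter H θ → χ ≠ indFun H θ) :
    (center G).index = 12 ∨ (center G).index = 24 ∨ (center G).index = 60 := by
  classical
  have d : χ 1 = 2 := by rw [← CfsgH4.coe_charDegree hχ.isChar, h2]; rfl
  have ab : ∀ A : Subgroup G, (∀ a ∈ A, ∀ b ∈ A, a * b = b * a) → 2 < A.index := fun A h => by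
    have := CfsgH4.deg_le_index_of_comm hχ h
    refine lt_of_le_of_ne (h2 ▸ this) fun e => ?_
    obtain ⟨θ, hθ, hc⟩ := hχ.exists_res_constituent A
    have h1 : θ 1 = 1 := hθ.deg_one_of_comm fun a b => Subtype.ext (h a a.2 b b.2)
    rw [Ne, CfsgH3.inner_eq_zero_symm, ← CfsgH3.inner_indFun_left _ _ hχ.classFun] at hc
    exact hp A (fun t => by simp [t] at e) θ hθ.isChar (hθ.isChar.ind.eq_of_constituent_of_deg_eq hχ hc (by
      rw [CfsgH3.indFun_one, h1, d, ← e]; simp)).symm
  have hc : ∀ g ∈ center G, ‖χ g‖ = ‖χ 1‖ := fun g m => hχ.center_le_cent m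
  obtain ⟨n, ρ, -, rfl⟩ := hχ
  obtain rfl : n = 2 := by simp at d; exact_mod_cast d
  let φ : G →* G2 ℂ := ((LinearMap.toMatrixAlgEquiv' (R := ℂ) (n := Fin 2)).toMulEquiv.toMonoidHom.comp ρ).toHomUnits
  have inj : Function.Injective φ := (injective_iff_map_eq_one _).2 fun g e => hf g (by
    have : ρ g = 1 := LinearMap.toMatrixAlgEquiv'.injective ((congrArg Units.val e).trans (map_one _).symm)
    simp [Representation.character, this])
  let ψ := (mob (K := ℂ)).comp φ
  have ker : ψ.ker = center G := Subgroup.ext fun g => by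
    rw [MonoidHom.mem_ker, MonoidHom.comp_apply, mob_eq_one]
    refine ⟨fun s => mem_center_iff.2 fun h => inj (by rw [map_mul, map_mul]; exact Units.ext (s.comm _).symm), fun m => ?_⟩
    obtain ⟨ω, -, e⟩ := CfsgH3.rep_scalar_of_norm_eq ρ (g := g) (by simpa using hc g m)
    exact sc_iff.2 ⟨ω, show LinearMap.toMatrixAlgEquiv' (ρ g) = _ by rw [e]; simp⟩
  have hM : ψ.range ≤ (mob (K := ℂ)).range := by rintro _ ⟨g, rfl⟩; exact ⟨_, rfl⟩
  haveI : Finite ψ.range := Finite.of_surjective _ ψ.rangeRestrict_surjective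
  have cd : Nat.card ψ.range = (center G).index := by rw [← ker, index_ker]
  haveI : Nontrivial ψ.range := Finite.one_lt_card_iff_nontrivial.1 (by
    have := ab (center G) fun a m b _ => (mem_center_iff.1 m b).symm; omega)
  rw [← cd]
  refine (geo_caseA (geo0 hM) (fun g => by simp) (cyc_stab0 hM)).resolve_left fun ⟨C, c1, _, c2⟩ => ?_
  have := ab (C.comap ψ.rangeRestrict) fun a ha b hb => congrArg Subtype.val
    (((ψ.rangeRestrict.subgroupComap C).isMulCommutative_of_isCyclic_of_ker_le_center fun z m => mem_center_iff.2 fun y =>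
      Subtype.ext (mem_center_iff.1 (ker.le (congrArg (fun u => u.1.1) m)) y.1)).is_comm.comm ⟨a, ha⟩ ⟨b, hb⟩)
  rw [index_comap_of_surjective _ ψ.rangeRestrict_surjective] at this
  omega

end CfsgH1.L2
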