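import Cfsg.Agent.H1.Subn
import Cfsg.Prelude.Def_HallClasses

/-! Pronormal subgroups; overgroups of Sylow subgroups. -/

set_option autoImplicit false
set_option linter.style.haveILetI false
set_option linter.unusedSectionVars false

namespace CfsgH1
open Subgroup Cfsg CfsgFT CfsgH2

variable {G : Type*} [Group G] {p : ℕ}

theorem map_cj1 {X : Type*} [Group X] (f : G →* X) (g : G) (A : Subgroup G) :
    (cj g A).map f = cj (f g) (A.map f) := map_conj_smul f g A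

def Prn (H : Subgroup G) (g : G) : Prop := ∃ x ∈ H ⊔ cj g H, cj g H = cj x H

theorem Prn.map {X : Type*} [Group X] (f : G →* X) {K : Subgroup G} {g : G} (h : Prn K g) : Prn (K.map f) (f g) := by
  obtain ⟨x, hx, e⟩ := h
  exact ⟨f x, by rw [← map_cj1, ← Subgroup.map_sup]; exact mem_map_of_mem f hx, by rw [← map_cj1, e, map_cj1]⟩

theorem Prn.of_map {X : Type*} [Group X] (f : G →* X) {K : Subgroup G} {g : G} (hk : f.ker ≤ K)
    (h : Prn (K.map f) (f g)) : Prn K g := by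
  obtain ⟨x, hx, e⟩ := h
  rw [← map_cj1, ← Subgroup.map_sup] at hx
  obtain ⟨x, hx, rfl⟩ := hx
  have l : ∀ y, f.ker ≤ cj y K := fun y => (cj_eq_of_normal y f.ker).ge.trans (cj_mono y hk)
  rw [← map_cj1, ← map_cj1] at e
  exact ⟨x, hx, map_injective_of_ker_le f (l g) (l x) e⟩

theorem Prn.congr {K : Subgroup G} {g g' : G} (h : Prn K g') (e : cj g K = cj g' K) : Prn K g := by
  unfold Prn at *; rwa [e]

theorem Prn.mul {K : Subgroup G} {g z : G} (hz : z ∈ K ⊔ cj g K) (h : Prn K (z⁻¹ * g)) : Prn K g := by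
  obtain ⟨w, hw, e⟩ := h
  refine ⟨z * w, mul_mem hz ((sup_le le_sup_left ?_ : _ ≤ K ⊔ cj g K) hw), ?_⟩
  · rw [← cj_cj]; exact cj_le_of_mem (inv_mem hz) le_sup_right
  · rw [← cj_cj, ← e, cj_cj, mul_inv_cancel_left]

theorem Prn.norm {K : Subgroup G} {g : G} (h : Prn K g) : ∃ x ∈ K ⊔ cj g K, x⁻¹ * g ∈ N(K) := by
  obtain ⟨x, hx, e⟩ := h
  exact ⟨x, hx, mem_norm_iff_cj.2 (by rw [← cj_cj, e, cj_inv_cj])⟩

abbrev YP (p : ℕ) (G : Type*) [Group G] : Prop :=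
  ∀ K : Subgroup G, (∃ P : Sylow p G, (P : Subgroup G) ≤ K) → IsPronormal K

def Yp (p : ℕ) (L : Subgroup G) : Prop := ∀ S K, IsSylowIn p S L → S ≤ K → K ≤ L → ∀ g ∈ L, Prn K g

variable [Finite G] [Fact p.Prime]

theorem yp_iff {L : Subgroup G} : YP p L ↔ Yp p L := by
  refine ⟨fun h S K hS h1 h2 g hg => ?_, fun h K ⟨P, hP⟩ g => ?_⟩
  · have := Prn.map L.subtype (h (K.subgroupOf L) ⟨hS.toSylow, hS.toSylow_coe ▸ comap_mono h1⟩ ⟨g, hg⟩)
    rwa [map_subgroupOf_eq_of_le h2] at this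
  · exact Prn.of_map L.subtype (by simp) (h _ _ (.of_sylow_map P) (map_mono hP) (map_subtype_le _) g g.2)

theorem yp_top : YP p G ↔ Yp p (⊤ : Subgroup G) :=
  ⟨fun h _ K hS h1 _ g _ => hS.of_top.elim fun P e => h K ⟨P, e ▸ h1⟩ g,
    fun h _ ⟨P, hP⟩ g => h _ _ (.of_sylow_top P) hP le_top g trivial⟩

theorem Yp.cj {L : Subgroup G} (h : Yp p L) (c : G) : Yp p (cj c L) := fun S K hS h1 h2 g hg => by
  have := (h _ _ (cj_inv_cj c L ▸ hS.cj c⁻¹) (cj_mono c⁻¹ h1) (cj_le_iff_le_cj_inv.2 (by rwa [inv_inv])) _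
    (mem_cj.1 hg)).map (MulAut.conj c).toMonoidHom
  rw [cj_def, cj_cj_inv] at this
  convert this using 1
  simp [mul_assoc]

theorem Yp.sub {L M S : Subgroup G} (h : Yp p L) (hS : IsSylowIn p S L) (h1 : S ≤ M) (h2 : M ≤ L) : Yp p M :=
  fun T K hT k1 k2 g hg => h T K (hT.trans_of_not_dvd h2 (hS.not_dvd_of_le h1 h2)) k1 (k2.trans h2) g (h2 hg)

theorem YP.map {X : Type*} [Group X] [Finite X] (f : G →* X) (hf : Function.Surjective f) (h : YP p G) : YP p X := by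
  rintro K ⟨P, hP⟩ g
  obtain ⟨g, rfl⟩ := hf g
  obtain ⟨Q⟩ : Nonempty (Sylow p G) := inferInstance
  have h1 := (IsSylowIn.of_sylow_top Q).map f
  rw [map_top_of_surjective f hf] at h1
  obtain ⟨c, -, e⟩ := h1.exists_cj_eq (.of_sylow_top P)
  obtain ⟨c, rfl⟩ := hf c
  have := Prn.map f (h (K.comap f) ⟨c • Q, map_le_iff_le_comap.1 (by rwa [sylow_smul_coe, map_cj1, e])⟩ g)
  rwa [map_comap_eq_self_of_surjective hf] at this

theorem YP.of_map {X : Type*} [Group X] [Finite X] (f : G →* X) (hf : Function.Surjective f) (hk : IsPGroup p f.ker)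
    (h : YP p X) : YP p G := by
  rintro K ⟨P, hP⟩ g
  have h1 := (IsSylowIn.of_sylow_top P).map f
  rw [map_top_of_surjective f hf] at h1
  exact Prn.of_map f (((IsSylowIn.of_sylow_top P).le_of_normalizer hk le_top (normalizer_eq_top _).ge).trans hP)
    (yp_top.1 h _ _ h1 (map_mono hP) le_top _ trivial)

theorem yp_quot {T : Subgroup G} (hT : IsPGroup p T) [(T.subgroupOf N(T)).Normal] :
    YP p (N(T) ⧸ T.subgroupOf N(T)) ↔ Yp p N(T) :=
  ⟨fun h => yp_iff.1 (h.of_map (QuotientGroup.mk' _) (QuotientGroup.mk'_surjective _)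
    (by rw [QuotientGroup.ker_mk']; exact hT.comap_subtype)),
    fun h => (yp_iff.2 h).map _ (QuotientGroup.mk'_surjective _)⟩

theorem prn_core {A T K P : Subgroup G} [A.Normal] (hA : Yp p A) (hT : IsSylowIn p T A) (hN : Yp p N(T))
    (hP : IsSylowIn p P ⊤) (hK : P ≤ K) {a : G} (ha : a ∈ A) : Prn K a := by
  have nA : ∀ X : Subgroup G, X ≤ N(A) := fun X => le_top.trans (normalizer_eq_top A).ge
  have h1 := hP.inf_of_normalizer' le_top (nA _)
  obtain ⟨c, -, e⟩ := hT.exists_cj_eq h1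
  replace hN := hN.cj c
  rw [cj_normalizer, e] at hN
  have l : P ⊓ A ≤ K ⊓ A := inf_le_inf_right _ hK
  obtain ⟨y, hy, e'⟩ := (hA _ _ h1 l inf_le_right a ha).norm
  have h2 := h1.mono l inf_le_right
  obtain ⟨u, hu, hn⟩ := h2.frattini e'
  have kU : K ≤ N(K ⊓ A) := le_normalizer_inf le_normalizer (nA _)
  have pT : P ≤ N(P ⊓ A) := le_normalizer_inf le_normalizer (nA _)
  have nU := mul_mem (kU hu.1) e'
  have eK : K = (K ⊓ A) ⊔ (K ⊓ N(P ⊓ A)) := le_antisymm (fun k hk => by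
    obtain ⟨v, hv, h⟩ := h2.frattini (kU hk)
    simpa using mul_mem (mem_sup_left (inv_mem hv)) (mem_sup_right (S := K ⊓ A) (T := K ⊓ N(P ⊓ A)) ⟨mul_mem hv.1 hk, h⟩))
    (sup_le inf_le_left inf_le_left)
  obtain ⟨w, hw, e2⟩ := hN _ _ (hP.mono pT le_top) (le_inf hK pT) inf_le_right _ hn
  have wU : w ∈ N(K ⊓ A) := (sup_le (inf_le_left.trans kU) (cj_le_of_mem nU (inf_le_left.trans kU)) : _ ≤ N(K ⊓ A)) hw
  refine Prn.mul (z := y * u⁻¹) (mul_mem (sup_le_sup inf_le_left (cj_mono _ inf_le_left) hy) (mem_sup_left (inv_mem hu.1))) ?_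
  rw [mul_inv_rev, inv_inv, mul_assoc]
  refine ⟨w, sup_le_sup inf_le_left (cj_mono _ inf_le_left) hw, ?_⟩
  rw [eK, cj_sup, cj_sup, cj_eq_of_norm nU, cj_eq_of_norm wU, e2]

theorem prn_ext {A T : Subgroup G} [A.Normal] (hA : YP p A) (hQ : YP p (G ⧸ A)) (hT : IsSylowIn p T A) :
    YP p G ↔ (Yp p N(T) ∧ ∀ K : Subgroup G, (∃ P : Sylow p G, (P : Subgroup G) ≤ K) →
      N(K).map (QuotientGroup.mk' A) = N(K.map (QuotientGroup.mk' A))) := by
  refine ⟨fun h => ⟨?_, fun K hK => le_antisymm (le_normalizer_map _) fun g hg => ?_⟩, fun ⟨h1, h2⟩ K ⟨P, hP⟩ g => ?_⟩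
  · obtain ⟨S, hS, l⟩ := IsSylowIn.exists_le hT.pgroup le_top
    have := (hS.inf_of_normalizer' le_top (normalizer_eq_top A).ge)
    rw [hT.eq_of_le this.pgroup (le_inf l hT.le) this.le |>.symm]
    exact (yp_top.1 h).sub hS (le_normalizer_inf le_normalizer (le_top.trans (normalizer_eq_top A).ge)) le_top
  · obtain ⟨g, rfl⟩ := QuotientGroup.mk'_surjective A g
    obtain ⟨x, hx, e⟩ := Prn.norm (h K hK g)
    have := mem_map_of_mem (QuotientGroup.mk' A) hx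
    rw [Subgroup.map_sup, map_cj1, cj_eq_of_norm hg, sup_idem] at this
    obtain ⟨k, hk, e'⟩ := this
    exact ⟨k * (x⁻¹ * g), mul_mem (le_normalizer hk) e, by rw [map_mul, e', ← map_mul, mul_inv_cancel_left]⟩
  · have h3 := (IsSylowIn.of_sylow_top P).map (QuotientGroup.mk' A)
    rw [map_top_of_surjective _ (QuotientGroup.mk'_surjective A)] at h3
    obtain ⟨z, hz, e⟩ := (yp_top.1 hQ _ _ h3 (map_mono hP) le_top (QuotientGroup.mk' A g) trivial).norm
    rw [← map_cj1, ← Subgroup.map_sup] at hz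
    obtain ⟨z, hz, rfl⟩ := hz
    rw [← h2 K ⟨P, hP⟩, ← map_inv, ← map_mul] at e
    obtain ⟨m, hm, e⟩ := e
    refine Prn.mul hz ((prn_core (yp_iff.1 hA) hT h1 (.of_sylow_top P) hP (a := z⁻¹ * g * m⁻¹) ?_).congr ?_)
    · rw [← QuotientGroup.ker_mk' A, MonoidHom.mem_ker, map_mul, ← e, map_inv, mul_inv_cancel]
    · rw [← cj_cj _ m⁻¹, cj_eq_of_norm (inv_mem hm)]

theorem yp_of_selfnorm (h : ∀ P : Sylow p G, N((P : Subgroup G)) = P) :
    YP p G ∧ ∀ K : Subgroup G, (∃ P : Sylow p G, (P : Subgroup G) ≤ K) → N(K) = K := by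
  refine ⟨fun K ⟨P, hP⟩ g => ?_, fun K ⟨P, hP⟩ => le_antisymm (fun g hg => ?_) le_normalizer⟩
  · obtain ⟨x, hx, e⟩ := (IsSylowIn.of_sylow P (hP.trans (le_sup_left (b := cj g K)))).exists_cj_eq
      (IsSylowIn.of_sylow (g • P) ((cj_mono g hP).trans le_sup_right))
    have : x⁻¹ * g ∈ K := hP ((h P).le (mem_norm_iff_cj.2 (by rw [← cj_cj, ← sylow_smul_coe, ← e, cj_inv_cj])))
    exact ⟨x, hx, by rw [cj_def, cj_def, ← mul_inv_cancel_left x g, ← cj_cj, cj_eq_of_mem this]⟩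
  · obtain ⟨n, hn, e⟩ := (IsSylowIn.of_sylow P hP).frattini hg
    exact (mul_mem_cancel_left hn).1 (hP ((h P).le e))

end CfsgH1
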