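import Mathlib
set_option autoImplicit false
set_option linter.unusedSectionVars false
open Module Function

namespace CfsgH1.Quad2
variable {K W : Type*} [Field K] [AddCommGroup W] [Module K W] {p : ℕ} [Fact p.Prime] [CharP K p]

theorem cpow (g : W ≃ₗ[K] W) (n : ℕ) : ((g ^ n : W ≃ₗ[K] W) : Module.End K W) = (g : Module.End K W) ^ n :=
  map_pow LinearEquiv.automorphismGroup.toLinearMapMonoidHom g n

theorem prodX [Fintype K] : ∏ ζ : K, (Polynomial.X - Polynomial.C ζ) = Polynomial.X ^ Fintype.card K - Polynomial.X := by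
  have := Polynomial.prod_multiset_X_sub_C_of_monic_of_roots_card_eq (p := Polynomial.X ^ Fintype.card K - Polynomial.X)
    (R := K) (Polynomial.monic_X_pow_sub (by simpa using Fintype.one_lt_card)) (by
      rw [FiniteField.roots_X_pow_card_sub_X, FiniteField.X_pow_card_sub_X_natDegree_eq _ Fintype.one_lt_card]; rfl)
  rwa [FiniteField.roots_X_pow_card_sub_X] at this

def ch (x y : Module.End K W) : ℕ → Submodule K W
  | 0 => ⊤
  | n + 1 => (ch x y n).map x ⊔ (ch x y n).map y

theorem ch_le (x y : Module.End K W) (n : ℕ) : ch x y (n + 1) ≤ ch x y n := by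
  induction n with
  | zero => exact le_top
  | succ n ih => exact sup_le_sup (Submodule.map_mono ih) (Submodule.map_mono ih)

theorem mem_ch {x y : Module.End K W} {n : ℕ} {v : W} :
    v ∈ ch x y (n + 1) ↔ ∃ a ∈ ch x y n, ∃ b ∈ ch x y n, x a + y b = v := by
  constructor
  · intro h
    obtain ⟨_, ⟨a, ha, rfl⟩, _, ⟨b, hb, rfl⟩, e⟩ := Submodule.mem_sup.1 h
    exact ⟨a, ha, b, hb, e⟩
  · rintro ⟨a, ha, b, hb, rfl⟩
    exact Submodule.add_mem_sup ⟨a, ha, rfl⟩ ⟨b, hb, rfl⟩

theorem ch3 {x y : Module.End K W} (hx : ∀ v, x (x v) = 0) (hy : ∀ v, y (y v) = 0) (m : ℕ) :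
    ∀ v ∈ ch x y (3 * m), ∃ u, ((x * y + y * x) ^ m) u = v := by
  have st : ∀ n, ∀ v ∈ ch x y (n + 3), ∃ u ∈ ch x y n, (x * y + y * x) u = v := fun n v h => by
    obtain ⟨a, ha, b, hb, rfl⟩ := mem_ch.1 h
    obtain ⟨a1, -, a2, ha2, rfl⟩ := mem_ch.1 ha
    obtain ⟨b1, hb1, b2, -, rfl⟩ := mem_ch.1 hb
    obtain ⟨c1, hc1, c2, -, rfl⟩ := mem_ch.1 ha2
    obtain ⟨d1, -, d2, hd2, rfl⟩ := mem_ch.1 hb1
    exact ⟨x c1 + y d2, ch_le x y n (mem_ch.2 ⟨c1, hc1, d2, hd2, rfl⟩), by simp [hx, hy]⟩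
  induction m with
  | zero => exact fun v _ => ⟨v, rfl⟩
  | succ m ih =>
    intro v h
    obtain ⟨u, hu, rfl⟩ := st _ v h
    obtain ⟨w, rfl⟩ := ih u hu
    exact ⟨w, by rw [pow_succ', Module.End.mul_apply]⟩

theorem pgrp [Nontrivial W] (a b : W ≃ₗ[K] W) (ha : ∀ w, a (a w - w) = a w - w) (hb : ∀ w, b (b w - w) = b w - w) {m : ℕ}
    (ht : (((a : Module.End K W) - 1) * ((b : Module.End K W) - 1) + ((b : Module.End K W) - 1) * ((a : Module.End K W) - 1)) ^ m = 0) :
    IsPGroup p (Subgroup.closure {a, b}) := by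
  set x := (a : Module.End K W) - 1
  set y := (b : Module.End K W) - 1
  have hx : ∀ v, x (x v) = 0 := fun v => sub_eq_zero.2 (ha v)
  have hy : ∀ v, y (y v) = 0 := fun v => sub_eq_zero.2 (hb v)
  have z : ∀ v ∈ ch x y (3 * m), v = 0 := fun v h => by
    obtain ⟨u, rfl⟩ := ch3 hx hy m v h
    simp [ht]
  have k : ∀ g ∈ Subgroup.closure {a, b}, ∀ n, ∀ v ∈ ch x y n, g v - v ∈ ch x y (n + 1) := fun g hg => by
    have s : ∀ g ∈ ({a, b} : Set (W ≃ₗ[K] W)), ∀ n, ∀ v ∈ ch x y n, g v - v ∈ ch x y (n + 1) := by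
      rintro g (rfl | rfl) n v h
      · exact Submodule.mem_sup_left ⟨v, h, rfl⟩
      · exact Submodule.mem_sup_right ⟨v, h, rfl⟩
    induction hg using Subgroup.closure_induction'' with
    | mem g h => exact s g h
    | inv_mem g h =>
      intro n v j
      have : g⁻¹ v - v = -(g v - v) := by
        apply g.injective
        have : g (g v - v) = g v - v := by rcases h with rfl | rfl; exacts [ha v, hb v]
        rw [map_neg, this, map_sub]; simp
      rw [this]; exact neg_mem (s g h n v j)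
    | one => intro n v _; simp
    | mul g h _ _ i1 i2 =>
      intro n v j
      have := add_mem (i1 n (h v) (by simpa using add_mem (ch_le x y n (i2 n v j)) j)) (i2 n v j)
      simpa using this
  rintro ⟨g, hg⟩
  have e : ∀ n v, (((g : Module.End K W) - 1) ^ n) v ∈ ch x y n := fun n v => by
    induction n with
    | zero => trivial
    | succ n ih => rw [pow_succ', Module.End.mul_apply]; exact k g hg n _ ih
  have e1 : ((g : Module.End K W) - 1) ^ p ^ (3 * m) = 0 :=
    pow_eq_zero_of_le (Nat.lt_pow_self (Fact.out : p.Prime).one_lt).le (LinearMap.ext fun v => z _ (e _ v))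
  have : CharP (Module.End K W) p := charP_of_injective_algebraMap (algebraMap K _).injective p
  rw [sub_pow_char_pow_of_commute _ _ (Commute.one_right _), one_pow, sub_eq_zero] at e1
  exact ⟨3 * m, Subtype.ext (LinearEquiv.toLinearMap_injective ((cpow g _).trans e1))⟩

theorem eig [Fintype K] [Nontrivial W] (c : Module.End K W) {e : ℕ} (h : c ^ (p ^ e * (Fintype.card K - 1)) = 1) :
    (c - 1) ^ p ^ e = 0 ∨ ∃ ζ : K, ζ ≠ 0 ∧ ζ ≠ 1 ∧ ∃ v, v ≠ 0 ∧ c v = ζ • v := by
  classical
  refine or_iff_not_imp_right.2 fun k => ?_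
  push Not at k
  have : CharP (Module.End K W) p := charP_of_injective_algebraMap (algebraMap K _).injective p
  have h1 : (c ^ (Fintype.card K - 1) - 1) ^ p ^ e = 0 := by
    rw [sub_pow_char_pow_of_commute _ _ (Commute.one_right _), one_pow, ← pow_mul, mul_comm, h, sub_self]
  have inj : ∀ s : Finset K, (∀ ζ ∈ s, ζ ≠ 0 ∧ ζ ≠ 1) →
      Injective (Polynomial.aeval c (∏ ζ ∈ s, (Polynomial.X - Polynomial.C ζ))) := fun s => by
    induction s using Finset.induction_on with
    | empty => intro _ a b e; simpa using e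
    | insert a s ha ih =>
      intro l
      rw [Finset.prod_insert ha, map_mul, Module.End.coe_mul]
      refine Injective.comp ((injective_iff_map_eq_zero _).2 fun v j => by_contra fun v0 =>
        k a (l a (by simp)).1 (l a (by simp)).2 v v0 ?_) (ih fun z hz => l z (by simp [hz]))
      simpa [sub_eq_zero] using j
  have f : (Polynomial.X ^ (Fintype.card K - 1) - 1 : Polynomial K) =
      (∏ ζ ∈ (Finset.univ.erase 0).erase 1, (Polynomial.X - Polynomial.C ζ)) * (Polynomial.X - Polynomial.C 1) := by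
    rw [Finset.prod_erase_mul _ _ (by simp)]
    apply mul_right_cancel₀ (Polynomial.X_sub_C_ne_zero (0 : K))
    rw [Finset.prod_erase_mul _ _ (by simp), prodX, map_zero, sub_zero, sub_mul, ← pow_succ,
      Nat.sub_add_cancel Fintype.card_pos, one_mul]
  have g := congrArg (fun q => Polynomial.aeval c (q ^ p ^ e)) f
  simp only [mul_pow, map_mul, map_pow, map_sub, Polynomial.aeval_X, map_one, h1] at g
  have i := inj ((Finset.univ.erase 0).erase 1) fun ζ l => by simp at l; tauto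
  refine LinearMap.ext fun v => (Module.End.iterate_injective i (p ^ e)) ?_
  simpa using (LinearMap.congr_fun g v).symm

theorem main [Fintype K] [Nontrivial W] (a b : W ≃ₗ[K] W) (ha : ∀ w, a (a w - w) = a w - w) (hb : ∀ w, b (b w - w) = b w - w)
    (hnp : ¬ IsPGroup p (Subgroup.closure {a, b})) {e k : ℕ} (h1 : orderOf (a * b) = p ^ e * k) (h2 : k ∣ Fintype.card K - 1) :
    ∃ φ : Subgroup.closure {a, b} →* Matrix.SpecialLinearGroup (Fin 2) K, ¬ IsPGroup p φ.range := by
  set x := (a : Module.End K W) - 1 with dx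
  set y := (b : Module.End K W) - 1 with dy
  have hx : ∀ v, x (x v) = 0 := fun v => sub_eq_zero.2 (ha v)
  have hy : ∀ v, y (y v) = 0 := fun v => sub_eq_zero.2 (hb v)
  have ax : ∀ v, a v = v + x v := fun v => by simp [dx]
  have bx : ∀ v, b v = v + y v := fun v => by simp [dy]
  have tc : (x * y + y * x) * ((a * b : W ≃ₗ[K] W) : Module.End K W) = (((a * b : W ≃ₗ[K] W) : Module.End K W) - 1) ^ 2 :=
    LinearMap.ext fun v => by simp [sq, ax, bx, hx, hy]; abel
  have cm : Commute (x * y + y * x) ((a * b : W ≃ₗ[K] W) : Module.End K W) :=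
    LinearMap.ext fun v => by simp [ax, bx, hx, hy]; abel
  rcases eig (p := p) (e := e) ((a * b : W ≃ₗ[K] W) : Module.End K W) (by
    have := orderOf_dvd_iff_pow_eq_one.1 (h1 ▸ mul_dvd_mul_left (p ^ e) h2)
    rw [← cpow, this]; rfl) with n | ⟨ζ, z0, z1, v, v0, hv⟩
  · refine absurd (pgrp a b ha hb (m := p ^ e) ?_) hnp
    have := congrArg (· ^ p ^ e) tc
    simp only [cm.mul_pow] at this
    rw [← pow_mul, mul_comm 2, pow_mul, n, zero_pow two_ne_zero] at this
    refine LinearMap.ext fun v => ?_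
    obtain ⟨u, rfl⟩ := ((a * b) ^ p ^ e).surjective v
    rw [← cpow] at this
    exact LinearMap.congr_fun this u
  obtain ⟨l, l0, hl⟩ : ∃ l : K, l ≠ 0 ∧ x (y v) + y (x v) = l • v := by
    refine ⟨ζ⁻¹ * (ζ - 1) ^ 2, mul_ne_zero (inv_ne_zero z0) (pow_ne_zero _ (sub_ne_zero.2 z1)), ?_⟩
    have := LinearMap.congr_fun tc v
    simp only [Module.End.mul_apply, sq, LinearMap.sub_apply, Module.End.one_apply, map_sub, hv, map_smul,
      LinearMap.add_apply] at this
    rw [mul_smul, eq_inv_smul_iff₀ z0, this]; module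
  obtain ⟨u, u0, xu, yu⟩ : ∃ u, u ≠ 0 ∧ x u = 0 ∧ x (y u) = l • u := by
    by_cases j : x v = 0
    · exact ⟨v, v0, j, by simpa [j] using hl⟩
    · exact ⟨x v, j, hx v, by simpa [hx] using congrArg x hl⟩
  let ι : (Fin 2 → K) →ₗ[K] W := Fintype.linearCombination K ![u, y u]
  have ιe : ∀ c, ι c = c 0 • u + c 1 • y u := fun c => by simp [ι, Fintype.linearCombination_apply]
  have ιi : Injective ι := (injective_iff_map_eq_zero _).2 fun c j => by
    have j1 := congrArg x j
    rw [ιe] at j j1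
    simp only [map_add, map_smul, xu, yu, smul_zero, zero_add, map_zero, smul_eq_zero, l0, u0, or_false] at j1
    simp only [j1, zero_smul, add_zero, smul_eq_zero, u0, or_false] at j
    ext i; fin_cases i <;> assumption
  have eb : ∀ c, b (ι c) = ι ((!![1, 0; 1, 1] : Matrix (Fin 2) (Fin 2) K).mulVec c) := fun c => by
    simp [ιe, bx, hy, Matrix.mulVec, dotProduct, Fin.sum_univ_two]; module
  have ea : ∀ c, a (ι c) = ι ((!![1, l; 0, 1] : Matrix (Fin 2) (Fin 2) K).mulVec c) := fun c => by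
    simp [ιe, ax, xu, yu, Matrix.mulVec, dotProduct, Fin.sum_univ_two]; module
  have ex : ∀ g ∈ Subgroup.closure {a, b}, ∃ M : Matrix.SpecialLinearGroup (Fin 2) K, ∀ c, g (ι c) = ι (M.1.mulVec c) :=
    fun g hg => by
    induction hg using Subgroup.closure_induction with
    | mem g h =>
      rcases h with rfl | rfl
      · exact ⟨⟨_, by simp [Matrix.det_fin_two]⟩, ea⟩
      · exact ⟨⟨_, by simp [Matrix.det_fin_two]⟩, eb⟩
    | one => exact ⟨1, by simp⟩
    | mul g h _ _ i1 i2 =>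
      obtain ⟨M, i1⟩ := i1
      obtain ⟨N, i2⟩ := i2
      exact ⟨M * N, fun c => by rw [LinearEquiv.mul_apply, i2, i1, Matrix.mulVec_mulVec]; rfl⟩
    | inv g _ i =>
      obtain ⟨M, i⟩ := i
      refine ⟨M⁻¹, fun c => g.injective ?_⟩
      rw [i, Matrix.mulVec_mulVec]
      have : M.1 * M⁻¹.1 = 1 := congrArg Subtype.val (mul_inv_cancel M)
      rw [this]; simp
  choose f hf using ex
  have un : ∀ g hg (M : Matrix (Fin 2) (Fin 2) K), (∀ c, g (ι c) = ι (M.mulVec c)) → (f g hg).1 = M := fun g hg M j =>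
    Matrix.toLin'.injective (LinearMap.ext fun c => ιi ((hf g hg c).symm.trans (j c)))
  let φ : Subgroup.closure {a, b} →* Matrix.SpecialLinearGroup (Fin 2) K := MonoidHom.mk' (fun g => f g.1 g.2)
    fun g h => Subtype.ext (un _ _ _ fun c => by
      rw [Subgroup.coe_mul, LinearEquiv.mul_apply, hf h.1 h.2, hf g.1 g.2, Matrix.mulVec_mulVec]; rfl)
  refine ⟨φ, fun j => ?_⟩
  have mab : a * b ∈ Subgroup.closure {a, b} := mul_mem (Subgroup.subset_closure (by simp)) (Subgroup.subset_closure (by simp))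
  obtain ⟨n, hn⟩ := j ⟨φ ⟨_, mab⟩, _, rfl⟩
  have m1 : (φ ⟨_, mab⟩).1 = !![1, l; 0, 1] * !![1, 0; 1, 1] := un _ mab _ fun c => by
    rw [← Matrix.mulVec_mulVec, ← ea, ← eb]; rfl
  have m2 : (φ ⟨_, mab⟩).1 ^ p ^ n = 1 :=
    (Matrix.SpecialLinearGroup.coe_pow _ _).symm.trans (congrArg (fun t => t.1.1) hn)
  have m3 : IsNilpotent ((φ ⟨_, mab⟩).1 - 1) :=
    ⟨p ^ n, by rw [sub_pow_char_pow_of_commute _ _ (Commute.one_right _), m2, one_pow, sub_self]⟩
  have := (Matrix.isNilpotent_trace_of_isNilpotent m3).eq_zero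
  rw [m1] at this
  simp [Matrix.trace_fin_two] at this
  exact l0 (by linear_combination this)

end CfsgH1.Quad2
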