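import Cfsg.Agent.H1.Super
import Cfsg.Agent.H2.SylNum
import Cfsg.Agent.S3707

/-! No finite group has exactly 35 Sylow 17-subgroups. -/

set_option autoImplicit false
set_option linter.style.haveILetI false
set_option linter.unusedSectionVars false

namespace CfsgH1.S35

open Subgroup MulAction CfsgH1 CfsgFT CfsgH2

universe u
variable {G : Type u} [Group G] [Finite G]

instance f17 : Fact (Nat.Prime 17) := ⟨by norm_num⟩

/-- orbit of a subgroup -/
def O (A : Subgroup G) (Q : Sylow 17 G) : Set (Sylow 17 G) := {R | ∃ a ∈ A, a • Q = R}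

theorem O_eq (A : Subgroup G) (Q : Sylow 17 G) : O A Q = orbit A Q := by
  ext R
  exact ⟨fun ⟨a, ha, e⟩ => ⟨⟨a, ha⟩, e⟩, fun ⟨a, e⟩ => ⟨a.1, a.2, e⟩⟩

theorem O_self (A : Subgroup G) (Q : Sylow 17 G) : Q ∈ O A Q := ⟨1, one_mem _, one_smul _ _⟩

theorem O_symm {A : Subgroup G} {Q R : Sylow 17 G} (h : R ∈ O A Q) : Q ∈ O A R := by
  obtain ⟨a, ha, rfl⟩ := h
  exact ⟨a⁻¹, inv_mem ha, inv_smul_smul _ _⟩

theorem O_trans {A : Subgroup G} {Q R S : Sylow 17 G} (h : R ∈ O A Q) (h' : S ∈ O A R) : S ∈ O A Q := by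
  obtain ⟨a, ha, rfl⟩ := h
  obtain ⟨b, hb, rfl⟩ := h'
  exact ⟨b * a, mul_mem hb ha, mul_smul _ _ _⟩

theorem O_smul {A : Subgroup G} {c : G} (hc : c ∈ N(A)) {Q R : Sylow 17 G} (h : R ∈ O A Q) :
    c • R ∈ O A (c • Q) := by
  obtain ⟨a, ha, rfl⟩ := h
  exact ⟨c * a * c⁻¹, CfsgH2.conj_mem_of_mem_normalizer hc ha, by simp [mul_smul]⟩

theorem O_card (h35 : Nat.card (Sylow 17 G) = 35) {A : Subgroup G} (hA : IsPGroup 17 A) {Q : Sylow 17 G}
    {a : G} (ha : a ∈ A) (hQ : a • Q ≠ Q) : (O A Q).ncard = 17 := by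
  obtain ⟨n, hn⟩ := hA.card_orbit (α := Sylow 17 G) Q
  rw [← O_eq, Nat.card_coe_set_eq] at hn
  have h1 : (O A Q).ncard ≤ 35 := by
    rw [← h35, ← Set.ncard_univ]; exact Set.ncard_le_ncard (Set.subset_univ _)
  have h2 : 1 < (O A Q).ncard := by
    rw [Set.one_lt_ncard_iff]; exact ⟨a • Q, Q, ⟨a, ha, rfl⟩, O_self _ _, hQ⟩
  rw [hn] at h1 h2 ⊢
  rcases n with _ | _ | n
  · simp at h2
  · simp
  · have : 17 ^ 2 ≤ 17 ^ (n + 1 + 1) := Nat.pow_le_pow_right (by norm_num) (by omega)
    omega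

theorem smul_eq {g : G} {Q : Sylow 17 G} : g • Q = Q ↔ g ∈ N((Q : Subgroup G)) :=
  Sylow.smul_eq_iff_mem_normalizer

theorem mem_of_norm {P : Sylow 17 G} {x : G} (hx : x ∈ N((P : Subgroup G))) (h : x ^ 17 = 1) :
    x ∈ (P : Subgroup G) := by
  have : IsPGroup 17 (zpowers x) := by
    rcases (Nat.dvd_prime (by norm_num : Nat.Prime 17)).1 (orderOf_dvd_of_pow_eq_one h) with e | e
    · exact isPGroup_zpowers_of_orderOf (k := 0) (by simpa using e)
    · exact isPGroup_zpowers_of_orderOf (k := 1) (by simpa using e)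
  exact (IsSylowIn.of_sylow_top P).le_of_le_normalizer this le_top (zpowers_le.2 hx) (mem_zpowers x)

theorem exists_moved {P Q : Sylow 17 G} (h : Q ≠ P) : ∃ a ∈ (P : Subgroup G), a • Q ≠ Q := by
  by_contra hc
  push Not at hc
  have := (IsSylowIn.of_sylow_top Q).le_of_le_normalizer P.isPGroup' le_top fun a ha => smul_eq.1 (hc a ha)
  exact h (Sylow.ext (P.is_maximal' Q.isPGroup' this))

theorem ne_of_O {P Q R : Sylow 17 G} (h : Q ≠ P) (hR : R ∈ O (P : Subgroup G) Q) : R ≠ P := by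
  rintro rfl
  obtain ⟨a, ha, e⟩ := O_symm hR
  exact h (e.symm.trans (smul_eq.2 (le_normalizer ha)))

theorem O_card' (h35 : Nat.card (Sylow 17 G) = 35) {P Q : Sylow 17 G} (h : Q ≠ P) :
    (O (P : Subgroup G) Q).ncard = 17 := by
  obtain ⟨a, ha, e⟩ := exists_moved h
  exact O_card h35 P.isPGroup' ha e

theorem exists_out (h35 : Nat.card (Sylow 17 G) = 35) {P Q : Sylow 17 G} (h : Q ≠ P) :
    ∃ Q', Q' ≠ P ∧ Q' ∉ O (P : Subgroup G) Q := by
  by_contra hc
  push Not at hc
  have : (Set.univ : Set (Sylow 17 G)) ⊆ insert P (O (P : Subgroup G) Q) := fun R _ => by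
    by_cases e : R = P
    · exact Or.inl e
    · exact Or.inr (hc R e)
  have h1 := Set.ncard_le_ncard this
  have h2 := Set.ncard_insert_le P (O (P : Subgroup G) Q)
  rw [Set.ncard_univ, h35] at h1
  rw [O_card' h35 h] at h2
  omega

theorem two (h35 : Nat.card (Sylow 17 G) = 35) {P Q Q' R : Sylow 17 G} (h : Q ≠ P) (h' : Q' ≠ P)
    (hQ : Q' ∉ O (P : Subgroup G) Q) (hR : R ≠ P) :
    R ∈ O (P : Subgroup G) Q ∨ R ∈ O (P : Subgroup G) Q' := by
  have hd : Disjoint (O (P : Subgroup G) Q) (O (P : Subgroup G) Q') :=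
    Set.disjoint_left.2 fun S h1 h2 => hQ (O_trans h1 (O_symm h2))
  have hn : P ∉ O (P : Subgroup G) Q ∪ O (P : Subgroup G) Q' := by
    rintro (e | e)
    · exact ne_of_O h e rfl
    · exact ne_of_O h' e rfl
  have hc : (insert P (O (P : Subgroup G) Q ∪ O (P : Subgroup G) Q')).ncard = 35 := by
    rw [Set.ncard_insert_of_notMem hn, Set.ncard_union_eq hd, O_card' h35 h, O_card' h35 h']
  have hu := Set.eq_of_subset_of_ncard_le (Set.subset_univ (insert P (O (P : Subgroup G) Q ∪ O (P : Subgroup G) Q')))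
    (by rw [hc, Set.ncard_univ, h35])
  have : R ∈ insert P (O (P : Subgroup G) Q ∪ O (P : Subgroup G) Q') := hu ▸ Set.mem_univ R
  rcases this with e | e
  · exact absurd e hR
  · exact e

theorem smul_ne {P Q : Sylow 17 G} {c : G} (hc : c ∈ N((P : Subgroup G))) (h : Q ≠ P) : c • Q ≠ P := by
  intro e
  exact h (by rw [← inv_smul_smul c Q, e]; exact smul_eq.2 (inv_mem hc))

theorem sq_mem (h35 : Nat.card (Sylow 17 G) = 35) {P Q : Sylow 17 G} (h : Q ≠ P) {c : G}
    (hc : c ∈ N((P : Subgroup G))) : c • c • Q ∈ O (P : Subgroup G) Q := by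
  by_cases e : c • Q ∈ O (P : Subgroup G) Q
  · exact O_trans e (O_smul hc e)
  · rcases two h35 h (smul_ne hc h) e (smul_ne hc (smul_ne hc h)) with k | k
    · exact k
    · have := O_smul (inv_mem hc) k
      simp only [inv_smul_smul] at this
      exact absurd this e

theorem not3 (h35 : Nat.card (Sylow 17 G) = 35) : ¬ IsMultiplyPretransitive G (Sylow 17 G) 3 := by
  intro h3
  obtain ⟨P⟩ : Nonempty (Sylow 17 G) := inferInstance
  haveI : Nontrivial (Sylow 17 G) := Finite.one_lt_card_iff_nontrivial.1 (by omega)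
  obtain ⟨Q, hQ⟩ := exists_ne P
  obtain ⟨Q', h', hn⟩ := exists_out h35 hQ
  obtain ⟨a, ha, e⟩ := exists_moved hQ
  have hR : a • Q ∈ O (P : Subgroup G) Q := ⟨a, ha, rfl⟩
  have h1 := ne_of_O hQ hR
  have h2 : a • Q ≠ Q' := fun k => hn (k ▸ hR)
  obtain ⟨c, hc⟩ := isMultiplyPretransitive_iff.1 h3
    ⟨![P, Q, a • Q], by intro i j; fin_cases i <;> fin_cases j <;> simp [*, hQ.symm, h1.symm, e.symm]⟩
    ⟨![P, a • Q, Q'], by intro i j; fin_cases i <;> fin_cases j <;> simp [*, h'.symm, h1.symm, h2.symm]⟩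
  have c0 : c • P = P := congrArg (fun f => f 0) hc
  have c1 : c • Q = a • Q := congrArg (fun f => f 1) hc
  have c2 : c • a • Q = Q' := congrArg (fun f => f 2) hc
  have := sq_mem h35 hQ (smul_eq.1 c0)
  rw [c1, c2] at this
  exact hn this

theorem prim (h35 : Nat.card (Sylow 17 G) = 35) : IsPreprimitive G (Sylow 17 G) := by
  obtain ⟨P⟩ : Nonempty (Sylow 17 G) := inferInstance
  haveI : Nontrivial (Sylow 17 G) := Finite.one_lt_card_iff_nontrivial.1 (by omega)
  have hi : (N((P : Subgroup G))).index = 35 := by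
    rw [← card_sylow_top (IsSylowIn.of_sylow_top P), h35]
  rw [← isCoatom_stabilizer_iff_preprimitive G P, Sylow.stabilizer_eq_normalizer]
  show IsCoatom N((P : Subgroup G))
  refine ⟨fun e => by rw [e, index_top] at hi; omega, fun M hM => ?_⟩
  have h1 := index_modEq_one (M := M) (IsSylowIn.of_sylow_top P) (le_normalizer.trans hM.le) le_top
    (inf_le_right.trans hM.le)
  rw [relIndex_top_right] at h1
  have h2 := index_dvd_of_le hM.le
  have h3 : M.index ≠ 35 := fun e => hM.ne (CfsgH2.eq_of_le_of_card_le hM.le (by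
    have k1 := M.card_mul_index
    have k2 := (N((P : Subgroup G))).card_mul_index
    rw [e] at k1; rw [hi] at k2; omega))
  rw [hi] at h2
  rw [← index_eq_one]
  have h4 := Nat.le_of_dvd (by norm_num) h2
  unfold Nat.ModEq at h1
  have : M.index = 1 ∨ M.index = 18 := by omega
  rcases this with e | e
  · exact e
  · rw [e] at h2; norm_num at h2

theorem card17 (h35 : Nat.card (Sylow 17 G) = 35) (hf : ∀ g : G, (∀ Q : Sylow 17 G, g • Q = Q) → g = 1)
    (P : Sylow 17 G) : Nat.card (P : Subgroup G) = 17 := by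
  haveI : Nontrivial (Sylow 17 G) := Finite.one_lt_card_iff_nontrivial.1 (by omega)
  obtain ⟨Q, hQ⟩ := exists_ne P
  obtain ⟨Q', h', hn⟩ := exists_out h35 hQ
  have hi : (stabilizer (P : Subgroup G) Q).index = 17 := by
    rw [index_stabilizer, ← O_eq, O_card' h35 hQ]
  obtain ⟨n, hP⟩ := IsPGroup.iff_card.1 P.isPGroup'
  have hn0 : n ≠ 0 := by
    rintro rfl
    have := (stabilizer (P : Subgroup G) Q).index_dvd_card
    rw [hi, hP] at this; norm_num at this
  have hN : (stabilizer (P : Subgroup G) Q).Normal := normal_of_index_eq_minFac_card (by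
    rw [hi, hP, Nat.Prime.pow_minFac (by norm_num) hn0])
  let D : Subgroup G := (stabilizer (P : Subgroup G) Q).map (P : Subgroup G).subtype
  have hDP : D ≤ P := map_subtype_le _
  have hfix : ∀ d ∈ D, ∀ z ∉ O (P : Subgroup G) Q', d • z = z := by
    rintro _ ⟨d, hd, rfl⟩ z hz
    by_cases e : z = P
    · rw [e]; exact smul_eq.2 (le_normalizer d.2)
    rcases two h35 hQ h' hn e with ⟨a, ha, rfl⟩ | k
    · have := hN.conj_mem d hd (⟨a, ha⟩⁻¹ : (P : Subgroup G))
      have k : (a⁻¹ * d * a⁻¹⁻¹) • Q = Q := this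
      rw [inv_inv, mul_smul, mul_smul, inv_smul_eq_iff] at k
      exact k
    · exact absurd k hz
  have hD : D = ⊥ := by
    by_contra hD
    obtain ⟨d, hd, hd1⟩ := (D.bot_or_exists_ne_one).resolve_left hD
    obtain ⟨R, hR⟩ : ∃ R : Sylow 17 G, d • R ≠ R := by
      by_contra hc; push Not at hc; exact hd1 (hf d hc)
    have hRO : R ∈ O (P : Subgroup G) Q' := by
      by_contra hc; exact hR (hfix d hd R hc)
    have hsub : O D R ⊆ O (P : Subgroup G) Q' := fun S ⟨a, ha, e⟩ => O_trans hRO ⟨a, hDP ha, e⟩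
    have heq := Set.eq_of_subset_of_ncard_le hsub (by
      rw [O_card' h35 h', O_card h35 (P.isPGroup'.to_le hDP) hd hR])
    haveI : FaithfulSMul G (Sylow 17 G) := ⟨fun {a b} h => by
      have := hf (b⁻¹ * a) fun Q => by rw [mul_smul, h, inv_smul_smul]
      rw [inv_mul_eq_one] at this; exact this.symm⟩
    refine not3 h35 (Cfsg.Agent.S3707.result (prim h35) (O (P : Subgroup G) Q')
      (by rw [O_card' h35 h']; norm_num) (by rw [O_card' h35 h', h35]; norm_num) fun x hx y hy => ?_)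
    rw [← heq] at hx hy
    obtain ⟨a, ha, e⟩ := O_trans (O_symm hx) hy
    exact ⟨a, hfix a ha, e⟩
  rw [map_eq_bot_iff_of_injective _ (P : Subgroup G).subtype_injective] at hD
  rw [hD, index_bot] at hi
  exact hi

theorem cent_mem (h35 : Nat.card (Sylow 17 G) = 35) (hf : ∀ g : G, (∀ Q : Sylow 17 G, g • Q = Q) → g = 1)
    {P Q : Sylow 17 G} (hQ : Q ≠ P) {c : G} (hc : c ∈ C((P : Subgroup G)))
    (h : c • Q ∈ O (P : Subgroup G) Q) : c ∈ (P : Subgroup G) := by
  have hP := card17 h35 hf P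
  haveI : IsCyclic (P : Subgroup G) := isCyclic_of_prime_card hP
  have hPC : (P : Subgroup G) ≤ C((P : Subgroup G)) := le_centralizer _
  obtain ⟨Q', h', hn⟩ := exists_out h35 hQ
  obtain ⟨x, hx, e⟩ := h
  obtain ⟨d, hd⟩ : ∃ d, d = x⁻¹ * c := ⟨_, rfl⟩
  have hdC : d ∈ C((P : Subgroup G)) := hd ▸ mul_mem (inv_mem (hPC hx)) hc
  have hdN : d ∈ N((P : Subgroup G)) := centralizer_le_normalizer _ hdC
  have key : ∀ {S : Sylow 17 G} {y : G}, y ∈ (P : Subgroup G) → y • S = d • S →
      ∀ R ∈ O (P : Subgroup G) S, d ^ 17 • R = R := by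
    rintro S y hy e _ ⟨a, ha, rfl⟩
    have k : ∀ n : ℕ, d ^ n • S = y ^ n • S := fun n => by
      induction n with
      | zero => simp
      | succ n ih =>
        rw [pow_succ', mul_smul, ih, ← mul_smul, ← hdC _ (pow_mem hy n), mul_smul, ← e, ← mul_smul, pow_succ]
    have y17 : y ^ 17 = 1 := by
      have := pow_card_eq_one' (x := (⟨y, hy⟩ : (P : Subgroup G)))
      rw [hP] at this; exact congrArg Subtype.val this
    rw [← mul_smul, ← pow_mem hdC 17 _ ha, mul_smul, k, y17, one_smul]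
  have dQ : d • Q = Q := by rw [hd, mul_smul, ← e, inv_smul_smul]
  have dQ' : d • Q' ∈ O (P : Subgroup G) Q' := by
    refine (two h35 hQ h' hn (smul_ne hdN h')).resolve_left fun k => hn ?_
    have := O_smul (inv_mem hdN) k
    rwa [inv_smul_smul, inv_smul_eq_iff.2 dQ.symm] at this
  obtain ⟨y, hy, ey⟩ := dQ'
  have d17 : d ^ 17 = 1 := hf _ fun R => by
    by_cases r : R = P
    · rw [r]; exact smul_eq.2 (pow_mem hdN _)
    rcases two h35 hQ h' hn r with k | k
    · exact key (one_mem _) (by rw [dQ, one_smul]) R k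
    · exact key hy ey R k
  have := mul_mem hx (mem_of_norm hdN d17)
  rwa [hd, mul_inv_cancel_left] at this

theorem cent_le (h35 : Nat.card (Sylow 17 G) = 35) (hf : ∀ g : G, (∀ Q : Sylow 17 G, g • Q = Q) → g = 1)
    (P : Sylow 17 G) (hm : ∀ M : Subgroup G, M.Normal → (P : Subgroup G) ≤ M → M = ⊤) :
    C((P : Subgroup G)) ≤ P := by
  classical
  haveI := Fintype.ofFinite (Sylow 17 G)
  haveI : Nontrivial (Sylow 17 G) := Finite.one_lt_card_iff_nontrivial.1 (by omega)
  have hP := card17 h35 hf P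
  have p17 : ∀ y ∈ (P : Subgroup G), y ^ 17 = 1 := fun y hy => by
    have := pow_card_eq_one' (x := (⟨y, hy⟩ : (P : Subgroup G)))
    rw [hP] at this; exact congrArg Subtype.val this
  obtain ⟨Q, hQ⟩ := exists_ne P
  intro c hc
  have hN := centralizer_le_normalizer (P : Set G)
  have h2 : c ^ 2 ∈ (P : Subgroup G) :=
    cent_mem h35 hf hQ (pow_mem hc 2) (by rw [sq, mul_smul]; exact sq_mem h35 hQ (hN hc))
  by_contra hn
  have ht : c ^ 17 ∉ (P : Subgroup G) := fun k => hn (by
    have := mul_mem k (inv_mem (pow_mem h2 8))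
    rwa [show c ^ 17 * ((c ^ 2) ^ 8)⁻¹ = c by group] at this)
  let s : G →* ℤˣ := Equiv.Perm.sign.comp (toPermHom G (Sylow 17 G))
  have hs : s.ker = ⊤ := hm _ inferInstance fun y hy => by
    have := congrArg s (p17 y hy)
    rw [map_pow, map_one] at this
    rcases Int.units_eq_one_or (s y) with e | e
    · exact e
    · rw [e] at this; exact absurd this (by decide)
  have h1 : s (c ^ 17) = 1 := (hs ▸ mem_top _ : c ^ 17 ∈ s.ker)
  have hsq : (toPermHom G (Sylow 17 G) (c ^ 17)) ^ 2 = 1 := by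
    rw [← map_pow, ← pow_mul, mul_comm, pow_mul, p17 _ h2, map_one]
  have hfix : Function.fixedPoints (toPermHom G (Sylow 17 G) (c ^ 17)) = {P} := by
    ext R
    refine ⟨fun e => ?_, ?_⟩
    · by_contra r
      have e' : c ^ 17 • R = R := e
      exact ht (cent_mem h35 hf r (pow_mem hc 17) (by rw [e']; exact O_self _ _))
    · rintro rfl
      exact smul_eq.2 (hN (pow_mem hc 17))
  have := Equiv.Perm.sign_of_pow_two_eq_one hsq
  rw [show Equiv.Perm.sign (toPermHom G (Sylow 17 G) (c ^ 17)) = 1 from h1, ← Nat.card_eq_fintype_card,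
    ← Nat.card_eq_fintype_card, hfix, h35, Nat.card_unique] at this
  exact absurd this (by decide)

theorem odd (h35 : Nat.card (Sylow 17 G) = 35) (P : Sylow 17 G) (hP : Nat.card (P : Subgroup G) = 17)
    (hC : C((P : Subgroup G)) ≤ P) (hm : ∀ M : Subgroup G, M.Normal → (P : Subgroup G) ≤ M → M = ⊤) :
    ¬ 2 ∣ Nat.card G := by
  intro h2
  have hi : (N((P : Subgroup G))).index = 35 := by
    rw [← card_sylow_top (IsSylowIn.of_sylow_top P), h35]
  obtain ⟨T, hT⟩ := IsSylowIn.exists_sylowIn (p := 2) N((P : Subgroup G))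
  have hT' : IsSylowIn 2 T ⊤ := hT.trans_of_not_dvd le_top (by rw [relIndex_top_right, hi]; norm_num)
  haveI : IsCyclic (P : Subgroup G) := isCyclic_of_prime_card hP
  haveI : IsCyclic (MulAut (P : Subgroup G)) := by
    haveI : Fact (Nat.card (P : Subgroup G)).Prime := ⟨by rw [hP]; norm_num⟩
    exact (IsCyclic.mulAutMulEquiv (P : Subgroup G)).isCyclic.2 inferInstance
  have hc : IsCyclic T := by
    refine isCyclic_of_injective ((P : Subgroup G).normalizerMonoidHom.comp (inclusion hT.le)) ?_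
    rw [injective_iff_map_eq_one]
    intro t ht
    have k : inclusion hT.le t ∈ (P : Subgroup G).normalizerMonoidHom.ker := ht
    rw [normalizerMonoidHom_ker] at k
    obtain ⟨n, hn⟩ := exists_orderOf_eq_pow hT.pgroup t.2
    exact Subtype.ext (eq_one_of_mem_pgroup_of_coprime P.isPGroup' (hC k)
      (by rw [hn]; exact Nat.Coprime.pow_left _ (by norm_num)))
  obtain ⟨S, rfl⟩ := hT'.of_top
  have hmf : (Nat.card G).minFac = 2 := (Nat.minFac_eq_two_iff _).2 h2
  have hK := hc.isComplement' hmf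
  have := hm (MonoidHom.transferSylow S (hc.normalizer_le_centralizer hmf)).ker inferInstance fun y hy => by
    obtain ⟨n, hn⟩ := exists_orderOf_eq_pow P.isPGroup' hy
    obtain ⟨k, hk⟩ := S.isPGroup' (MonoidHom.transferSylow S (hc.normalizer_le_centralizer hmf) y)
    have h1 := orderOf_dvd_of_pow_eq_one hk
    have h3 := orderOf_map_dvd (MonoidHom.transferSylow S (hc.normalizer_le_centralizer hmf)) y
    rw [hn] at h3
    exact orderOf_eq_one_iff.1 (Nat.eq_one_of_dvd_coprimes
      (Nat.Coprime.pow _ _ (by norm_num : Nat.Coprime 2 17)) h1 h3)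
  apply MonoidHom.not_dvd_card_ker_transferSylow S (hc.normalizer_le_centralizer hmf)
  rwa [this, card_top]

theorem final (h35 : Nat.card (Sylow 17 G) = 35) (P : Sylow 17 G) (hP : Nat.card (P : Subgroup G) = 17)
    (hC : C((P : Subgroup G)) ≤ P) (h2 : ¬ 2 ∣ Nat.card G) : False := by
  have hi : (N((P : Subgroup G))).index = 35 := by
    rw [← card_sylow_top (IsSylowIn.of_sylow_top P), h35]
  have hN : N((P : Subgroup G)) = P := le_antisymm (fun a ha => by
    have h1 := hC (pow_mem_cent_of_card_prime (by norm_num) hP ha)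
    have h3 : (17 - 1).Coprime (orderOf a) := by
      rw [show 17 - 1 = 2 ^ 4 from rfl]
      exact Nat.Coprime.pow_left _ ((Nat.Prime.coprime_iff_not_dvd Nat.prime_two).2
        fun k => h2 (k.trans (orderOf_dvd_natCard a)))
    obtain ⟨m, hm⟩ := exists_pow_eq_self_of_coprime h3
    rw [← hm]; exact pow_mem h1 _) le_normalizer
  have hG : Nat.card G = 5 ^ 1 * 119 := by
    rw [← (N((P : Subgroup G))).card_mul_index, hi, hN, hP]; norm_num
  haveI : Fact (Nat.Prime 5) := ⟨by norm_num⟩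
  obtain ⟨R⟩ : Nonempty (Sylow 5 G) := inferInstance
  have hR : Nat.card (R : Subgroup G) = 5 := by
    rw [R.card_eq_multiplicity, hG, Nat.factorization_mul (by norm_num) (by norm_num)]
    simp [Nat.factorization_eq_zero_of_not_dvd (by norm_num : ¬ 5 ∣ 119),
      (by norm_num : Nat.Prime 5).factorization_self]
  have hRi : (R : Subgroup G).index = 119 := by
    have := (R : Subgroup G).card_mul_index
    rw [hR, hG] at this; omega
  have h1 := card_sylow_modEq_one 5 G
  have h3 := R.card_dvd_index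
  rw [hRi] at h3
  have h4 : Nat.card (Sylow 5 G) = 1 := by
    have := Nat.mem_divisors.2 ⟨h3, by norm_num⟩
    rw [show Nat.divisors 119 = {1, 7, 17, 119} by decide] at this
    simp only [Finset.mem_insert, Finset.mem_singleton] at this
    unfold Nat.ModEq at h1
    omega
  rw [card_sylow_top (IsSylowIn.of_sylow_top R), index_eq_one] at h4
  have h5 : (R : Subgroup G) ≤ P := fun r hr => hC fun x hx => by
    have k := pow_mem (pow_mem_cent_of_card_prime (by norm_num) hR (h4 ▸ mem_top x)) 13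
    have x17 : x ^ 17 = 1 := by
      have := pow_card_eq_one' (x := (⟨x, hx⟩ : (P : Subgroup G)))
      rw [hP] at this; exact congrArg Subtype.val this
    rw [← pow_mul, show (5 - 1) * 13 = 17 * 3 + 1 from rfl, pow_succ, pow_mul, x17, one_pow, one_mul] at k
    exact (k r hr).symm
  have := card_dvd_of_le h5
  rw [hR, hP] at this
  norm_num at this

theorem main (n : ℕ) : ∀ (G : Type u) [Group G] [Finite G], Nat.card G = n → Nat.card (Sylow 17 G) ≠ 35 := by
  induction n using Nat.strong_induction_on with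
  | _ n ih =>
  intro G _ _ hn h35
  obtain ⟨P⟩ : Nonempty (Sylow 17 G) := inferInstance
  have hS := IsSylowIn.of_sylow_top P
  have hi : (N((P : Subgroup G))).index = 35 := by rw [← card_sylow_top hS, h35]
  have hf : ∀ g : G, (∀ Q : Sylow 17 G, g • Q = Q) → g = 1 := by
    let K := (toPermHom G (Sylow 17 G)).ker
    have hK : K ≤ N((P : Subgroup G)) := fun g hg => smul_eq.1 (congrArg (fun f : Equiv.Perm _ => f P) hg)
    by_cases e : K = ⊥
    · intro g hg
      have : g ∈ K := Equiv.ext hg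
      rwa [e] at this
    refine absurd ?_ (ih _ ?_ (G ⧸ K) rfl)
    · rw [card_sylow_map (QuotientGroup.mk'_surjective K) hS, QuotientGroup.ker_mk', sup_eq_left.2 hK, hi]
    · rw [← hn, card_eq_card_quotient_mul_card_subgroup K]
      exact lt_mul_of_one_lt_right Nat.card_pos (one_lt_card_iff_ne_bot K |>.2 e)
  have hm : ∀ M : Subgroup G, M.Normal → (P : Subgroup G) ≤ M → M = ⊤ := fun M _ hM => by
    by_contra e
    have hS' := hS.mono hM le_top
    refine ih _ ?_ M rfl ?_
    · rw [← hn, ← card_top (G := G)]; exact CfsgH2.card_lt_of_lt (lt_top_iff_ne_top.2 e)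
    · rw [card_sylow_in hS', ← hi, ← relIndex_top_right, ← card_cj_in, ← card_cj_in]
      refine Nat.card_congr (Equiv.subtypeEquivRight fun K => ⟨fun ⟨a, _, h⟩ => ⟨a, mem_top _, h⟩, ?_⟩)
      rintro ⟨g, -, rfl⟩
      obtain ⟨m, hm, k⟩ := hS'.frattini (g := g) (by rw [normalizer_eq_top]; trivial)
      refine ⟨m⁻¹, inv_mem hm, ?_⟩
      conv_lhs => rw [← cj_eq_iff_mem_normalizer.2 k]
      rw [CfsgH2.cj_cj, inv_mul_cancel_left]
  have hP := card17 h35 hf P
  have hC := cent_le h35 hf P hm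
  exact final h35 P hP hC (odd h35 P hP hC hm)

end CfsgH1.S35
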