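import Cfsg.Agent.H2.Cls
import Cfsg.Agent.H2.Focal
import Cfsg.Agent.H2.BG4
import Cfsg.Agent.H4.Vanish
import Cfsg.Agent.H3.Galois
import Cfsg.Agent.H1.Frob
import Cfsg.Agent.H1.G168
import Cfsg.Agent.H2.PGroup
import Cfsg.Agent.FT.Min

/-! Groups with a self-centralizing element of order three: the local analysis. -/

set_option autoImplicit false
set_option linter.style.haveILetI false
set_option linter.unusedSectionVars false

namespace CfsgH1

open Subgroup Cfsg CfsgH2 CfsgFT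

universe u
variable {G : Type u} [Group G] [Finite G] {x τ : G} {K M M' E : Subgroup G}

structure SC (x : G) : Prop where
  ord : orderOf x = 3
  cent : C1(x) = zpowers x

/-- `x`-invariant `3'`-subgroups -/
structure Inv3 (x : G) (K : Subgroup G) : Prop where
  n : x ∈ N(K)
  pi : IsPi {3}ᶜ K

def Max3 (x : G) (M : Subgroup G) : Prop := Inv3 x M ∧ ∀ K, Inv3 x K → M ≤ K → K ≤ M

theorem cj_three (h : orderOf x = 3) (D : Subgroup G) : cj x (cj x (cj x D)) = D := by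
  rw [cj_cj, cj_cj, ← pow_two, ← pow_succ, show x ^ (2 + 1) = 1 from orderOf_dvd_iff_pow_eq_one.1 h.dvd, cj_one]

theorem Inv3.bot : Inv3 x ⊥ := ⟨by rw [norm_bot]; trivial, isPi_bot⟩

theorem Inv3.opi (h : Inv3 x K) (π : Set ℕ) : Inv3 x (Opi π K) :=
  ⟨normalizer_le_normalizer_Opi π K h.n, h.pi.mono (Opi_le _ _)⟩

theorem Inv3.exists_max (h : Inv3 x K) : ∃ M, Max3 x M ∧ K ≤ M := by
  obtain ⟨M, l, hM⟩ := Finite.exists_le_maximal (p := Inv3 x) h
  exact ⟨M, ⟨hM.1, fun _ k l => hM.2 k l⟩, l⟩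

theorem Max3.le_of_norm (h : Max3 x M) (hK : Inv3 x K) (l : K ≤ N(M)) : K ≤ M :=
  le_sup_right.trans (h.2 _ ⟨CfsgH1.le_normalizer_sup (zpowers_le.2 h.1.n) (zpowers_le.2 hK.n) (mem_zpowers x),
    h.1.pi.sup hK.pi l⟩ le_sup_left)

theorem Max3.le_of_norm' (h : Max3 x M) (hK : Inv3 x K) (l : M ≤ N(K)) : K ≤ M :=
  le_sup_right.trans (h.2 _ ⟨CfsgH1.le_normalizer_sup (zpowers_le.2 h.1.n) (zpowers_le.2 hK.n) (mem_zpowers x),
    h.1.pi.sup' hK.pi l⟩ le_sup_left)

namespace SC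
variable (h : SC x)
include h

theorem card : Nat.card (zpowers x) = 3 := (Nat.card_zpowers x).trans h.ord

theorem pg : IsPGroup 3 (zpowers x) := IsPGroup.of_card (n := 1) h.card

theorem cube : x ^ 3 = 1 := h.ord ▸ pow_orderOf_eq_one x

theorem ne_one : x ≠ 1 := fun e => by simpa [e] using h.ord

theorem mem {y : G} (hy : y ∈ zpowers x) : y = 1 ∨ y = x ∨ y = x⁻¹ := by
  classical
  obtain ⟨i, hi, rfl⟩ := Finset.mem_image.1 (mem_zpowers_iff_mem_range_orderOf.1 hy)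
  rw [h.ord, Finset.mem_range] at hi
  interval_cases i
  · simp
  · simp
  · exact Or.inr (Or.inr (eq_inv_of_mul_eq_one_left (by rw [← pow_succ, h.cube])))

theorem cj (g : G) : SC (g * x * g⁻¹) :=
  ⟨(orderOf_conj' _ _).trans h.ord, by rw [← cj_centralizer_singleton, h.cent, cj_zpowers]⟩

theorem inv : SC x⁻¹ := ⟨(orderOf_inv x).trans h.ord, by rw [← cent_zpowers, zpowers_inv, cent_zpowers, h.cent]⟩

theorem syl : IsSylowIn 3 (zpowers x) ⊤ := IsSylowIn.of_maximal le_top h.pg fun Q hQ l _ => by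
  obtain ⟨z, hz, z1, -, k⟩ := exists_central_of_ne_bot hQ le_rfl le_normalizer fun e => h.ne_one (by simpa [e] using l (mem_zpowers x))
  replace k := le_cent1_iff.2 k
  rcases h.mem (h.cent ▸ mem_cent1_symm (k (l (mem_zpowers x)))) with rfl | rfl | rfl
  exacts [(z1 rfl).elim, h.cent ▸ k, zpowers_inv (g := x) ▸ h.inv.cent ▸ k]

theorem conj_or {y : G} (hy : orderOf y = 3) : IsConj x y ∨ IsConj x⁻¹ y := by
  obtain ⟨g, -, l⟩ := h.syl.exists_cj_le (IsPGroup.of_card (n := 1) ((Nat.card_zpowers y).trans hy)) le_top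
  rcases h.mem (l (conj_mem_cj g (mem_zpowers y))) with e | e | e
  · rw [conj_eq_one_iff.1 e] at hy; simp at hy
  exacts [Or.inl (isConj_iff.2 ⟨g, e⟩).symm, Or.inr (isConj_iff.2 ⟨g, e⟩).symm]

theorem of_ord {y : G} (hy : orderOf y = 3) : SC y := by
  rcases h.conj_or hy with k | k <;> obtain ⟨g, rfl⟩ := isConj_iff.1 k
  exacts [h.cj g, h.inv.cj g]

theorem cube_of {g : G} (hg : 3 ∣ orderOf g) : g ^ 3 = 1 := by
  obtain ⟨y, hy, o⟩ := exists_orderOf_eq_prime (H := zpowers g) Nat.prime_three (by rwa [Nat.card_zpowers])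
  have k := h.of_ord o
  rcases k.mem (k.cent ▸ mem_cent1_symm (zpowers_le.2 (self_mem_cent1 g) hy)) with rfl | rfl | rfl
  exacts [one_pow _, k.cube, k.inv.cube]

theorem fpf (hK : IsPi {3}ᶜ K) : K ⊓ C1(x) = ⊥ := h.cent ▸ hK.inf_eq_bot (isPi_compl_compl.2 (isPi_singleton_iff.2 h.pg))

theorem cent_pi (hE : IsPi {3}ᶜ E) (n : E ≠ ⊥) : IsPi {3}ᶜ C(E) := isPi_compl_singleton_iff.2 fun d => by
  obtain ⟨y, hy, o⟩ := exists_orderOf_eq_prime Nat.prime_three d
  exact n (inf_eq_left.2 (le_cent1_iff.2 hy) ▸ (h.of_ord o).fpf hE)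

theorem mod (hK : Inv3 x K) : Nat.card K % 3 = 1 := by
  have := card_modEq_card_inf_cent h.pg (zpowers_le.2 hK.n)
  rwa [cent_zpowers, h.fpf hK.pi, card_bot] at this

theorem nil (hK : Inv3 x K) : Group.IsNilpotent K :=
  nilpotent_of_fpf_prime K _ (zpowers_le.2 hK.n) (h.card ▸ Nat.prime_three) fun y hy n => by
    rcases h.mem hy with rfl | rfl | rfl
    exacts [(n rfl).elim, h.fpf hK.pi, h.inv.fpf hK.pi]

theorem ident (hK : Inv3 x K) {a : G} (ha : a ∈ K) : a * (x * a * x⁻¹) * (x⁻¹ * a * x) = 1 := by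
  have : (a * x) ^ 3 = 1 := h.cube_of (by_contra fun n => h.ne_one (mem_bot.1 (h.fpf (hK.pi.sup
    (isPi_compl_singleton_iff.2 (by rwa [Nat.card_zpowers]) : IsPi {3}ᶜ (zpowers (a * x))) (zpowers_le.2
      (mul_mem (le_normalizer ha) hK.n))) ▸ (⟨(mul_mem_cancel_left (mem_sup_left ha)).1 (mem_sup_right (mem_zpowers _)),
        self_mem_cent1 x⟩ : x ∈ _ ⊓ C1(x)))))
  calc _ = a * x * a * (x ^ 3)⁻¹ * x * a * x := by group
    _ = (a * x) ^ 3 := by rw [h.cube]; simp [pow_succ, mul_assoc]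
    _ = 1 := this

theorem norm_iff {g : G} : g ∈ N(zpowers x) ↔ g * x * g⁻¹ = x ∨ g * x * g⁻¹ = x⁻¹ := by
  refine ⟨fun k => (h.mem (CfsgH2.conj_mem_of_mem_normalizer k (mem_zpowers x))).resolve_left
    (h.cj g).ne_one, fun k => mem_norm_iff_cj.2 ?_⟩
  rcases k with k | k <;> rw [cj_zpowers, k]
  exact zpowers_inv

theorem card_norm : (Nat.card N(zpowers x) = 3 ∧ ¬ IsConj x x⁻¹) ∨ (Nat.card N(zpowers x) = 6 ∧ IsConj x x⁻¹) := by
  have c := card_cls_in N(zpowers x) x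
  rw [h.cent, inf_eq_right.2 le_normalizer, h.card] at c
  by_cases k : IsConj x x⁻¹
  · obtain ⟨g, e⟩ := isConj_iff.1 k
    refine Or.inr ⟨?_, k⟩
    have : {y | ∃ a ∈ N(zpowers x), a * x * a⁻¹ = y} = {x, x⁻¹} := Set.ext fun y =>
      ⟨fun ⟨a, ha, e⟩ => e ▸ h.norm_iff.1 ha, by
        rintro (rfl | rfl)
        exacts [⟨1, one_mem _, by simp⟩, ⟨g, h.norm_iff.2 (Or.inr e), e⟩]⟩
    rw [← c, show Nat.card {y // ∃ a ∈ N(zpowers x), a * x * a⁻¹ = y} = 2 from (congrArg Set.ncard this).trans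
      (Set.ncard_pair fun e => by
        have := orderOf_dvd_of_pow_eq_one (x := x) (n := 2) (by rw [sq]; exact mul_eq_one_iff_eq_inv.2 e)
        rw [h.ord] at this; omega)]
  · refine Or.inl ⟨?_, k⟩
    have : {y | ∃ a ∈ N(zpowers x), a * x * a⁻¹ = y} = {x} := Set.ext fun y =>
      ⟨fun ⟨a, ha, e⟩ => e ▸ (h.norm_iff.1 ha).resolve_right fun e => k (isConj_iff.2 ⟨a, e⟩), by
        rintro rfl; exact ⟨1, one_mem _, by simp⟩⟩
    rw [← c, show Nat.card {y // ∃ a ∈ N(zpowers x), a * x * a⁻¹ = y} = 1 from (congrArg Set.ncard this).trans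
      (Set.ncard_singleton _)]

open CfsgH3 ComplexConjugate in
theorem sum_ge (k : IsConj x x⁻¹) : ∃ r : ℝ, 1 ≤ r ∧ ∑ χ : IrrCharacter G, χ.1 x * χ.1 x * conj (χ.1 x) / χ.1 1 = (r : ℂ) := by
  classical
  have i : ∀ χ : IrrCharacter G, ∃ n : ℤ, χ.1 x = n := fun χ => χ.2.isGen.exists_int_of_pow fun n hn => by
    rcases h.mem (pow_mem (mem_zpowers x) n) with e | e | e
    · have := orderOf_dvd_of_pow_eq_one e
      rw [h.ord] at hn this
      exact absurd (Nat.Coprime.eq_one_of_dvd hn.symm this) (by decide)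
    · rw [e]
    · rw [e]; exact (χ.2.classFun.of_isConj k).symm
  choose f hf using i
  let o : IrrCharacter G := ⟨fun _ => 1, isIrr_one⟩
  have f1 : f o = 1 := Int.cast_eq_one.1 ((hf o).symm : (f o : ℂ) = 1)
  have d1 : deg o = 1 := Nat.cast_eq_one.1 ((deg_spec o).symm : (deg o : ℂ) = 1)
  have s2 : ∑ χ, f χ ^ 2 = 3 := by
    have := sum_irr_mul_conj_of_isConj (IsConj.refl x)
    simp only [hf, map_intCast, h.cent, h.card, ← sq] at this
    exact_mod_cast this
  have s1 : ∑ χ, (deg χ : ℤ) * f χ = 0 := by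
    have := sum_irr_deg_mul h.ne_one
    simp only [hf, deg_spec] at this
    exact_mod_cast this
  refine ⟨∑ χ, (f χ : ℝ) ^ 3 / deg χ, ?_, by simp only [hf, map_intCast, deg_spec]; push_cast; simp only [pow_succ]; simp⟩
  rw [← Finset.add_sum_erase _ _ (Finset.mem_univ o), f1] at s1 s2
  rw [← Finset.add_sum_erase _ _ (Finset.mem_univ o), f1, d1]
  rw [d1] at s1
  generalize Finset.univ.erase o = S at *
  have b : ∀ χ ∈ S, f χ ≠ 0 → f χ = 1 ∨ f χ = -1 := fun χ m n => by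
    have := Finset.single_le_sum (f := fun χ => f χ ^ 2) (fun _ _ => sq_nonneg _) m
    have : -2 < f χ ∧ f χ < 2 := by constructor <;> nlinarith
    omega
  rw [← Finset.sum_filter_of_ne (p := fun χ => f χ ≠ 0) fun _ _ k e => k (by simp [e])] at s1 s2 ⊢
  rw [Finset.sum_congr rfl (g := fun _ => (1 : ℤ)) fun χ m => by
    rcases b χ (Finset.mem_filter.1 m).1 (Finset.mem_filter.1 m).2 with e | e <;> simp [e]] at s2
  obtain ⟨α, β, n, e⟩ := Finset.card_eq_two.1 (show (S.filter fun χ => f χ ≠ 0).card = 2 by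
    simp only [Finset.sum_const, nsmul_eq_mul] at s2; omega)
  have m1 := Finset.mem_filter.1 (e ▸ Finset.mem_insert_self α {β})
  have m2 := Finset.mem_filter.1 (e ▸ Finset.mem_insert_of_mem (Finset.mem_singleton_self β) : β ∈ _)
  rw [e, Finset.sum_pair n] at s1 ⊢
  have p1 := deg_pos α
  have p2 := deg_pos β
  have q1 : (0 : ℝ) < deg α := by exact_mod_cast p1
  have q2 : (0 : ℝ) < deg β := by exact_mod_cast p2
  rcases b α m1.1 m1.2 with e1 | e1 <;> rcases b β m2.1 m2.2 with e2 | e2 <;> rw [e1, e2] at s1 ⊢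
  · omega
  · have := one_div_le_one_div_of_le q1 (show (deg α : ℝ) ≤ deg β by exact_mod_cast (by omega : deg α ≤ deg β))
    norm_num [neg_div] at this ⊢; linarith
  · have := one_div_le_one_div_of_le q2 (show (deg β : ℝ) ≤ deg α by exact_mod_cast (by omega : deg β ≤ deg α))
    norm_num [neg_div] at this ⊢; linarith
  · omega

open Classical in
theorem count0 [Fintype G] : (Finset.univ.filter fun y => IsConj x y ∧ IsConj (y * x) x).card ≤ Nat.card {a // ∃ K, Inv3 x K ∧ a ∈ K} := by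
  rw [Nat.card_eq_fintype_card, Fintype.card_subtype]
  refine Finset.card_le_card_of_injOn (· * x⁻¹) (fun y hy => ?_) fun a _ b _ e => mul_right_cancel e
  obtain ⟨c1, c2⟩ := (Finset.mem_filter.1 hy).2
  obtain ⟨a, rfl⟩ : ∃ a, y = a * x := ⟨y * x⁻¹, by simp⟩
  have o1 : orderOf (a * x) = 3 := (G168.ord_cls c1).trans h.ord
  have o2 : orderOf (a * x * x) = 3 := (G168.ord_cls c2.symm).trans h.ord
  have x2 : x * x = x⁻¹ := eq_inv_of_mul_eq_one_left (by rw [← h.cube]; simp [pow_succ])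
  have i1 : a * (x * a * x⁻¹) * (x⁻¹ * a * x) = 1 := by
    calc _ = a * x * a * (x ^ 3)⁻¹ * x * a * x := by group
      _ = (a * x) ^ 3 := by rw [h.cube]; simp [pow_succ, mul_assoc]
      _ = 1 := o1 ▸ pow_orderOf_eq_one _
  have i2 : a * (x⁻¹ * a * x) * (x * a * x⁻¹) = 1 := by
    calc _ = a * x⁻¹ * a * (x * x) * a * x⁻¹ := by group
      _ = (a * x * x) ^ 3 := by rw [mul_assoc a x x, x2]; simp [pow_succ, mul_assoc]
      _ = 1 := o2 ▸ pow_orderOf_eq_one _
  have c : a * (x * a * x⁻¹) = x * a * x⁻¹ * a := by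
    rw [eq_inv_of_mul_eq_one_left i1, eq_comm, ← mul_eq_one_iff_eq_inv]
    calc _ = x * a * x⁻¹ * (a * (x⁻¹ * a * x) * (x * a * x⁻¹)) * (x * a * x⁻¹)⁻¹ := by group
      _ = 1 := by rw [i2]; group
  let A := zpowers a ⊔ zpowers (x * a * x⁻¹)
  have ca : A ≤ C(A) := by
    have m := mem_cent1.2 c
    simp only [A, cent_sup, cent_zpowers, le_inf_iff, sup_le_iff, zpowers_le]
    exact ⟨⟨self_mem_cent1 _, m⟩, mem_cent1_symm m, self_mem_cent1 _⟩
  have n : x ∈ N(A) := mem_normalizer_of_cj_le (by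
    rw [cj_sup, cj_zpowers, cj_zpowers, sup_le_iff, zpowers_le, zpowers_le]
    refine ⟨mem_sup_right (mem_zpowers _), ?_⟩
    rw [show x * (x * a * x⁻¹) * x⁻¹ = (a * (x * a * x⁻¹))⁻¹ by
      rw [eq_inv_of_mul_eq_one_left i1, inv_inv]
      calc _ = x * x * a * (x * x)⁻¹ := by group
        _ = _ := by rw [x2, inv_inv]]
    exact inv_mem (mul_mem (mem_sup_left (mem_zpowers _)) (mem_sup_right (mem_zpowers _))))
  simp only [mul_inv_cancel_right, Finset.coe_filter, Finset.mem_univ, true_and, Set.mem_ofPred_eq]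
  by_cases d : 3 ∣ Nat.card A
  · obtain ⟨y, hy, o⟩ := exists_orderOf_eq_prime Nat.prime_three d
    have l : A ≤ zpowers y := (h.of_ord o).cent ▸ ca.trans (cent_le_cent1 hy)
    have : x ∈ C1(y) := by
      rcases (h.of_ord o).mem (l (CfsgH2.conj_mem_of_mem_normalizer n hy)) with e | e | e
      · exact ((h.of_ord o).cj x |>.ne_one e).elim
      · exact mem_cent1.2 (mul_inv_eq_iff_eq_mul.1 e).symm
      · refine inv_mem_iff.1 (x2 ▸ mem_cent1.2 (mul_inv_eq_iff_eq_mul.1 ?_).symm)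
        calc _ = x * (x * y * x⁻¹) * x⁻¹ := by group
          _ = x * y⁻¹ * x⁻¹ := by rw [e]
          _ = (x * y * x⁻¹)⁻¹ := by group
          _ = y := by rw [e, inv_inv]
    have m : a ∈ zpowers x := h.cent ▸ (zpowers_le.2 (mem_cent1_symm this)) (l (mem_sup_left (mem_zpowers a)))
    rcases h.mem m with rfl | rfl | rfl
    · exact ⟨⊥, Inv3.bot, one_mem _⟩
    · rw [← sq, ← pow_succ, h.cube] at o2; simp at o2
    · simp at o1
  · exact ⟨A, ⟨n, isPi_compl_singleton_iff.2 d⟩, mem_sup_left (mem_zpowers a)⟩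

open CfsgH3 ComplexConjugate in
theorem count (k : IsConj x x⁻¹) : Nat.card G ≤ 9 * Nat.card {a // ∃ K, Inv3 x K ∧ a ∈ K} := by
  classical
  have := Fintype.ofFinite G
  obtain ⟨r, hr, e⟩ := h.sum_ge k
  have s : ∑ g : G, (if IsConj (g * x * g⁻¹ * x) x then (3 : ℂ) else 0) = Nat.card G * r := by
    rw [← e, Finset.mul_sum, Finset.sum_congr rfl (g := fun g => ∑ χ : IrrCharacter G, χ.1 (g * x * g⁻¹ * x) * conj (χ.1 x))
      fun g _ => by
        split_ifs with c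
        · rw [sum_irr_mul_conj_of_isConj c, card_cent1_conj c, h.cent, h.card]; rfl
        · rw [sum_irr_mul_conj_of_not_isConj c], Finset.sum_comm]
    refine Finset.sum_congr rfl fun χ _ => ?_
    have n : χ.1 1 ≠ 0 := by rw [deg_spec]; exact_mod_cast (deg_pos χ).ne'
    rw [← Finset.sum_mul, (eq_div_iff n).2 ((mul_comm _ _).trans (CfsgH4.sum_conj_mul χ.2 x x))]
    ring
  rw [sum_conj_eq x fun y => if IsConj (y * x) x then (3 : ℂ) else 0, h.cent, h.card] at s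
  simp only [← ite_and, ← Finset.sum_filter, Finset.sum_const, nsmul_eq_mul] at s
  have l := h.count0
  have s' : (3 : ℝ) * ((Finset.univ.filter fun y => IsConj x y ∧ IsConj (y * x) x).card * 3) = Nat.card G * r := by
    exact_mod_cast s
  have : (Nat.card G : ℝ) ≤ 9 * Nat.card {a // ∃ K, Inv3 x K ∧ a ∈ K} := by
    have : ((Finset.univ.filter fun y => IsConj x y ∧ IsConj (y * x) x).card : ℝ) ≤ _ := Nat.cast_le.2 l
    nlinarith [Nat.cast_nonneg (α := ℝ) (Nat.card G)]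
  exact_mod_cast this

theorem quo [K.Normal] (hK : IsPi {3}ᶜ K) : SC (QuotientGroup.mk' K x) := by
  have c : (Nat.card (zpowers x)).Coprime (Nat.card K) := coprime_pgroup_p' h.pg hK
  have := centralizer_map_of_coprime (QuotientGroup.mk' K) (QuotientGroup.mk'_surjective K) (A := zpowers x)
    (by rwa [QuotientGroup.ker_mk']) (Or.inl inferInstance)
  rw [cent_zpowers, h.cent, MonoidHom.map_zpowers, cent_zpowers] at this
  refine ⟨orderOf_eq_prime (by rw [← map_pow, h.cube, map_one]) fun e => h.ne_one (mem_bot.1 (h.fpf hK ▸ ?_)), this⟩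
  exact ⟨(QuotientGroup.eq_one_iff x).1 e, self_mem_cent1 x⟩

theorem sub {H : Subgroup G} (hx : x ∈ H) : SC (⟨x, hx⟩ : H) :=
  ⟨(Subgroup.orderOf_coe _).symm.trans h.ord, le_antisymm (fun y hy => by
    obtain ⟨i, e⟩ := mem_zpowers_iff.1 (h.cent ▸ mem_cent1.2 (congrArg Subtype.val (mem_cent1.1 hy)))
    exact ⟨i, Subtype.ext e⟩) (zpowers_le.2 (self_mem_cent1 _))⟩

/-- no invariant `3'`-subgroups -/
theorem card_of_triv (k : ∀ K, Inv3 x K → K = ⊥) : Nat.card G = 3 ∨ Nat.card G = 6 := by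
  rcases h.card_norm with ⟨c, n⟩ | ⟨c, n⟩
  · have := npc_iff_hall.1 (burnside_hasNPC h.syl (inf_le_right.trans fun g hg => by
      rw [cent_zpowers]
      exact mem_cent1.2 (mul_inv_eq_iff_eq_mul.1 ((h.norm_iff.1 hg).resolve_right
        fun e => n (isConj_iff.2 ⟨g, e⟩))).symm))
    have e := h.syl.hall.card_mul this
    rw [k _ ⟨le_normalizer_Opi _ _ (mem_top x), isPi_Opi _ _⟩, card_bot, card_top, h.card] at e
    exact Or.inl e.symm
  · have l := h.count n
    rw [show Nat.card {a // ∃ K, Inv3 x K ∧ a ∈ K} = 1 from Nat.card_eq_one_iff_unique.2 ⟨⟨fun ⟨a, _, h1, h2⟩ ⟨b, _, h3, h4⟩ =>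
      Subtype.ext ((mem_bot.1 (k _ h1 ▸ h2)).trans (mem_bot.1 (k _ h3 ▸ h4)).symm)⟩, ⟨⟨1, ⊥, Inv3.bot, one_mem _⟩⟩⟩] at l
    have := c ▸ card_subgroup_dvd_card N(zpowers x)
    have := Nat.card_pos (α := G)
    omega

theorem comap_inv [K.Normal] (hK : IsPi {3}ᶜ K) {L : Subgroup (G ⧸ K)} (hL : Inv3 (QuotientGroup.mk' K x) L) :
    Inv3 x (L.comap (QuotientGroup.mk' K)) :=
  ⟨le_normalizer_comap _ hL.n, isPi_compl_singleton_iff.2 (by
    rw [← card_mul_relIndex (le_comap_mk' K L), relIndex_comap_mk', Nat.prime_three.dvd_mul, not_or]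
    exact ⟨isPi_compl_singleton_iff.1 hK, isPi_compl_singleton_iff.1 hL.pi⟩)⟩

theorem index_of_normal [M.Normal] (hM : Max3 x M) : M.index = 3 ∨ M.index = 6 :=
  (h.quo hM.1.pi).card_of_triv fun L hL => by
    have := hM.2 _ (h.comap_inv hM.1.pi hL) (QuotientGroup.le_comap_mk' M L)
    rw [← map_comap_eq_self_of_surjective (QuotientGroup.mk'_surjective M) L, Subgroup.map_eq_bot_iff, QuotientGroup.ker_mk']
    exact this

theorem relIndex (hM : Max3 x M) : M.relIndex N(M) = 3 ∨ M.relIndex N(M) = 6 := by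
  have : (M.subgroupOf N(M)).Normal := normal_in_normalizer
  refine (h.sub hM.1.n).index_of_normal ⟨⟨le_normalizer_of_normal (mem_top _), hM.1.pi.subgroupOf _⟩, fun L hL _ y hy => ?_⟩
  exact hM.le_of_norm ⟨le_normalizer_map _ (mem_map_of_mem _ hL.n), hL.pi.map _⟩ (map_subtype_le L) (mem_map_of_mem _ hy)

theorem cent_le (hM : Max3 x M) (hE : Inv3 x E) (n : E ≠ ⊥) : N(M) ⊓ C(E) ≤ M :=
  hM.le_of_norm ⟨CfsgH1.le_normalizer_inf (le_norm_norm (zpowers_le.2 hM.1.n)) ((zpowers_le.2 hE.n).trans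
    (normalizer_le_normalizer_centralizer E)) (mem_zpowers x), (h.cent_pi hE.pi n).mono inf_le_right⟩ inf_le_left

theorem norm_eq (hM : Max3 x M) {π : Set ℕ} (n : Opi π M ≠ ⊥) : N(Opi π M) = N(M) := by
  refine le_antisymm ?_ (normalizer_le_normalizer_Opi _ _)
  have i := hM.1.opi π
  have l := le_normalizer_Opi π M
  have n2 := normalizer_le_normalizer_Opi {3}ᶜ N(Opi π M)
  have e : Opi {3}ᶜ N(Opi π M) = M := le_antisymm (hM.le_of_norm' ⟨n2 (le_normalizer i.n), isPi_Opi _ _⟩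
    (l.trans (le_normalizer_Opi _ _))) (by
      rw [← Opi_sup_Opi_compl (h.nil hM.1) π, sup_le_iff, Opi_sup_Opi_compl (h.nil hM.1) π]
      exact ⟨le_Opi le_normalizer le_rfl i.pi, (Opi_commute M fun _ _ a => a).trans (le_Opi (cent_le_norm _)
        (normalizer_le_normalizer_centralizer _) (h.cent_pi i.pi n))⟩)
  conv_rhs => rw [← e]
  exact le_normalizer_Opi _ _

end SC

end CfsgH1
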