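import Cfsg.Agent.H1.SC3
import Cfsg.Agent.H1.Super

/-! Self-centralizing elements of order three: the maximal invariant `3'`-subgroups. -/

set_option autoImplicit false
set_option linter.style.haveILetI false
set_option linter.unusedSectionVars false

namespace CfsgH1

open Subgroup Cfsg CfsgH2 CfsgFT

universe u
variable {G : Type u} [Group G] [Finite G] {x x' τ : G} {K M M' E R T : Subgroup G}

theorem two_mul_mem {H : Subgroup G} (i : H.relIndex K = 2) {a b : G} (ha : a ∈ K) (hb : b ∈ K) (na : a ∉ H) (nb : b ∉ H) :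
    a * b ∈ H :=
  (mul_mem_iff_of_index_two (H := H.subgroupOf K) i (a := ⟨a, ha⟩) (b := ⟨b, hb⟩)).2 (iff_of_false na nb)

theorem two_le_norm {H : Subgroup G} (i : H.relIndex K = 2) (l : H ≤ K) : K ≤ N(H) :=
  (normal_subgroupOf_iff_le_normalizer l).1 (normal_of_index_eq_two i)

theorem Inv3.cj (h : Inv3 x K) (g : G) : Inv3 (g * x * g⁻¹) (cj g K) :=
  ⟨cj_normalizer g K ▸ conj_mem_cj g h.n, h.pi.cj g⟩

theorem Max3.cj (h : Max3 x M) (g : G) : Max3 (g * x * g⁻¹) (cj g M) :=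
  ⟨h.1.cj g, fun K k l => (cj_le_iff_le_cj_inv.1 (h.2 _ (by simpa [mul_assoc] using k.cj g⁻¹)
    (cj_le_iff_le_cj_inv.1 l))).trans (by rw [inv_inv])⟩

theorem Inv3.inv (h : Inv3 x K) : Inv3 x⁻¹ K := ⟨inv_mem h.n, h.pi⟩

theorem Max3.inv (h : Max3 x M) : Max3 x⁻¹ M := ⟨h.1.inv, fun K k => h.2 K (inv_inv x ▸ k.inv)⟩

theorem Inv3.inf (h : Inv3 x K) (k : x ∈ N(E)) : Inv3 x (K ⊓ E) :=
  ⟨CfsgH1.le_normalizer_inf (zpowers_le.2 h.n) (zpowers_le.2 k) (mem_zpowers x), h.pi.mono inf_le_left⟩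

theorem Inv3.zen (h : Inv3 x K) : Inv3 x (K ⊓ C(K)) := h.inf (normalizer_le_normalizer_centralizer K h.n)

theorem Max3.opi_norm (h : Max3 x M) : Opi {3}ᶜ N(M) = M :=
  le_antisymm (h.le_of_norm ⟨normalizer_le_normalizer_Opi _ _ (le_normalizer h.1.n), isPi_Opi _ _⟩ (Opi_le _ _))
    (le_Opi le_normalizer le_rfl h.1.pi)

namespace SC
variable (h : SC x)
include h

theorem lemB (ht : τ * x * τ⁻¹ = x⁻¹) (hM : Max3 x M) (hM' : Max3 x M') {π : Set ℕ} {g : G} (e : CfsgH2.cj g (Opi π M) = Opi π M')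
    (n : Opi π M' ≠ ⊥) : M' = M ∨ M' = CfsgH2.cj τ M := by
  rw [← Opi_cj] at e
  have e1 : N(CfsgH2.cj g M) = N(M') := by rw [← (h.cj g).norm_eq (hM.cj g) (e ▸ n), e, h.norm_eq hM' n]
  have e2 : CfsgH2.cj g M = M' := by rw [← (hM.cj g).opi_norm, e1, hM'.opi_norm]
  obtain ⟨k, hk, e3⟩ := ((h.cj g).syl.mono (zpowers_le.2 (e1 ▸ (hM.cj g).1.n)) le_top).exists_cj_eq
    (h.syl.mono (zpowers_le.2 hM'.1.n) le_top)
  rw [← cj_zpowers, cj_cj, cj_eq_iff_mem_normalizer, h.norm_iff] at e3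
  have e4 : M' = CfsgH2.cj (k * g) M := by rw [← cj_cj, e2, cj_eq_iff_mem_normalizer.2 hk]
  have l : C1(x) ≤ N(M) := h.cent ▸ zpowers_le.2 hM.1.n
  rcases e3 with e3 | e3
  · exact Or.inl (e4.trans (cj_eq_iff_mem_normalizer.2 (l (mem_cent1.2 (mul_inv_eq_iff_eq_mul.1 e3).symm))))
  · refine Or.inr ?_
    rw [e4, ← mul_inv_cancel_left τ (k * g), ← cj_cj, cj_eq_iff_mem_normalizer.2 (l (mem_cent1.2 ?_))]
    calc _ = τ⁻¹ * (τ * x * τ⁻¹) * (k * g) := by group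
      _ = _ := by rw [ht, ← e3]; group

theorem three_of (ht : τ * x * τ⁻¹ = x⁻¹) (hM : Max3 x M) (n : τ ∉ N(M)) : M.relIndex N(M) = 3 := by
  have l : C1(x) ≤ N(M) := h.cent ▸ zpowers_le.2 hM.1.n
  have s := h.syl.mono (zpowers_le.2 hM.1.n) le_top
  have := npc_iff_hall.1 (burnside_hasNPC s fun g hg => by
    rw [cent_zpowers]
    refine mem_cent1.2 (mul_inv_eq_iff_eq_mul.1 ((h.norm_iff.1 hg.2).resolve_right fun e => n ?_)).symm
    refine (mul_mem_cancel_left (inv_mem (mem_inf.1 hg).1)).1 (l (mem_cent1.2 ?_))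
    calc _ = g⁻¹ * (g * x * g⁻¹) * τ := by group
      _ = _ := by rw [e, ← ht]; group)
  have e := s.hall.card_mul this
  rw [hM.opi_norm, h.card, ← CfsgH2.card_mul_relIndex (le_normalizer (H := M)), mul_comm] at e
  exact (Nat.eq_of_mul_eq_mul_left Nat.card_pos e).symm

theorem lemC (hM : Max3 x M) {p : ℕ} [Fact p.Prime] (n : Opi {p} M ≠ ⊥) (k : ¬ p ∣ M.relIndex N(M)) :
    IsSylowIn p (Opi {p} M) ⊤ :=
  sylow_of_norm_le ((sylow_Opi_of_nilpotent (h.nil hM.1)).trans_of_not_dvd le_normalizer k) le_top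
    (inf_le_right.trans (h.norm_eq hM n).le)

theorem le_opi (hM : Max3 x M) {p : ℕ} [Fact p.Prime] (hR : IsPGroup p R) : R ⊓ M ≤ Opi {p} M :=
  le_Opi_of_nilpotent (h.nil hM.1) inf_le_right (isPi_singleton_iff.2 (hR.to_le inf_le_left))

theorem cent_le' (hM : Max3 x M) (hE : Inv3 x E) (n : E ≠ ⊥) (l : M ≤ N(E)) : C(E) ≤ M :=
  hM.le_of_norm' ⟨normalizer_le_normalizer_centralizer E hE.n, h.cent_pi hE.pi n⟩
    (l.trans (normalizer_le_normalizer_centralizer E))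

theorem pp (h' : SC x') (hM : Max3 x M) (hM' : Max3 x' M') (hR : IsPGroup 2 R) (l : Opi {2} M ≤ R) (l' : Opi {2} M' ≤ R)
    (i : (Opi {2} M).relIndex R = 2) (i' : (Opi {2} M').relIndex R = 2) (n : Opi {2} M ≠ Opi {2} M') :
    Nat.card (Opi {2} M) ≤ 8 := by
  have I := hM.1.opi {2}
  have I' := hM'.1.opi {2}
  have f := h.le_opi hM hR
  have f' := h'.le_opi hM' hR
  have ne := h.norm_eq hM (π := {2})
  have nl := le_normalizer_Opi {2} M'
  generalize Opi {2} M = P at *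
  generalize Opi {2} M' = P' at *
  have c : Nat.card P = Nat.card P' := by
    have := CfsgH2.card_mul_relIndex l
    have := CfsgH2.card_mul_relIndex l'
    simp only [i, i'] at *; omega
  have n1 : ¬ P ≤ P' := fun k => n (eq_of_le_of_card_le k c.ge)
  have n2 : ¬ P' ≤ P := fun k => n (eq_of_le_of_card_le k c.le).symm
  have j : P'.relIndex P = 2 := by
    have := relIndex_le_of_le_right l (CfsgH2.relIndex_ne_zero P' R)
    have := CfsgH2.relIndex_ne_zero P' P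
    have := mt relIndex_eq_one.1 n1
    omega
  have xP := cj_eq_iff_mem_normalizer.2 I.n
  by_cases z : P' ⊓ C(P') ≤ P
  · exfalso
    have z0 : P' ⊓ C(P') ≠ ⊥ := inf_centralizer_ne_bot_of_nilpotent (h'.nil I') le_rfl le_normalizer
      fun e => n2 (e ▸ bot_le)
    obtain ⟨b, hb, nb⟩ := SetLike.not_le_iff_exists.1 fun k : P ≤ C((P' ⊓ C(P') : Subgroup G)) => n1
      ((le_inf l (k.trans (h'.cent_le' hM' I'.zen z0 (CfsgH1.le_normalizer_inf nl (nl.trans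
        (normalizer_le_normalizer_centralizer _)))))).trans f')
    obtain ⟨w, hw, nw⟩ : ∃ w ∈ P' ⊓ C(P'), w * b ≠ b * w := by simpa [mem_centralizer_iff, and_assoc] using nb
    have c1 : ∀ g ∈ P', g * w * g⁻¹ = w := fun g hg => mul_inv_eq_iff_eq_mul.2 (hw.2 g hg)
    have nb' : b ∉ P' := fun k => nw (hw.2 b k).symm
    have c2 : ∀ g ∈ P, g ∉ P' → g * w * g⁻¹ = b * w * b⁻¹ := fun g hg ng => by
      nth_rw 2 [← c1 _ (two_mul_mem j (inv_mem hb) hg (mt inv_mem_iff.1 nb') ng)]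
      group
    obtain ⟨a, ha, na⟩ : ∃ a ∈ P ⊓ P', x⁻¹ * a * x ∉ P' := by
      by_contra! k
      have := h.mod ⟨inv_mem_iff.1 (mem_normalizer_of_conj_mem fun a ha => by
        rw [inv_inv]; exact ⟨CfsgH2.conj_mem_of_mem_normalizer' I.n ha.1, k a ha⟩), I.pi.mono (inf_le_left (b := P'))⟩
      have := h.mod I
      have := CfsgH2.card_mul_relIndex (inf_le_left : P ⊓ P' ≤ P)
      rw [inf_relIndex_left, j] at this
      omega
    have e1 := h.ident I (z hw)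
    have e2 := h.ident I (mul_mem (mul_mem hb (z hw)) (inv_mem hb))
    have e3 : (a * w * a⁻¹) * (x * ((x⁻¹ * a * x) * w * (x⁻¹ * a * x)⁻¹) * x⁻¹) *
        (x⁻¹ * ((x * a * x⁻¹) * w * (x * a * x⁻¹)⁻¹) * x) = 1 := by
      calc _ = a * (w * (x * w * x⁻¹) * (x⁻¹ * w * x)) * a⁻¹ := by group
        _ = 1 := by rw [e1]; group
    rw [c1 a ha.2, c2 _ (CfsgH2.conj_mem_of_mem_normalizer' I.n ha.1) na] at e3
    refine nw (mul_inv_eq_iff_eq_mul.1 ?_).symm
    by_cases k : x * a * x⁻¹ ∈ P'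
    · rw [c1 _ k, ← e1] at e3
      simpa using e3
    · rw [c2 _ (CfsgH2.conj_mem_of_mem_normalizer I.n ha.1) k, ← e2] at e3
      exact (mul_right_cancel (mul_right_cancel e3)).symm
  · obtain ⟨w, hw, nw⟩ := SetLike.not_le_iff_exists.1 z
    have p0 : P ≠ ⊥ := fun e => n1 (e ▸ bot_le)
    have e : P ⊓ (P' ⊓ CfsgH2.cj x P' ⊓ CfsgH2.cj x (CfsgH2.cj x P')) = ⊥ := by_contra fun e => nw (f ⟨l' hw.1, h.cent_le hM
      (I.inf (cj_eq_iff_mem_normalizer.1 (by rw [cj_inf, cj_inf, cj_three h.ord]; ac_rfl))) e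
      ⟨ne p0 ▸ two_le_norm i l (l' hw.1), cent_anti (inf_le_right.trans (inf_le_left.trans inf_le_left)) hw.2⟩⟩)
    have j1 : (CfsgH2.cj x P').relIndex P = 2 := by rw [← xP, relIndex_cj, j]
    have j2 : (CfsgH2.cj x (CfsgH2.cj x P')).relIndex P = 2 := by rw [← xP, relIndex_cj, j1]
    rw [← relIndex_bot_left, ← e, inf_relIndex_left]
    exact relIndex_inf_le.trans (Nat.mul_le_mul (relIndex_inf_le.trans (Nat.mul_le_mul j.le j1.le)) j2.le)

theorem vt (hM : Max3 x M) (c : Nat.card (Opi {2} M) = 4) (hT : IsPGroup 2 T) (l : Opi {2} M ≤ T) (n : ¬ T ≤ Opi {2} M) :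
    T ⊓ C(T) ≤ Opi {2} M ∧ ∃ s ∈ Opi {2} M, T ⊓ C1(s) = Opi {2} M := by
  have f : T ⊓ C(Opi {2} M) ≤ Opi {2} M := (inf_le_inf_left _ (h.cent_le' hM (hM.1.opi _) (fun e => by simp [e] at c)
    (le_normalizer_Opi _ _))).trans (h.le_opi hM hT)
  generalize Opi {2} M = P at *
  have z : T ⊓ C(T) ≤ P := (inf_le_inf_left _ (cent_anti l)).trans f
  obtain ⟨s, hs, ns⟩ := SetLike.not_le_iff_exists.1 fun k : P ≤ C(T) => n ((le_inf le_rfl (le_centralizer_iff.1 k)).trans f)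
  obtain ⟨w, hw, w1, -, k⟩ := exists_central_of_ne_bot hT le_rfl le_normalizer fun e => n (e ▸ bot_le)
  have a : P ≤ C(P) := (le_centralizer_iff_isMulCommutative).2 (IsPGroup.isMulCommutative_of_card_eq_prime_sq (p := 2) c)
  refine ⟨z, s, hs, le_antisymm ((le_inf inf_le_left (le_centralizer_iff.1 (inf_eq_left.1 (eq_of_le_of_card_le inf_le_left ?_)))).trans f)
    (le_inf l (a.trans (cent_le_cent1 hs)))⟩
  have d := c ▸ card_dvd_of_le (inf_le_left : P ⊓ C((T ⊓ C1(s) : Subgroup G)) ≤ P)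
  have : 2 < Nat.card (P ⊓ C((T ⊓ C1(s) : Subgroup G)) : Subgroup G) := (Set.two_lt_ncard_iff (Set.toFinite _)).2
    ⟨1, w, s, one_mem _, ⟨z ⟨hw, k⟩, cent_anti inf_le_left k⟩, ⟨hs, le_cent1_iff.1 inf_le_right⟩, w1.symm,
      fun e => ns (e ▸ one_mem _), fun e => ns (e ▸ k)⟩
  have := Nat.le_of_dvd (by decide) d
  rw [c]
  interval_cases Nat.card (P ⊓ C((T ⊓ C1(s) : Subgroup G)) : Subgroup G) <;> simp_all

end SC

end CfsgH1
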