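import Mathlib

/-! Numerical lemma for groups with a self-centralizing element of order three. -/

set_option autoImplicit false

namespace CfsgH1.SCn

open Finset

variable {ι : Type*} [DecidableEq ι] {B : Finset ι} {w f e n i : ι → ℕ} {g t c K : ℕ}

theorem sum_prod (J : Finset ι) (h : ∀ j ∈ J, 7 ≤ w j) :
    J = ∅ ∨ (∃ j, J = {j}) ∨ (49 ≤ ∏ j ∈ J, w j ∧ 7 * ∑ j ∈ J, w j ≤ 2 * ∏ j ∈ J, w j) := by
  induction J using Finset.induction_on with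
  | empty => exact Or.inl rfl
  | insert a J na ih =>
    have ha := h a (mem_insert_self _ _)
    rw [prod_insert na, sum_insert na]
    rcases ih fun j m => h j (mem_insert_of_mem m) with rfl | ⟨j, rfl⟩ | ⟨k1, k2⟩
    · exact Or.inr (Or.inl ⟨a, rfl⟩)
    · have := h j (by simp)
      simp only [prod_singleton, sum_singleton]
      exact Or.inr (Or.inr ⟨by nlinarith, by nlinarith⟩)
    · exact Or.inr (Or.inr ⟨by nlinarith, by nlinarith⟩)

theorem rest (hw : ∀ M ∈ B, w M % 6 = 1) (hf : ∀ M ∈ B, f M ≤ c * w M) (hK : ∑ M ∈ B with w M = 1, f M ≤ K) :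
    (∏ M ∈ B, w M = 1 ∧ ∑ M ∈ B, f M ≤ K) ∨ (∃ j ∈ B, 7 ≤ w j ∧ ∏ M ∈ B, w M = w j ∧ ∑ M ∈ B, f M ≤ K + f j) ∨
      (49 ≤ ∏ M ∈ B, w M ∧ 7 * ∑ M ∈ B, f M ≤ 7 * K + 2 * c * ∏ M ∈ B, w M) := by
  have k : ∀ j ∈ B.filter (¬ w · = 1), 7 ≤ w j := fun j m => by
    have := hw j (mem_filter.1 m).1
    have := (mem_filter.1 m).2
    omega
  have s : ∑ j ∈ B with ¬ w j = 1, f j ≤ c * ∑ j ∈ B with ¬ w j = 1, w j := by
    rw [mul_sum]; exact sum_le_sum fun j m => hf j (mem_filter.1 m).1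
  rw [← prod_filter_of_ne (p := (¬ w · = 1)) fun _ _ k => k, ← sum_filter_add_sum_filter_not B (w · = 1)]
  rcases sum_prod _ k with e | ⟨j, e⟩ | ⟨k1, k2⟩
  · rw [e]; exact Or.inl ⟨rfl, hK⟩
  · have m : j ∈ B.filter (¬ w · = 1) := e ▸ mem_singleton_self j
    rw [e]; exact Or.inr (Or.inl ⟨j, (mem_filter.1 m).1, k j m, by simp, by simpa using hK⟩)
  · exact Or.inr (Or.inr ⟨k1, by nlinarith⟩)

theorem n1 {a v m I A : ℕ} (hm : g = 3 * (a + 1) * v * m) (d : g = I * 3 * (1 * v)) (h1 : g ≤ 9 * (1 + (6 / 3 * a + A)))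
    (r : A ≤ 0 + 6 / 3 * (1 * v - 1)) (c2 : 4 ∣ a + 1) (c3 : (a + 1) % 3 = 1) (d2 : v % 6 = 1) (r1 : 7 ≤ v) (d4 : 5 ≤ I)
    (d6 : v = 7 → I % 7 = 1) : g = 168 := by
  have e1 : I = (a + 1) * m := Nat.eq_of_mul_eq_mul_right (show 0 < 3 * v by omega) (by nlinarith)
  obtain ⟨v, rfl⟩ : ∃ v', v = v' + 7 := ⟨v - 7, by omega⟩
  have l : 3 * (a + 1) * (v + 7) * m ≤ 18 * a + 18 * v + 117 := by omega
  have a3 : 3 ≤ a := by omega
  obtain rfl | rfl | m2 : m = 0 ∨ m = 1 ∨ 2 ≤ m := by omega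
  · omega
  · have : 15 ≤ a := by omega
    have : v < 6 := by nlinarith
    obtain rfl : v = 0 := by omega
    omega
  · replace l : 3 * (a + 1) * (v + 7) * 2 ≤ 18 * a + 18 * v + 117 := (Nat.mul_le_mul_left _ m2).trans l
    have : a < 15 := by nlinarith
    obtain rfl : a = 3 := by omega
    have : v < 6 := by nlinarith
    obtain rfl : v = 0 := by omega
    omega

theorem n2 {a v m I A : ℕ} (hm : g = 3 * (a + 1) * v * m) (d : g = I * 6 * (1 * v)) (h1 : g ≤ 9 * (1 + (6 / 3 * a + A)))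
    (r : A ≤ 0 + 6 / 6 * (1 * v - 1)) (c2 : 4 ∣ a + 1) (c3 : (a + 1) % 3 = 1) (r1 : 7 ≤ v) (d4 : 5 ≤ I) : False := by
  have e1 : 2 * I = (a + 1) * m := Nat.eq_of_mul_eq_mul_right (show 0 < 3 * v by omega) (by nlinarith)
  obtain ⟨v, rfl⟩ : ∃ v', v = v' + 7 := ⟨v - 7, by omega⟩
  have l : 3 * (a + 1) * (v + 7) * m ≤ 18 * a + 9 * v + 63 := by omega
  have a3 : 3 ≤ a := by omega
  obtain rfl | rfl | m2 : m = 0 ∨ m = 1 ∨ 2 ≤ m := by omega
  · omega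
  · have : 15 ≤ a := by omega
    nlinarith
  · replace l : 3 * (a + 1) * (v + 7) * 2 ≤ 18 * a + 9 * v + 63 := (Nat.mul_le_mul_left _ m2).trans l
    nlinarith

theorem n3 {v m I A : ℕ} (hm : g = 3 * t * v * m) (d : g = I * 3 * (1 * v)) (h1 : g ≤ 9 * (1 + A))
    (r : A ≤ 9 + 6 / 3 * (1 * v - 1)) (t4 : 4 ∣ t) (d2 : v % 6 = 1) (r1 : 7 ≤ v) (d4 : 5 ≤ I)
    (d6 : v = 7 → I % 7 = 1) : g = 168 := by
  have e1 : I = t * m := Nat.eq_of_mul_eq_mul_right (show 0 < 3 * v by omega) (by nlinarith)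
  have := e1 ▸ t4.mul_right m
  obtain ⟨v, rfl⟩ : ∃ v', v = v' + 7 := ⟨v - 7, by omega⟩
  have : 8 ≤ I := by omega
  have : v < 6 := by
    have : 24 * (v + 7) ≤ g := by nlinarith
    omega
  obtain rfl : v = 0 := by omega
  omega

theorem numerics (Big : ι → Prop) (hB : ∀ M, Big M → (16 ≤ e M ∧ n M = 6 ∧ t = 2 * e M) ∨ (n M = 3 ∧ e M = t))
    (g0 : 0 < g) (t0 : 4 ≤ t) (t4 : 4 ∣ t) (h1 : g ≤ 9 * (1 + ∑ M ∈ B, 6 / n M * (e M * w M - 1))) (h2 : 3 * t * ∏ M ∈ B, w M ∣ g)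
    (h3 : ∀ M ∈ B, g = i M * n M * (e M * w M) ∧ w M % 6 = 1 ∧ e M % 3 = 1 ∧ 5 ≤ i M ∧ (i M = 5 → g = 60) ∧
      (w M = 7 → i M % 7 = 1))
    (h4 : ∀ M ∈ B, ¬ Big M → (e M = 1 ∧ (n M = 3 ∨ n M = 6)) ∨ (e M = 4 ∧ n M = 6 ∧ 8 ≤ t))
    (h5 : #{M ∈ B | e M = 4 ∧ n M = 6} ≤ 3) (h6 : ∀ M ∈ B, ∀ M' ∈ B, Big M → Big M' → M = M')
    (h7 : ∀ M ∈ B, ∀ M' ∈ B, n M = 3 → e M = t → ¬ (e M' = 4 ∧ n M' = 6)) : g = 60 ∨ g = 168 := by
  classical
  have hw : ∀ M ∈ B.filter (¬ Big ·), w M % 6 = 1 := fun M m => (h3 M (mem_filter.1 m).1).2.1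
  have R1 := rest (f := fun M => 6 / n M * (e M * w M - 1)) (c := 4) (K := 9) hw (fun M m => by
      rcases h4 M (mem_filter.1 m).1 (mem_filter.1 m).2 with ⟨a, b | b⟩ | ⟨a, b, -⟩ <;> rw [a, b] <;> omega) (by
    refine (sum_le_sum (g := fun M => if e M = 4 ∧ n M = 6 then 3 else 0) fun M m => ?_).trans ?_
    · obtain ⟨m, k⟩ := mem_filter.1 m
      rcases h4 M (mem_filter.1 m).1 (mem_filter.1 m).2 with ⟨a, b | b⟩ | ⟨a, b, -⟩ <;> simp [a, b, k]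
    · rw [← sum_filter, sum_const, smul_eq_mul]
      have := card_le_card (filter_subset_filter (fun M => e M = 4 ∧ n M = 6)
        ((filter_subset (w · = 1) _).trans (filter_subset (¬ Big ·) B)))
      omega)
  have R2 := fun k : ∀ M ∈ B, ¬ (e M = 4 ∧ n M = 6) => rest (f := fun M => 6 / n M * (e M * w M - 1)) (c := 2) (K := 0) hw
    (fun M m => by
      rcases h4 M (mem_filter.1 m).1 (mem_filter.1 m).2 with ⟨a, b | b⟩ | ⟨a, b, -⟩
      · rw [a, b]; omega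
      · rw [a, b]; omega
      · exact (k M (mem_filter.1 m).1 ⟨a, b⟩).elim) (sum_eq_zero fun M m => by
      obtain ⟨m, l⟩ := mem_filter.1 m
      rcases h4 M (mem_filter.1 m).1 (mem_filter.1 m).2 with ⟨a, -⟩ | ⟨a, b, -⟩
      · simp [a, l]
      · exact (k M (mem_filter.1 m).1 ⟨a, b⟩).elim).le
  rw [← sum_filter_add_sum_filter_not B Big] at h1
  rw [← prod_filter_mul_prod_filter_not B Big] at h2
  obtain ⟨m, hm⟩ := h2
  have m0 : 1 ≤ m := Nat.pos_of_ne_zero fun k => by simp [k] at hm; omega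
  generalize ∑ M ∈ B with ¬ Big M, 6 / n M * (e M * w M - 1) = A at *
  generalize ∏ M ∈ B with ¬ Big M, w M = W at *
  by_cases k : ∃ M ∈ B, Big M
  · obtain ⟨M, hM, b⟩ := k
    rw [show B.filter Big = {M} from eq_singleton_iff_unique_mem.2 ⟨mem_filter.2 ⟨hM, b⟩, fun M' k =>
      h6 _ (mem_filter.1 k).1 _ hM (mem_filter.1 k).2 b⟩] at h1 hm
    rw [sum_singleton] at h1
    rw [prod_singleton] at hm
    obtain ⟨a1, a2, a3, a4, a5, -⟩ := h3 M hM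
    rcases hB M b with ⟨b1, b2, b3⟩ | ⟨b1, b2⟩
    · have : 16 ≤ e M * w M := b1.trans (Nat.le_mul_of_pos_right _ (by omega))
      have hm : g = 6 * (e M * w M) * W * m := by rw [hm, b3]; ring
      rw [b2] at h1 a1
      generalize e M * w M = a at *
      have : 6 * a * W ≤ g := hm ▸ Nat.le_mul_of_pos_right _ m0
      obtain ⟨a, rfl⟩ : ∃ a', a = a' + 1 := ⟨a - 1, by omega⟩
      simp only [Nat.add_sub_cancel] at h1
      exfalso
      rcases R1 with ⟨-, r⟩ | ⟨j, hj, r1, r2, r3⟩ | ⟨r1, r2⟩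
      · nlinarith
      · have : 6 / n j * (e j * w j - 1) ≤ 4 * w j := by
          rcases h4 j (mem_filter.1 hj).1 (mem_filter.1 hj).2 with ⟨a, b | b⟩ | ⟨a, b, -⟩ <;> rw [a, b] <;> omega
        nlinarith
      · nlinarith
    · have k := fun M' m => h7 M hM M' m b1 b2
      have c1 : 4 ≤ e M * w M := (b2 ▸ t0).trans (Nat.le_mul_of_pos_right _ (by omega))
      have c2 : 4 ∣ e M * w M := (b2 ▸ t4).mul_right _
      have c3 : e M * w M % 3 = 1 := by rw [Nat.mul_mod, a3, show w M % 3 = 1 by omega]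
      have hm : g = 3 * (e M * w M) * W * m := by rw [hm, b2]; ring
      rw [b1] at h1 a1
      generalize e M * w M = a at *
      have : 3 * a * W ≤ g := hm ▸ Nat.le_mul_of_pos_right _ m0
      obtain ⟨a, rfl⟩ : ∃ a', a = a' + 1 := ⟨a - 1, by omega⟩
      simp only [Nat.add_sub_cancel] at h1
      rcases R2 k with ⟨-, r⟩ | ⟨j, hj, r1, rfl, r3⟩ | ⟨r1, r2⟩
      · exact Or.inl (a5 (le_antisymm (by nlinarith) a4))
      · obtain ⟨hj, nj⟩ := mem_filter.1 hj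
        obtain ⟨d1, d2, -, d4, -, d6⟩ := h3 j hj
        rcases h4 j hj nj with ⟨p, q | q⟩ | ⟨p, q, -⟩
        · rw [p, q] at r3 d1
          exact Or.inr (n1 hm d1 h1 r3 c2 c3 d2 r1 d4 d6)
        · rw [p, q] at r3 d1
          exact (n2 hm d1 h1 r3 c2 c3 r1 d4).elim
        · exact (k j hj ⟨p, q⟩).elim
      · nlinarith
  · rw [filter_eq_empty_iff.2 fun M m b => k ⟨M, m, b⟩] at h1 hm
    simp only [sum_empty, prod_empty, one_mul, zero_add] at h1 hm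
    have l : 3 * t * W ≤ g := hm ▸ Nat.le_mul_of_pos_right _ m0
    have one : ∀ j ∈ B.filter (¬ Big ·), 7 ≤ w j → W = w j → A ≤ 9 + 6 / n j * (e j * w j - 1) → g = 60 ∨ g = 168 := by
      rintro j hj r1 rfl r3
      obtain ⟨hj, nj⟩ := mem_filter.1 hj
      obtain ⟨d1, d2, -, d4, -, d6⟩ := h3 j hj
      rcases h4 j hj nj with ⟨p, q | q⟩ | ⟨p, q, -⟩ <;> rw [p, q] at r3 d1
      · exact Or.inr (n3 hm d1 h1 r3 t4 d2 r1 d4 d6)
      · have : 30 * w j ≤ g := by nlinarith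
        omega
      · have : 120 * w j ≤ g := by nlinarith
        omega
    by_cases v : ∃ M ∈ B, e M = 4 ∧ n M = 6
    · obtain ⟨M, hM, v1, v2⟩ := v
      obtain ⟨d1, d2, -, d4, -, -⟩ := h3 M hM
      have t8 : 8 ≤ t := by
        rcases h4 M hM fun b => k ⟨M, hM, b⟩ with a | a <;> omega
      rw [v1, v2] at d1
      have : 1 ≤ w M := by omega
      rcases R1 with ⟨-, r⟩ | ⟨j, hj, r1, r2, r3⟩ | ⟨r1, r2⟩
      · nlinarith
      · exact one j hj r1 r2 r3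
      · nlinarith
    · rcases R2 fun M m b => v ⟨M, m, b⟩ with ⟨rfl, r⟩ | ⟨j, hj, r1, r2, r3⟩ | ⟨r1, r2⟩
      · omega
      · exact one j hj r1 r2 (by omega)
      · nlinarith

end CfsgH1.SCn
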