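import Cfsg.Agent.H1.SC3b
import Cfsg.Agent.H1.SC3n
import Cfsg.Agent.H8.Small1
import Cfsg.Agent.H2.CSize

/-! Simple groups with a self-centralizing element of order three have order 60 or 168. -/

set_option autoImplicit false
set_option linter.style.haveILetI false
set_option linter.unusedSectionVars false

namespace CfsgH1

open Subgroup Cfsg CfsgH2 CfsgFT

universe u
variable {G : Type u} [Group G] [Finite G] {x x' τ : G} {K M M' E R T : Subgroup G}

theorem card_filter_mem [Fintype G] [DecidableEq G] (K : Subgroup G) [DecidablePred (· ∈ K)] :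
    ((Finset.univ.filter (· ∈ K)).erase 1).card = Nat.card K - 1 := by
  rw [Finset.card_erase_of_mem (by simp), Nat.card_eq_fintype_card, Fintype.card_subtype]

theorem sixty {g : ℕ} (f : g ∣ 60) (d3 : 3 ∣ g) (d4 : 4 ∣ g) (pq : ¬ g ∣ 12) : g = 60 := by
  have := Nat.le_of_dvd (by decide) f
  obtain ⟨k, rfl⟩ : 12 ∣ g := by omega
  have : k ≤ 5 := by omega
  interval_cases k <;> simp_all

namespace SC
variable (h : SC x)
include h

theorem exR (hM : Max3 x M) (n : M.relIndex N(M) = 6) : ∃ R : Subgroup G, IsPGroup 2 R ∧ Opi {2} M ≤ R ∧ (Opi {2} M).relIndex R = 2 ∧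
    Nat.card R = 2 * Nat.card (Opi {2} M) ∧ (8 < Nat.card (Opi {2} M) → IsSylowIn 2 R ⊤) := by
  obtain ⟨R, hR, l⟩ := IsSylowIn.exists_le (isPGroup_Opi (p := 2) M) ((Opi_le _ _).trans le_normalizer)
  have i : (Opi {2} M).relIndex R = 2 := by
    obtain ⟨k, e⟩ := hR.pgroup.index ((Opi {2} M).subgroupOf R)
    have e1 := relIndex_mul_relIndex _ _ _ l hR.le
    have := hR.not_dvd
    have := (sylow_Opi_of_nilpotent (p := 2) (h.nil hM.1)).not_dvd
    rw [← relIndex_mul_relIndex _ M _ (Opi_le _ _) le_normalizer, n] at e1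
    rw [Subgroup.relIndex, e] at e1 ⊢
    rcases k with _ | _ | k
    · omega
    · rfl
    · rw [pow_succ, pow_succ, mul_assoc (2 ^ k), mul_comm (2 ^ k), mul_assoc] at e1; omega
  refine ⟨R, hR.pgroup, l, i, by rw [← CfsgH2.card_mul_relIndex l, i, mul_comm], fun c => sylow_of_norm_le hR le_top fun g hg => ?_⟩
  have e := cj_eq_iff_mem_normalizer.2 (mem_inf.1 hg).2
  rw [← h.norm_eq hM (π := {2}) fun e => by simp [e] at c, ← cj_eq_iff_mem_normalizer, ← Opi_cj]
  by_contra k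
  exact (h.pp (h.cj g) hM (hM.cj g) hR.pgroup l (by rw [Opi_cj, ← e]; exact cj_mono g l) i
    (by rw [Opi_cj, ← e, relIndex_cj, i]) (Ne.symm k)).not_gt c

theorem opi_ne (hM : Max3 x M) {p : ℕ} [Fact p.Prime] (d : p ∣ Nat.card M) : Opi {p} M ≠ ⊥ := fun e =>
  (sylow_Opi_of_nilpotent (h.nil hM.1)).eq_bot_iff.1 e d

theorem lemC' (hM : Max3 x M) {p : ℕ} [hp : Fact p.Prime] (d : p ∣ Nat.card (Opi {2}ᶜ M)) :
    Opi {p} M ≠ ⊥ ∧ IsSylowIn p (Opi {p} M) ⊤ := by
  have d' := d.trans (card_dvd_of_le (Opi_le _ _))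
  refine ⟨h.opi_ne hM d', h.lemC hM (h.opi_ne hM d') fun k => ?_⟩
  have k : p ∣ 2 * 3 := by rcases h.relIndex hM with e | e <;> rw [e] at k; exacts [k.mul_left _, k]
  rcases hp.1.dvd_mul.1 k with k | k
  · exact isPi_Opi {2}ᶜ M p hp.1 d ((Nat.prime_dvd_prime_iff_eq hp.1 Nat.prime_two).1 k)
  · exact hM.1.pi p hp.1 d' ((Nat.prime_dvd_prime_iff_eq hp.1 Nat.prime_three).1 k)

theorem card_simple (hG : CfsgH8.NAS G) (k : IsConj x x⁻¹) : Nat.card G = 60 ∨ Nat.card G = 168 := by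
  classical
  obtain ⟨τ, ht⟩ := isConj_iff.1 k
  obtain ⟨T, hT⟩ := IsSylowIn.exists_sylowIn (p := 2) (⊤ : Subgroup G)
  have t4 : 4 ∣ Nat.card T := by
    obtain ⟨n, e⟩ := hT.pgroup.exists_card_eq
    rcases n with _ | _ | n
    · have := (Nat.card_eq_one_iff_unique.1 e).1
      exact (hG.not_solv (solv_of_cyclic_two hT inferInstance)).elim
    · exact (hG.not_solv (solv_of_cyclic_two hT (isCyclic_of_prime_card (p := 2) e))).elim
    · exact ⟨2 ^ n, by rw [e]; ring⟩
  have d3 : 3 ∣ Nat.card G := h.card ▸ card_subgroup_dvd_card _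
  have d4 : 4 ∣ Nat.card G := t4.trans (card_subgroup_dvd_card _)
  have pq : ¬ Nat.card G ∣ 12 := hG.not_pq (a := 2) (b := 1) Nat.prime_two Nat.prime_three
  have := Fintype.ofFinite (Subgroup G)
  have := Fintype.ofFinite G
  obtain ⟨ι, hι⟩ : ∃ ι : Subgroup G → ℕ, Function.Injective ι := Countable.exists_injective_nat _
  obtain ⟨B, hB⟩ : ∃ B : Finset (Subgroup G), ∀ M, M ∈ B ↔ Max3 x M ∧ ι M ≤ ι (CfsgH2.cj τ M) :=
    ⟨Finset.univ.filter _, fun M => Finset.mem_filter_univ M⟩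
  have mx : ∀ M ∈ B, Max3 x M := fun M m => ((hB M).1 m).1
  have t2 : ∀ M, Max3 x M → CfsgH2.cj τ (CfsgH2.cj τ M) = M := fun M hM => by
    rw [cj_cj, cj_eq_iff_mem_normalizer]
    refine (h.cent ▸ zpowers_le.2 hM.1.n : C1(x) ≤ _) (mem_cent1.2 (mul_inv_eq_iff_eq_mul.1 ?_).symm)
    calc _ = τ * (τ * x * τ⁻¹) * τ⁻¹ := by group
      _ = τ * x⁻¹ * τ⁻¹ := by rw [ht]
      _ = (τ * x * τ⁻¹)⁻¹ := by group
      _ = x := by rw [ht, inv_inv]
  have uq : ∀ M ∈ B, ∀ M' ∈ B, ∀ π g, CfsgH2.cj g (Opi π M) = Opi π M' → Opi π M' ≠ ⊥ → M = M' := fun M m M' m' π g e n => by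
    rcases h.lemB ht (mx M m) (mx M' m') e n with rfl | rfl
    · rfl
    · exact hι (le_antisymm ((hB M).1 m).2 (((hB _).1 m').2.trans (by rw [t2 M (mx M m)])))
  have ew : ∀ M ∈ B, Nat.card (Opi {2} M) * Nat.card (Opi {2}ᶜ M) = Nat.card M := fun M m =>
    (hall_Opi_of_nilpotent (h.nil (mx M m).1) _).card_mul (hall_Opi_of_nilpotent (h.nil (mx M m).1) _)
  have t8 : ∀ M ∈ B, M.relIndex N(M) = 6 → 2 * Nat.card (Opi {2} M) ≤ Nat.card T := fun M m n => by
    obtain ⟨R, h1, -, -, c, -⟩ := h.exR (mx M m) n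
    exact c ▸ hT.card_le h1 le_top
  have vt : ∀ M ∈ B, Nat.card (Opi {2} M) = 4 ∧ M.relIndex N(M) = 6 → ∀ T, IsSylowIn 2 T ⊤ → ∃ g s,
      T ⊓ C(T) ≤ CfsgH2.cj g (Opi {2} M) ∧ s ∈ CfsgH2.cj g (Opi {2} M) ∧ T ⊓ C1(s) = CfsgH2.cj g (Opi {2} M) := by
    rintro M m ⟨c, n⟩ T' hT'
    obtain ⟨g, -, l⟩ := hT'.exists_cj_le (isPGroup_Opi M) le_top
    have := t8 M m n
    rw [← Opi_cj] at l
    obtain ⟨h1, s, h2, h3⟩ := (h.cj g).vt ((mx M m).cj g) (by rw [Opi_cj, card_cj, c]) hT'.pgroup l fun k => by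
      have := card_le_of_le k
      rw [Opi_cj, card_cj, hT'.card_eq_card hT] at this
      omega
    exact ⟨g, s, Opi_cj g M ▸ ⟨h1, h2, h3⟩⟩
  refine SCn.numerics (B := B) (w := fun M => Nat.card (Opi {2}ᶜ M)) (e := fun M => Nat.card (Opi {2} M))
    (n := fun M => M.relIndex N(M)) (i := fun M => N(M).index) (t := Nat.card T) _ (fun _ k => k) Nat.card_pos
    (Nat.le_of_dvd Nat.card_pos t4) t4 ((h.count k).trans (Nat.mul_le_mul_left _ ?_)) ?_ (fun M m => ?_) (fun M m b => ?_) ?_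
    (fun M m M' m' b b' => ?_) fun M m M' m' n e v => ?_
  · rw [Nat.card_eq_fintype_card, Fintype.card_subtype]
    refine (Finset.card_le_card (t := insert 1 (B.biUnion fun M => (Finset.univ.filter (· ∈ M)).erase 1 ∪
      (Finset.univ.filter (· ∈ CfsgH2.cj τ M)).erase 1)) fun a ha => ?_).trans ((Finset.card_insert_le _ _).trans
        ((add_comm _ 1).trans_le (Nat.add_le_add_left (Finset.card_biUnion_le.trans (Finset.sum_le_sum fun M m => ?_)) 1)))
    · obtain ⟨K, hK, ha⟩ := (Finset.mem_filter.1 ha).2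
      obtain ⟨M, hM, l⟩ := hK.exists_max
      by_cases a1 : a = 1
      · simp [a1]
      simp only [Finset.mem_insert, a1, Finset.mem_biUnion, Finset.mem_union, Finset.mem_erase, Finset.mem_filter_univ,
        false_or, ne_eq, not_false_eq_true, true_and]
      rcases le_total (ι M) (ι (CfsgH2.cj τ M)) with c | c
      · exact ⟨M, (hB M).2 ⟨hM, c⟩, Or.inl (l ha)⟩
      · exact ⟨_, (hB _).2 ⟨inv_inv x ▸ (ht ▸ hM.cj τ).inv, (t2 M hM).symm ▸ c⟩, Or.inr ((t2 M hM).symm ▸ l ha)⟩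
    · rw [ew M m]
      by_cases n : τ ∈ N(M)
      · rw [cj_eq_iff_mem_normalizer.2 n, Finset.union_self, card_filter_mem]
        rcases h.relIndex (mx M m) with e | e <;> rw [e] <;> omega
      · refine (Finset.card_union_le _ _).trans ?_
        rw [h.three_of ht (mx M m) n, card_filter_mem, card_filter_mem, card_cj]
        omega
  · have c : ¬ 3 ∣ Nat.card T := fun k => by
      obtain ⟨n, e⟩ := hT.pgroup.exists_card_eq
      exact absurd (Nat.prime_three.dvd_of_dvd_pow (e ▸ k)) (by decide)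
    refine Nat.Coprime.mul_dvd_of_dvd_of_dvd (Nat.Coprime.prod_right fun M m => Nat.Coprime.mul_left
      (isPi_compl_singleton_iff_coprime.1 ((mx M m).1.opi _).pi).symm (coprime_pgroup_p' hT.pgroup (isPi_Opi _ _)))
      (((Nat.Prime.coprime_iff_not_dvd Nat.prime_three).2 c).mul_dvd_of_dvd_of_dvd d3 (card_subgroup_dvd_card _))
      (Finset.prod_dvd_of_isRelPrime (fun M m M' m' n => Nat.coprime_iff_isRelPrime.1 (Nat.coprime_of_dvd fun p hp d d' => ?_))
        fun M _ => card_subgroup_dvd_card _)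
    have := Fact.mk hp
    obtain ⟨g, -, e⟩ := (h.lemC' (mx M m) d).2.exists_cj_eq (h.lemC' (mx M' m') d').2
    exact n (uq M m M' m' _ g e (h.lemC' (mx M' m') d').1)
  · have hM := mx M m
    have f := hG.dvd_fact (hG.norm_ne_top (H := M) (fun e => by
      have := h.card_of_triv fun K hK => le_bot_iff.1 (e ▸ hM.2 K hK (e ▸ bot_le))
      omega) fun e => isPi_compl_singleton_iff.1 hM.1.pi (by rwa [e, card_top]))
    have := isPi_compl_singleton_iff.1 (isPi_Opi {2}ᶜ M)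
    have := h.mod (hM.1.opi {2}ᶜ)
    refine ⟨?_, by omega, h.mod (hM.1.opi _), not_lt.1 fun l => pq (Nat.dvd_of_mul_dvd_mul_left two_pos
      (f.trans (Nat.factorial_dvd_factorial (n := 4) (by omega)))), fun e => ?_, fun e => ?_⟩
    · rw [ew M m, mul_assoc, mul_comm _ (Nat.card M), CfsgH2.card_mul_relIndex le_normalizer, index_mul_card]
    · rw [e] at f
      exact sixty (Nat.dvd_of_mul_dvd_mul_left two_pos f) d3 d4 pq
    · have : Fact (Nat.Prime 7) := ⟨by decide⟩
      obtain ⟨h1, h2⟩ := h.lemC' hM (p := 7) e.symm.dvd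
      exact relIndex_top_right N(M) ▸ index_modEq_one h2 ((Opi_le _ _).trans le_normalizer) le_top
        (inf_le_right.trans (h.norm_eq hM h1).le)
  · have hM := mx M m
    by_cases e : Opi {2} M = ⊥
    · exact Or.inl ⟨by simp [e], h.relIndex hM⟩
    rcases h.relIndex hM with n | n
    · exact (b (Or.inr ⟨n, (h.lemC hM e (by rw [n]; decide)).card_eq_card hT⟩)).elim
    obtain ⟨R, -, -, -, c, s⟩ := h.exR hM n
    have := t8 M m n
    have := h.mod (hM.1.opi {2})
    have := (one_lt_card_iff_ne_bot _).2 e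
    obtain ⟨j, ej⟩ := (isPGroup_Opi (p := 2) M).exists_card_eq
    by_cases l : 16 ≤ Nat.card (Opi {2} M)
    · exact (b (Or.inl ⟨l, n, c ▸ hT.card_eq_card (s (by omega))⟩)).elim
    have : j < 4 := (Nat.pow_lt_pow_iff_right one_lt_two).1 (by omega)
    refine Or.inr ⟨?_, n, ?_⟩ <;> interval_cases j <;> omega
  · choose! g s hs using fun M (m : M ∈ B.filter fun M => Nat.card (Opi {2} M) = 4 ∧ M.relIndex N(M) = 6) =>
      vt M (Finset.mem_filter.1 m).1 (Finset.mem_filter.1 m).2 T hT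
    generalize hV : B.filter (fun M => Nat.card (Opi {2} M) = 4 ∧ M.relIndex N(M) = 6) = V at *
    have hV : ∀ M ∈ V, M ∈ B ∧ Nat.card (Opi {2} M) = 4 ∧ M.relIndex N(M) = 6 := fun M m => Finset.mem_filter.1 (hV ▸ m)
    have c := Finset.card_biUnion (s := V) (t := fun M => Finset.univ.filter fun y => ∃ a ∈ T, a * s M * a⁻¹ = y)
      fun M m M' m' n => Finset.disjoint_filter.2 fun y _ ⟨a, ha, e⟩ ⟨b, hb, e'⟩ => n (uq M (hV M m).1 M' (hV M' m').1 {2}
        ((b * g M')⁻¹ * (a * g M)) (by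
          rw [← cj_cj, cj_eq_iff_eq_cj_inv, inv_inv, ← cj_cj, ← cj_cj, ← (hs M m).2.2, ← (hs M' m').2.2, cj_inf, cj_inf,
            cj_eq_of_mem ha, cj_eq_of_mem hb, cj_centralizer_singleton, cj_centralizer_singleton, e, e'])
        fun e => by simpa [e] using (hV M' m').2.1)
    obtain ⟨q, hq⟩ := t4
    rw [Finset.sum_congr rfl (g := fun _ => q) fun M m => by
      have := card_cls_in T (s M)
      rw [(hs M m).2.2, card_cj, (hV M m).2.1, Nat.card_eq_fintype_card, Fintype.card_subtype] at this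
      omega, Finset.sum_const, smul_eq_mul] at c
    have l := Finset.card_le_card (t := (Finset.univ.filter (· ∈ T)).erase 1) (show V.biUnion (fun M =>
        Finset.univ.filter fun y => ∃ a ∈ T, a * s M * a⁻¹ = y) ⊆ _ from fun y hy => by
      obtain ⟨M, m, hy⟩ := Finset.mem_biUnion.1 hy
      obtain ⟨a, ha, rfl⟩ := (Finset.mem_filter.1 hy).2
      obtain ⟨-, h2, h3⟩ := hs M m
      refine Finset.mem_erase.2 ⟨fun e => ?_, (Finset.mem_filter_univ _).2 (mul_mem (mul_mem ha (h3.ge h2).1) (inv_mem ha))⟩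
      have := card_le_of_le (h3 ▸ le_inf le_rfl fun y _ => mem_cent1.2 (by simp [conj_eq_one_iff.1 e]) :
        T ≤ CfsgH2.cj (g M) (Opi {2} M))
      have := t8 M (hV M m).1 (hV M m).2.2
      rw [card_cj] at *
      have := (hV M m).2.1
      omega)
    rw [c, card_filter_mem, hq] at l
    have := Nat.card_pos (α := T)
    by_contra n
    have := Nat.mul_le_mul_right q (show 4 ≤ V.card by omega)
    omega
  · have := h.mod ((mx M m).1.opi {2})
    have := h.mod ((mx M' m').1.opi {2})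
    have := Nat.le_of_dvd Nat.card_pos t4
    rcases b with ⟨b1, b2, b3⟩ | ⟨b1, b2⟩ <;> rcases b' with ⟨c1, c2, c3⟩ | ⟨c1, c2⟩
    · obtain ⟨R, -, l, i, -, s⟩ := h.exR (mx M m) b2
      obtain ⟨R', r, l', i', -, s'⟩ := h.exR (mx M' m') c2
      obtain ⟨g, -, rfl⟩ := (s (by omega)).exists_cj_eq (s' (by omega))
      refine uq M m M' m' {2} g (by_contra fun n => ?_) fun e => by simp [e] at c1
      have := h.pp (h.cj g) (mx M' m') ((mx M m).cj g) r l' (by rw [Opi_cj]; exact cj_mono g l) i'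
        (by rw [Opi_cj, relIndex_cj, i]) (by rw [Opi_cj]; exact Ne.symm n)
      omega
    · omega
    · omega
    · obtain ⟨g, -, e⟩ := (hT.of_card_le (isPGroup_Opi M) le_top b2.ge).exists_cj_eq (hT.of_card_le (isPGroup_Opi M') le_top c2.ge)
      exact uq M m M' m' _ g e fun e => by rw [e, card_bot] at c2; omega
  · obtain ⟨g, s, h1, h2, h3⟩ := vt M' m' v _ (hT.of_card_le (isPGroup_Opi M) le_top e.ge)
    have I := (mx M m).1.opi {2}
    have := h.mod I.zen
    have := t8 M' m' v.2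
    have v1 := v.1
    have := (one_lt_card_iff_ne_bot _).2 (inf_centralizer_ne_bot_of_nilpotent (h.nil I) le_rfl le_normalizer
      fun k => by rw [k, card_bot] at e; omega)
    have := card_le_of_le h1
    have := card_le_of_le (h3 ▸ le_inf le_rfl (le_cent1_iff.2 ((eq_of_le_of_card_le h1 (by rw [card_cj] at *; omega)).ge h2).2) :
      Opi {2} M ≤ CfsgH2.cj g (Opi {2} M'))
    rw [card_cj] at this
    omega

end SC

end CfsgH1
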