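import Cfsg.Agent.H1.SC3c
import Cfsg.Agent.H1.Sm
import Cfsg.Agent.S3779

/-! The Feit–Thompson theorem on self-centralizing subgroups of order three. -/

set_option autoImplicit false
set_option linter.style.haveILetI false
set_option linter.unusedSectionVars false

namespace CfsgH1

open Subgroup Cfsg CfsgH2 CfsgFT commutatorElement

universe u
variable {G : Type u} [Group G] [Finite G] {x y τ : G} {K M L H T : Subgroup G}

namespace SC
variable (h : SC x)
include h

theorem npc (hx : x ∈ H) (n : ∀ g ∈ H, g * x * g⁻¹ ≠ x⁻¹) : 3 * Nat.card (Opi {3}ᶜ H) = Nat.card H := by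
  have s := h.syl.mono (zpowers_le.2 hx) le_top
  exact (congrArg (· * _) h.card).symm.trans <| s.hall.card_mul (npc_iff_hall.1 (burnside_hasNPC s fun g hg => by
    rw [cent_zpowers]
    exact mem_cent1.2 (mul_inv_eq_iff_eq_mul.1 ((h.norm_iff.1 hg.2).resolve_right (n g hg.1))).symm))

theorem str0 (k : Opi {3}ᶜ (⊤ : Subgroup G) = ⊥) : Nat.card G = 3 ∨ Nat.card G = 6 ∨ (CfsgH8.NAS G ∧ IsConj x x⁻¹) := by
  rcases h.card_norm with ⟨-, n⟩ | ⟨c, n⟩
  · have := h.npc (mem_top x) fun g _ e => n (isConj_iff.2 ⟨g, e⟩)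
    rw [k, card_bot, card_top] at this
    exact Or.inl this.symm
  refine Or.inr (or_iff_not_imp_left.2 fun n6 => ⟨⟨?_, ?_⟩, n⟩)
  · have : Nontrivial G := ⟨x, 1, h.ne_one⟩
    refine ⟨fun N hN => or_iff_not_imp_left.2 fun n0 => ?_⟩
    have o : ∀ K : Subgroup G, K.Normal → IsPi {3}ᶜ K → K = ⊥ := fun K _ p =>
      le_bot_iff.1 (k ▸ le_Opi le_top le_normalizer_of_normal p)
    have s := h.syl.inf_of_normalizer' (N := N) le_top le_normalizer_of_normal
    have l : zpowers x ≤ N := inf_eq_left.1 (eq_of_le_of_card_le inf_le_left (h.card ▸ Nat.le_of_dvd Nat.card_pos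
      (dvd_card_of_isPGroup s.pgroup fun e => n0 (o N hN (isPi_compl_singleton_iff.2 (s.eq_bot_iff.1 e))))))
    have f := sylow_frattini_sup (h.syl.mono l le_top) le_top le_normalizer_of_normal
    rw [top_inf_eq] at f
    by_cases t : ∃ g ∈ N, g * x * g⁻¹ = x⁻¹
    · obtain ⟨g, hg, e⟩ := t
      rw [← f, eq_comm, sup_eq_left]
      intro a ha
      have l : C1(x) ≤ N := h.cent ▸ l
      rcases h.norm_iff.1 ha with e' | e'
      · exact l (mem_cent1.2 (mul_inv_eq_iff_eq_mul.1 e').symm)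
      · refine (mul_mem_cancel_left (inv_mem hg)).1 (l (mem_cent1.2 ?_))
        calc _ = g⁻¹ * (g * x * g⁻¹) * a := by group
          _ = _ := by rw [e, ← e']; group
    · have := h.npc (l (mem_zpowers x)) fun g hg e => t ⟨g, hg, e⟩
      rw [o _ (normalizer_eq_top_iff.1 (top_le_iff.1 (le_normalizer_Opi_of _ le_normalizer_of_normal))) (isPi_Opi _ _),
        card_bot] at this
      rw [← eq_of_le_of_card_le l (by rw [h.card]; omega), sup_eq_right.2 le_normalizer] at f
      rw [f, card_top] at c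
      exact (n6 c).elim
  · obtain ⟨g, e⟩ := isConj_iff.1 n
    refine ⟨g, x, fun e' => ?_⟩
    rw [e', mul_inv_cancel_right] at e
    have := orderOf_dvd_of_pow_eq_one (x := x) (n := 2) (by rw [sq]; exact mul_eq_one_iff_eq_inv.2 e)
    rw [h.ord] at this; omega

theorem six (c : Nat.card G = 6) : Nonempty (G ≃* Equiv.Perm (Fin 3)) := by
  obtain ⟨t, ht⟩ := exists_prime_orderOf_dvd_card' (G := G) 2 (by rw [c]; decide)
  have c2 : Nat.card (zpowers t) = 2 := (Nat.card_zpowers t).trans ht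
  have l := c2 ▸ card_le_of_le (normalCore_le (zpowers t))
  have := h.mod ⟨le_normalizer_of_normal (mem_top x), (isPi_compl_singleton_iff.2 (by rw [c2]; decide)).mono
    (normalCore_le (zpowers t))⟩
  obtain ⟨f, hf⟩ := exists_embed (H := zpowers t) (n := 3) (card_eq_one.1 (by omega)) (by
    have := (zpowers t).card_mul_index
    rw [c2, c] at this; omega)
  exact ⟨MulEquiv.ofBijective f ((Nat.bijective_iff_injective_and_card f).2 ⟨hf, by rw [c]; simp; rfl⟩)⟩

theorem move (hy : orderOf y = 3) (hL : Inv3 y L) : ∃ g, Inv3 x (CfsgH2.cj g L) := by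
  rcases h.conj_or hy with k | k <;> obtain ⟨g, e⟩ := isConj_iff.1 k.symm
  exacts [⟨g, e ▸ hL.cj g⟩, ⟨g, inv_inv x ▸ (e ▸ hL.cj g).inv⟩]

theorem cent_le_core [L.Normal] (p : IsPi {3}ᶜ L) (n : L ≠ ⊥) : C(L) ≤ Opi {3}ᶜ ⊤ :=
  le_Opi le_top le_normalizer_of_normal (h.cent_pi p n)

theorem pgrp [K.Normal] (hK : Opi {3}ᶜ ⊤ = K) {p : ℕ} [Fact p.Prime] (d : p ∣ Nat.card K) {L : Subgroup (G ⧸ K)}
    (hL : Inv3 (QuotientGroup.mk' K x) L) : IsPGroup p L := by
  have pi : IsPi {3}ᶜ K := hK ▸ isPi_Opi _ _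
  have I := h.comap_inv pi hL
  have nK := h.nil ⟨le_normalizer_of_normal (mem_top x), pi⟩
  have : (Opi {p} K).Normal := normalizer_eq_top_iff.1 (top_le_iff.1 (le_normalizer_Opi_of _ le_normalizer_of_normal))
  have l := (Opi_commute (π := {p}ᶜ) (σ := {p}) _ fun _ _ a => a).trans ((cent_anti (le_Opi_of_nilpotent (h.nil I)
    ((Opi_le _ _).trans (le_comap_mk' K L)) (isPi_Opi {p} K))).trans (hK ▸ h.cent_le_core (pi.mono (Opi_le _ _))
      fun e => (sylow_Opi_of_nilpotent nK).eq_bot_iff.1 e d))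
  rw [← map_comap_eq_self_of_surjective (QuotientGroup.mk'_surjective K) L, ← Opi_sup_Opi_compl (h.nil I) {p}, Subgroup.map_sup,
    (Subgroup.map_eq_bot_iff (Opi {p}ᶜ _)).2 (by rwa [QuotientGroup.ker_mk']), sup_bot_eq]
  exact (isPGroup_Opi _).map _

theorem cls2 (hK : Inv3 x K) : ⁅K, K⁆ ≤ C(K) := by
  by_cases n : K = ⊥
  · simp [n]
  have f : ∀ g : K, K.normalizerMonoidHom ⟨x, hK.n⟩ g = g → g = 1 := fun g e => Subtype.ext (mem_bot.1 (h.fpf hK.pi ▸
    ⟨g.2, mem_cent1.2 (mul_inv_eq_iff_eq_mul.1 (congrArg Subtype.val e))⟩))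
  have := (Cfsg.Agent.S3779.result Nat.prime_three _ (orderOf_eq_prime (by
    rw [← map_pow, show (⟨x, hK.n⟩ : N(K)) ^ 3 = 1 from Subtype.ext h.cube, map_one]) fun e => n (eq_bot_iff.2 fun g hg =>
      congrArg Subtype.val (f ⟨g, hg⟩ (by rw [e]; rfl)))) f).2.1 rfl
  have := congrArg (Subgroup.map K.subtype) this
  simp only [Subgroup.lowerCentralSeries_succ, Subgroup.lowerCentralSeries_zero, map_commutator, ← MonoidHom.range_eq_map, range_subtype,
    Subgroup.map_bot] at this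
  exact commutator_eq_bot_iff_le_centralizer.1 this

theorem ex60 (c : Nat.card G = 60) : ∃ L, Inv3 x L ∧ Nat.card L = 4 := by
  obtain ⟨L, hL, n⟩ : ∃ L, Inv3 x L ∧ L ≠ ⊥ := by
    by_contra! k
    have := h.card_of_triv k
    omega
  have e := (hall_Opi_of_nilpotent (h.nil hL) {2}).card_mul (hall_Opi_of_nilpotent (h.nil hL) _)
  have := h.mod (hL.opi {2})
  have := h.mod (hL.opi {2}ᶜ)
  have := isPi_compl_singleton_iff.1 (isPi_Opi {2}ᶜ L)
  have d := c ▸ card_subgroup_dvd_card L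
  have := (one_lt_card_iff_ne_bot _).2 n
  have := h.mod hL
  refine ⟨L, hL, ?_⟩
  have d2 := (e ▸ Dvd.intro_left _ rfl : _ ∣ Nat.card L).trans d
  have := Nat.le_of_dvd (by decide) d
  have := Nat.le_of_dvd (by decide) d2
  obtain ⟨j, ej⟩ := (isPGroup_Opi (p := 2) L).exists_card_eq
  have : Nat.card (Opi {2}ᶜ L) = 1 := by
    generalize Nat.card (Opi {2}ᶜ L) = w at *
    obtain ⟨v, rfl⟩ : ∃ v, w = 6 * v + 1 := ⟨w / 6, by omega⟩
    have : v < 10 := by omega
    interval_cases v <;> simp_all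
  rw [this, mul_one, ej] at e
  have : j < 6 := (Nat.pow_lt_pow_iff_right one_lt_two).1 (by omega)
  rw [← e] at d
  interval_cases j <;> omega

theorem main : (∃ (N : Subgroup G) (_ : N.Normal), Group.IsNilpotent N ∧ (Nat.card N).Coprime 3 ∧
        (Nat.card (G ⧸ N) = 3 ∨ Nonempty (G ⧸ N ≃* Equiv.Perm (Fin 3)))) ∨
    (∃ (N : Subgroup G) (_ : N.Normal), IsMulCommutative N ∧ (∀ n ∈ N, n ^ 2 = 1) ∧
        Nonempty (G ⧸ N ≃* alternatingGroup (Fin 5))) ∨
    Nonempty (G ≃* Matrix.ProjectiveSpecialLinearGroup (Fin 2) (ZMod 7)) := by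
  obtain ⟨K, hK⟩ : ∃ K, Opi {3}ᶜ (⊤ : Subgroup G) = K := ⟨_, rfl⟩
  have : K.Normal := hK ▸ normalizer_eq_top_iff.1 (top_le_iff.1 (le_normalizer_Opi _ _))
  have pi : IsPi {3}ᶜ K := hK ▸ isPi_Opi _ _
  have I : Inv3 x K := ⟨le_normalizer_of_normal (mem_top x), pi⟩
  have q := h.quo pi
  have o : Opi {3}ᶜ (⊤ : Subgroup (G ⧸ K)) = ⊥ := by
    have := h.comap_inv pi (L := Opi {3}ᶜ ⊤) ⟨le_normalizer_Opi _ _ (mem_top _), isPi_Opi _ _⟩
    have : (Opi {3}ᶜ (⊤ : Subgroup (G ⧸ K))).Normal := normalizer_eq_top_iff.1 (top_le_iff.1 (le_normalizer_Opi _ _))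
    rw [← map_comap_eq_self_of_surjective (QuotientGroup.mk'_surjective K) (Opi _ _), Subgroup.map_eq_bot_iff,
      QuotientGroup.ker_mk']
    exact (le_Opi le_top le_normalizer_of_normal ‹Inv3 x _›.pi).trans hK.le
  rcases q.str0 o with c | c | ⟨s, c⟩
  · exact Or.inl ⟨K, this, h.nil I, isPi_compl_singleton_iff_coprime.1 pi, Or.inl c⟩
  · exact Or.inl ⟨K, this, h.nil I, isPi_compl_singleton_iff_coprime.1 pi, Or.inr (q.six c)⟩
  refine Or.inr ((q.card_simple s c).imp (fun c => ?_) fun c => ?_)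
  · obtain ⟨L, hL, cL⟩ := q.ex60 c
    have J := h.comap_inv pi hL
    obtain ⟨u, hu, o⟩ := exists_orderOf_eq_prime Nat.prime_two (H := L) (by rw [cL]; decide)
    obtain ⟨t, rfl⟩ := QuotientGroup.mk'_surjective K u
    have nt : t ∉ K := fun k => by rw [(QuotientGroup.eq_one_iff t).2 k |> (id : QuotientGroup.mk' K t = 1 → _)] at o; simp at o
    have t2 : t * t ∈ K := (QuotientGroup.eq_one_iff _).1 (by
      rw [← QuotientGroup.mk'_apply, map_mul, ← sq, ← o, pow_orderOf_eq_one])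
    have l := le_comap_mk' K L
    have z := h.cls2 J
    have key : ∀ E : Subgroup G, E.Normal → E ≤ K → t ∈ C(E) → E = ⊥ := fun E _ l m => by_contra fun n =>
      nt (hK ▸ h.cent_le_core (pi.mono l) n m)
    have a : K ≤ C(K) := commutator_eq_bot_iff_le_centralizer.1 (key _ inferInstance (commutator_le_left _ _)
      (le_centralizer_iff.1 ((commutator_mono l l).trans z) hu))
    have cm := le_centralizer_iff_isMulCommutative.1 a
    refine ⟨K, this, cm, fun n hn => ?_, alt5_of_not_solv c s.not_solv⟩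
    have := key (closure {y | ∃ k ∈ K, k ^ 2 = y}) (normalizer_eq_top_iff.1 (eq_top_iff.2 fun g _ => mem_normalizer_of_cj_le (by
      rw [cj_le_iff_le_cj_inv, closure_le]
      rintro _ ⟨k, hk, rfl⟩
      exact mem_cj.2 (subset_closure ⟨_, this.conj_mem k hk g, by rw [conj_pow, inv_inv]⟩))))
      ((closure_le _).2 (by rintro _ ⟨k, hk, rfl⟩; exact pow_mem hk 2)) (by
        rw [centralizer_closure]
        rintro _ ⟨k, hk, rfl⟩
        have e1 := z (commutator_mem_commutator (show t ∈ L.comap _ from hu) (l hk))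
        have e2 := e1 t hu
        have e3 := e1 k (l hk)
        have e4 := a t2 k hk
        rw [commutatorElement_def] at e2 e3
        generalize hc : t * k * t⁻¹ * k⁻¹ = c at e2 e3
        have e5 : t * k = c * k * t := by rw [← hc]; group
        have e6 : c * c = 1 := by
          have : t * t * k = c * c * (k * (t * t)) := by
            calc _ = t * (c * k * t) := by rw [← e5, mul_assoc]
              _ = c * (t * k) * t := by rw [← mul_assoc, ← mul_assoc, e2]; group
              _ = _ := by rw [e5]; group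
          rw [e4] at this
          simpa using this
        calc k ^ 2 * t = c * c * k * k * t := by rw [e6, sq, one_mul]
          _ = c * (k * c) * k * t := by rw [e3, ← mul_assoc]
          _ = c * k * (t * k) := by simp only [e5, mul_assoc]
          _ = t * k ^ 2 := by rw [← mul_assoc, ← e5, sq, mul_assoc])
    exact mem_bot.1 (this ▸ subset_closure ⟨n, hn, rfl⟩)
  · have := s.simple
    by_cases k : K = ⊥
    · subst k
      obtain ⟨e⟩ := G168.ex c
      exact ⟨QuotientGroup.quotientBot.symm.trans e⟩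
    obtain ⟨p, hp, d⟩ := exists_prime_dvd_card k
    have := Fact.mk hp
    have := G168.f7
    have key : ∀ L : Subgroup (G ⧸ K), ∀ r, r.Prime → r ∣ Nat.card L → ¬ 3 ∣ Nat.card L → 3 ∣ Nat.card N(L) → r = p :=
      fun L r hr d1 d2 d3 => by
        obtain ⟨y, hy, o⟩ := exists_orderOf_eq_prime Nat.prime_three d3
        obtain ⟨g, hg⟩ := q.move o ⟨hy, isPi_compl_singleton_iff.2 d2⟩
        exact isPi_singleton_iff.2 (h.pgrp hK d hg) r hr (by rwa [card_cj])
    obtain ⟨P⟩ : Nonempty (Sylow 7 (G ⧸ K)) := inferInstance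
    obtain ⟨T⟩ : Nonempty (Sylow 2 (G ⧸ K)) := inferInstance
    obtain ⟨U, -, -, -, -, hU, -⟩ := G168.klein2 c T
    have c7 : Nat.card P = 7 ^ 1 := L2.sylow_card_of P (m := 24) c (by decide)
    have := key P 7 this.1 (by rw [c7]; decide) (by rw [c7]; decide) (by rw [G168.card_n7 c]; decide)
    have := key U 2 Nat.prime_two (by rw [hU.card_four]; decide) (by rw [hU.card_four]; decide) (by rw [(G168.nv c hU).2]; decide)
    omega

end SC

end CfsgH1
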