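import Cfsg.Agent.H1.SC3d
import Cfsg.Agent.H1.Ten1
import Cfsg.Agent.H2.Mix2
import Cfsg.Agent.H3.Burnside

/-! Groups whose element orders are 1, 2, 3, 4. -/

set_option autoImplicit false
set_option linter.style.haveILetI false
set_option linter.unusedSectionVars false

namespace CfsgH1

open Subgroup Cfsg CfsgH2 CfsgFT commutatorElement

universe u
variable {G : Type u} [Group G] [Finite G] {x τ : G} {K : Subgroup G}

theorem SC.elem (h : SC x) [hn : K.Normal] (hK : Inv3 x K) (ht : τ * x * τ⁻¹ = x⁻¹)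
    (h4 : ∀ a ∈ K, (τ * a * τ⁻¹ * a) ^ 2 = 1) (e4 : ∀ a ∈ K, a ^ 4 = 1) : IsElementaryAbelian 2 K := by
  have z : ∀ a ∈ K, ∀ b ∈ K, ∀ c ∈ K, c * ⁅a, b⁆ = ⁅a, b⁆ * c := fun a ha b hb c hc =>
    h.cls2 hK (commutator_mem_commutator ha hb) c hc
  have m := fun a ha g => hn.conj_mem a ha g
  have m' := fun a ha g => hn.conj_mem' a ha g
  have bil : ∀ b ∈ K, ∀ a ∈ K, ∀ c ∈ K, ⁅b, a * c⁆ = ⁅b, a⁆ * ⁅b, c⁆ := fun b hb a ha c hc => by
    calc _ = ⁅b, a⁆ * (a * ⁅b, c⁆) * a⁻¹ := by group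
      _ = _ := by rw [z b hb c hc a ha]; group
  have x2 : x * x = x⁻¹ := eq_inv_of_mul_eq_one_left (by rw [← h.cube]; simp [pow_succ])
  have e1 : x * τ * x⁻¹ = τ * x := by
    calc _ = x * (τ * x * τ⁻¹)⁻¹ * τ := by group
      _ = x⁻¹ * τ := by rw [ht, inv_inv, x2]
      _ = _ := by rw [← ht]; group
  have e2 : x⁻¹ * τ * x = τ * x⁻¹ := by
    calc _ = x⁻¹ * (τ * x * τ⁻¹) * τ := by group
      _ = (x * x)⁻¹ * τ := by rw [ht]; group
      _ = (τ * x * τ⁻¹)⁻¹ * τ := by rw [ht, x2]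
      _ = _ := by group
  have f1 : ∀ a, x * (τ * (x⁻¹ * a * x) * τ⁻¹ * (x⁻¹ * a * x)) * x⁻¹ = τ * (x * a * x⁻¹) * τ⁻¹ * a := fun a => by
    calc _ = (x * τ * x⁻¹) * a * (x * τ * x⁻¹)⁻¹ * a := by group
      _ = _ := by rw [e1]; group
  have f2 : ∀ a, x⁻¹ * (τ * (x * a * x⁻¹) * τ⁻¹ * (x * a * x⁻¹)) * x = τ * (x⁻¹ * a * x) * τ⁻¹ * a := fun a => by
    calc _ = (x⁻¹ * τ * x) * a * (x⁻¹ * τ * x)⁻¹ * a := by group
      _ = _ := by rw [e2]; group
  have id : ∀ a ∈ K, τ * a * τ⁻¹ * (τ * (x * a * x⁻¹) * τ⁻¹) * (τ * (x⁻¹ * a * x) * τ⁻¹) = 1 := fun a ha => by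
    calc _ = τ * (a * (x * a * x⁻¹) * (x⁻¹ * a * x)) * τ⁻¹ := by group
      _ = 1 := by rw [h.ident hK ha]; group
  have sq : ∀ c ∈ K, c ∈ C(K) → c ^ 2 = 1 := fun c hc k => by
    have k : ∀ a ∈ K, Commute a c := k
    have k' : ∀ g, ∀ a ∈ K, Commute a (g * c * g⁻¹) := fun g a ha => by
      simpa [mul_assoc] using (k _ (m' a ha g)).conj g
    have i := id c hc
    have h1 := h4 c hc
    have h2 : (τ * (x * c * x⁻¹) * τ⁻¹ * c) ^ 2 = 1 := by rw [← f1, conj_pow, h4 _ (m' c hc x)]; group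
    have h3 : (τ * (x⁻¹ * c * x) * τ⁻¹ * c) ^ 2 = 1 := by
      have := conj_pow (i := 2) (a := x⁻¹) (b := τ * (x * c * x⁻¹) * τ⁻¹ * (x * c * x⁻¹))
      rw [inv_inv, f2, h4 _ (m c hc x)] at this
      simpa using this
    have a1 := m c hc τ
    have a2 := m _ (m c hc x) τ
    have a3 := m _ (m' c hc x) τ
    have c12 := k' τ _ a2
    have c13 := k' τ _ a3
    generalize τ * c * τ⁻¹ = p at *
    generalize τ * (x * c * x⁻¹) * τ⁻¹ = q at *
    generalize τ * (x⁻¹ * c * x) * τ⁻¹ = r at *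
    rw [(k _ a1).mul_pow] at h1
    rw [(k _ a2).mul_pow, ← h1, mul_left_inj] at h2
    rw [(k _ a3).mul_pow, eq_inv_of_mul_eq_one_right i, inv_pow, c12.symm.mul_pow, h2, eq_inv_of_mul_eq_one_left h1] at h3
    calc _ = (((c ^ 2)⁻¹ * (c ^ 2)⁻¹)⁻¹ * c ^ 2) * (c ^ 4)⁻¹ := by group
      _ = 1 := by rw [e4 c hc, h3, inv_one, mul_one]
  have sq' : ∀ a ∈ K, ∀ b ∈ K, ⁅a, b⁆ ^ 2 = 1 := fun a ha b hb =>
    sq _ (commutator_le_left K K (commutator_mem_commutator ha hb)) (h.cls2 hK (commutator_mem_commutator ha hb))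
  have c1 : ∀ a ∈ K, ∀ b ∈ K, ⁅τ * a * τ⁻¹ * a, τ * b * τ⁻¹ * b⁆ = 1 := fun a ha b hb => by
    have e : τ * a * τ⁻¹ * a * (τ * b * τ⁻¹ * b) = ⁅a, τ * b * τ⁻¹⁆ * (τ * (a * b) * τ⁻¹ * (a * b)) := by
      calc _ = τ * a * τ⁻¹ * ⁅a, τ * b * τ⁻¹⁆ * (τ * b * τ⁻¹ * a * b) := by group
        _ = _ := by rw [z a ha _ (m b hb τ) _ (m a ha τ)]; group
    have := congrArg (· ^ 2) e
    rw [(show Commute _ _ from (z a ha _ (m b hb τ) _ (mul_mem (m _ (mul_mem ha hb) τ) (mul_mem ha hb))).symm).mul_pow,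
      sq' a ha _ (m b hb τ), h4 _ (mul_mem ha hb), one_mul] at this
    have h1 := h4 a ha
    have h2 := h4 b hb
    generalize τ * a * τ⁻¹ * a = p at *
    generalize τ * b * τ⁻¹ * b = q at *
    rw [pow_two] at *
    rw [commutatorElement_def, inv_eq_of_mul_eq_one_right h1, inv_eq_of_mul_eq_one_right h2, ← this, mul_assoc]
  have c2 : ∀ u ∈ K, ∀ w ∈ K, ⁅u, w⁆ = 1 → x * ⁅u, x * w * x⁻¹⁆ * x⁻¹ = ⁅w, x * u * x⁻¹⁆ := fun u hu w hw k => by
    have i := bil _ (m u hu x) _ (mul_mem hw (m w hw x)) _ (m' w hw x)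
    rw [h.ident hK hw, bil _ (m u hu x) _ hw _ (m w hw x), ← conjugate_commutatorElement, k] at i
    rw [conjugate_commutatorElement, show x * (x * w * x⁻¹) * x⁻¹ = x⁻¹ * w * x by
      calc _ = x * x * w * (x * x)⁻¹ := by group
        _ = _ := by rw [x2, inv_inv], ← commutatorElement_inv (x * u * x⁻¹) w, eq_inv_iff_mul_eq_one,
      z _ (m u hu x) _ hw _ (commutator_le_left K K (commutator_mem_commutator (m u hu x) (m' w hw x)))]
    simpa using i.symm
  have c3 : ∀ u ∈ K, ∀ w ∈ K, ⁅u, w⁆ = 1 → ⁅u, x * w * x⁻¹⁆ = 1 := fun u hu w hw k => by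
    have e := c2 w hw u hu (by rw [← commutatorElement_inv, k, inv_one])
    rw [← c2 u hu w hw k] at e
    refine mem_bot.1 (h.inv.fpf hK.pi ▸ ⟨commutator_le_left K K (commutator_mem_commutator hu (m w hw x)), mem_cent1.2 ?_⟩)
    generalize ⁅u, x * w * x⁻¹⁆ = c at e
    rw [← x2, ← mul_inv_eq_iff_eq_mul]
    exact Eq.trans (by group) e
  have c4 : ∀ b ∈ K, (∀ a ∈ K, ⁅b, τ * a * τ⁻¹ * a⁆ = 1 ∧ ⁅b, x * (τ * a * τ⁻¹ * a) * x⁻¹⁆ = 1) → ∀ a ∈ K, ⁅b, a⁆ = 1 :=
    fun b hb k a ha => by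
      have a1 := m a ha τ
      have a2 := m _ (m a ha x) τ
      have a3 := m _ (m' a ha x) τ
      have h1 := (k a ha).1
      have h2 := (k _ (m' a ha x)).2
      have w := mul_mem (m _ (m a ha x) τ) (m a ha x)
      have h3 := bil b hb _ (mul_mem w (m _ w x)) _ (m' _ w x)
      rw [h.ident hK w, bil b hb _ w _ (m _ w x), (k _ (m a ha x)).1, (k _ (m a ha x)).2, f2, bil b hb _ a3 _ ha] at h3
      rw [f1, bil b hb _ a2 _ ha] at h2
      rw [bil b hb _ a1 _ ha] at h1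
      have i := bil b hb _ (mul_mem a1 a2) _ a3
      rw [id a ha, bil b hb _ a1 _ a2, eq_inv_of_mul_eq_one_left h1, eq_inv_of_mul_eq_one_left h2,
        eq_inv_of_mul_eq_one_left (show ⁅b, τ * (x⁻¹ * a * x) * τ⁻¹⁆ * ⁅b, a⁆ = 1 by simpa using h3.symm)] at i
      have := sq' b hb a ha
      generalize ⁅b, a⁆ = c at *
      calc _ = (c⁻¹ * c⁻¹ * c⁻¹) * c ^ 2 * c ^ 2 := by group
        _ = 1 := by rw [← i, this]; simp
  have c5 : ∀ a ∈ K, ∀ b ∈ K, ⁅τ * a * τ⁻¹ * a, b⁆ = 1 := fun a ha => c4 _ (mul_mem (m a ha τ) ha) fun b hb =>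
    ⟨c1 a ha b hb, c3 _ (mul_mem (m a ha τ) ha) _ (mul_mem (m b hb τ) hb) (c1 a ha b hb)⟩
  have c6 : K ≤ C(K) := fun b hb a ha => (commutatorElement_eq_one_iff_mul_comm.1 (c4 b hb (fun a ha =>
    have := by rw [← commutatorElement_inv, c5 a ha b hb, inv_one]
    ⟨this, c3 b hb _ (mul_mem (m a ha τ) ha) this⟩) a ha)).symm
  exact ⟨le_centralizer_iff_isMulCommutative.1 c6, fun a ha => sq a ha (c6 ha)⟩

theorem SC.solv (h : SC x) (hs : Group.IsSolvable G) :
    (Opi {3}ᶜ (⊤ : Subgroup G)).index = 3 ∨ (Opi {3}ᶜ (⊤ : Subgroup G)).index = 6 := by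
  obtain ⟨K, hK⟩ : ∃ K, Opi {3}ᶜ (⊤ : Subgroup G) = K := ⟨_, rfl⟩
  have : K.Normal := hK ▸ normalizer_eq_top_iff.1 (top_le_iff.1 (le_normalizer_Opi _ _))
  have pi : IsPi {3}ᶜ K := hK ▸ isPi_Opi _ _
  have o : Opi {3}ᶜ (⊤ : Subgroup (G ⧸ K)) = ⊥ := by
    have := h.comap_inv pi (L := Opi {3}ᶜ ⊤) ⟨le_normalizer_Opi _ _ (mem_top _), isPi_Opi _ _⟩
    have : (Opi {3}ᶜ (⊤ : Subgroup (G ⧸ K))).Normal := normalizer_eq_top_iff.1 (top_le_iff.1 (le_normalizer_Opi _ _))
    rw [← map_comap_eq_self_of_surjective (QuotientGroup.mk'_surjective K) (Opi _ _), Subgroup.map_eq_bot_iff,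
      QuotientGroup.ker_mk']
    exact (le_Opi le_top le_normalizer_of_normal ‹Inv3 x _›.pi).trans hK.le
  rw [hK]
  exact ((h.quo pi).str0 o).imp_right fun k => k.resolve_right fun k => k.1.not_solv inferInstance

theorem ord1234 (h : Set.range (orderOf : G → ℕ) = {k : ℕ | 1 ≤ k ∧ k ≤ 4}) :
    ∃ (N : Subgroup G) (_ : N.Normal),
      (IsPGroup 2 ↥N ∧ Monoid.exponent ↥N = 4 ∧ Group.nilpotencyClass ↥N ≤ 2 ∧ N.index = 3) ∨
      (Cfsg.IsElementaryAbelian 2 N ∧ Nonempty (G ⧸ N ≃* Equiv.Perm (Fin 3))) ∨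
      (Cfsg.IsElementaryAbelian 3 N ∧ ((IsCyclic (G ⧸ N) ∧ N.index = 4) ∨ Nonempty (G ⧸ N ≃* QuaternionGroup 2))) := by
  have ho : ∀ g : G, orderOf g ≤ 4 := fun g => (h.le ⟨g, rfl⟩).2
  obtain ⟨x, hx⟩ : 3 ∈ Set.range (orderOf : G → ℕ) := h.ge (by simp)
  obtain ⟨y, hy⟩ : 4 ∈ Set.range (orderOf : G → ℕ) := h.ge (by simp)
  have pr : ∀ p, p.Prime → p ∣ Nat.card G → p = 2 ∨ p = 3 := fun p hp d => by
    have := Fact.mk hp
    obtain ⟨g, e⟩ := exists_prime_orderOf_dvd_card' p d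
    have := ho g
    have := hp.two_le
    obtain rfl | rfl | rfl : p = 2 ∨ p = 3 ∨ p = 4 := by omega
    exacts [Or.inl rfl, Or.inr rfl, absurd hp (by decide)]
  have n6 : ∀ a b : G, a ≠ 1 → b ≠ 1 → (orderOf a).Coprime (orderOf b) → ¬ Commute a b := fun a b ha hb c k => by
    have e := k.orderOf_mul_eq_mul_orderOf_of_coprime c
    have := ho (a * b)
    have h1 := mt orderOf_eq_one_iff.1 ha
    have h2 := mt orderOf_eq_one_iff.1 hb
    have := orderOf_pos a
    have := orderOf_pos b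
    have := ho a
    have := ho b
    generalize orderOf a = i at *
    generalize orderOf b = j at *
    interval_cases i <;> interval_cases j <;> simp_all
  have fp : ∀ {p q : ℕ} [Fact p.Prime] [Fact q.Prime] {A B : Subgroup G}, p ≠ q → IsPGroup p A → IsPGroup q B →
      ∀ a ∈ A, a ≠ 1 → B ⊓ C1(a) = ⊥ := fun n hA hB a ha a1 => eq_bot_iff.2 fun b hb => by_contra fun b1 =>
    n6 a b a1 b1 ((IsPGroup.coprime_card_of_ne _ _ n _ _ hA hB).coprime_dvd_left (orderOf_dvd_natCard _ ha) |>.coprime_dvd_right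
      (orderOf_dvd_natCard _ hb.1)) (mem_cent1.1 hb.2)
  have pg : ∀ {p q : ℕ} [Fact p.Prime] [Fact q.Prime] {A : Subgroup G}, (p = 2 ∧ q = 3 ∨ p = 3 ∧ q = 2) → ¬ q ∣ Nat.card A →
      IsPGroup p A := fun {p q} _ _ _ k n => isPi_singleton_iff.1 fun r hr d => by
    have := pr r hr (d.trans (card_subgroup_dvd_card _))
    have : r ≠ q := fun e => n (e ▸ d)
    simp only [Set.mem_singleton_iff]; omega
  have hs : Group.IsSolvable G := by
    refine CfsgH3.isSolvable_of_card_dvd_pow_mul_pow (a := Nat.card G) (b := Nat.card G) Nat.prime_two Nat.prime_three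
      ((Nat.factorization_prime_le_iff_dvd Nat.card_pos.ne' (by positivity)).1 fun p hp => ?_)
    by_cases d : p ∣ Nat.card G
    · have := Nat.factorization_lt p (Nat.card_pos (α := G)).ne'
      rcases pr p hp d with rfl | rfl <;> simp [Nat.factorization_mul, Nat.prime_two.factorization, Nat.prime_three.factorization] <;>
        omega
    · simp [Nat.factorization_eq_zero_of_not_dvd d]
  have nm : ∀ π, (Opi π (⊤ : Subgroup G)).Normal := fun π => normalizer_eq_top_iff.1 (top_le_iff.1 (le_normalizer_Opi _ _))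
  by_cases k : Opi {2} (⊤ : Subgroup G) = ⊥
  · have k3 : Opi {3} (⊤ : Subgroup G) ≠ ⊥ := fun k3 => fit_ne_bot (H := (⊤ : Subgroup G)) inferInstance
      (fun e => by rw [show x = 1 from mem_bot.1 (e ▸ mem_top x)] at hx; simp at hx) (le_bot_iff.1 (le_of_nilpotent_of_forall_Opi
        (fit_nilpotent _) fun q hq d => by
          rcases pr q hq.1 (d.trans (card_subgroup_dvd_card _)) with rfl | rfl <;> rw [Opi_p_fit] <;> simp [*]))
    have p3 := isPGroup_Opi (p := 3) (⊤ : Subgroup G)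
    have := nm {3}
    have cK : C(Opi {3} (⊤ : Subgroup G)) ≤ Opi {3} ⊤ := le_Opi_p le_top le_normalizer_of_normal (pg (q := 2) (by simp) fun d => by
      obtain ⟨t, ht, o⟩ := exists_orderOf_eq_prime Nat.prime_two d
      exact k3 (inf_eq_left.2 (le_cent1_iff.2 ht) ▸ fp (by decide) (isPGroup_zpowers_of_orderOf (p := 2) (k := 1) o) p3 t (mem_zpowers t)
        fun e => by simp [e] at o))
    generalize Opi {3} (⊤ : Subgroup G) = K at *
    obtain ⟨T, hT, l⟩ := IsSylowIn.exists_le (isPGroup_zpowers_of_orderOf (p := 2) (k := 2) hy) le_top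
    have oz : orderOf (y ^ 2) = 2 := by rw [orderOf_pow_of_dvd two_ne_zero (by rw [hy]; decide), hy]
    have iz := inverts_of_fpf (K := K) (s := y ^ 2) (le_normalizer_of_normal (mem_top _))
      (by rw [← pow_add]; exact orderOf_dvd_iff_pow_eq_one.1 hy.dvd) (fp (by decide) hT.pgroup p3 _ (pow_mem (l (mem_zpowers y)) 2)
        fun e => by simp [e] at oz)
    generalize y ^ 2 = z at *
    have s3 : ¬ 3 ∣ K.index := fun d => by
      obtain ⟨S, hS⟩ := IsSylowIn.exists_sylowIn (p := 3) (⊤ : Subgroup G)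
      refine hS.not_dvd (d.trans (relIndex_top_right S ▸ index_dvd_of_le fun s hs => by_contra fun n => ?_))
      have c : Commute (QuotientGroup.mk' K z) (QuotientGroup.mk' K s) := by
        rw [← commutatorElement_eq_one_iff_commute, ← map_commutatorElement, QuotientGroup.mk'_apply, QuotientGroup.eq_one_iff]
        refine cK (mem_centralizer_iff.2 fun a ha => (mul_inv_eq_iff_eq_mul.1 ?_).symm)
        have e : z⁻¹ * a * z = a⁻¹ := by rw [← inv_inv a, ← iz _ (inv_mem ha)]; nth_rw 2 [iz _ (inv_mem ha)]; group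
        calc _ = z * (s * (z⁻¹ * (s⁻¹ * a * s) * z) * s⁻¹) * z⁻¹ := by group
          _ = a := by
            rw [show z⁻¹ * (s⁻¹ * a * s) * z = (s⁻¹ * a * s)⁻¹ by
              rw [← inv_inj, inv_inv, ← iz _ (this.conj_mem' _ (this.conj_mem' a ha s) z)]; group,
              show s * (s⁻¹ * a * s)⁻¹ * s⁻¹ = a⁻¹ by group, iz _ (inv_mem ha), inv_inv]
      have o2 : orderOf (QuotientGroup.mk' K z) = 2 := orderOf_eq_prime (by rw [← map_pow, ← oz, pow_orderOf_eq_one, map_one])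
        fun e => by
          have := (isPi_singleton_iff.2 p3).orderOf ((QuotientGroup.eq_one_iff z).1 e) 2 Nat.prime_two oz.symm.dvd
          simp at this
      have o3 : orderOf (QuotientGroup.mk' K s) = 3 := orderOf_eq_prime (by
        obtain ⟨j, e⟩ := exists_orderOf_eq_pow hS.pgroup hs
        have := ho s
        have : j < 2 := (Nat.pow_lt_pow_iff_right (a := 3) (by decide)).1 (by omega)
        rw [← map_pow, orderOf_dvd_iff_pow_eq_one.1 (e ▸ pow_dvd_pow 3 (Nat.lt_succ_iff.1 this)), map_one])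
        fun e => n ((QuotientGroup.eq_one_iff s).1 e)
      have := Nat.le_of_dvd (orderOf_pos _) (orderOf_map_dvd (QuotientGroup.mk' K) (z * s))
      rw [map_mul, c.orderOf_mul_eq_mul_orderOf_of_coprime (by rw [o2, o3]; decide), o2, o3] at this
      have := ho (z * s)
      omega
    have e := quotEquivOfCompl (N := K) (K := T) (inf_eq_bot_of_coprime' (IsPGroup.coprime_card_of_ne 3 2 (by decide) _ _ p3
      hT.pgroup)) (by
        rw [← index_eq_one]
        by_contra n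
        obtain ⟨p, hp, d⟩ := Nat.exists_prime_and_dvd n
        rcases pr p hp (d.trans (index_dvd_card _)) with rfl | rfl
        · exact hT.not_dvd (d.trans (relIndex_top_right T ▸ index_dvd_of_le le_sup_right))
        · exact s3 (d.trans (index_dvd_of_le le_sup_left)))
    refine ⟨K, this, Or.inr (Or.inr ⟨⟨le_centralizer_iff_isMulCommutative.1 (comm_of_inverts iz), fun a ha => ?_⟩, ?_⟩)⟩
    · obtain ⟨j, e⟩ := exists_orderOf_eq_pow p3 ha
      have := ho a
      have : j < 2 := (Nat.pow_lt_pow_iff_right (a := 3) (by decide)).1 (by omega)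
      exact orderOf_dvd_iff_pow_eq_one.1 (e ▸ pow_dvd_pow 3 (Nat.lt_succ_iff.1 this))
    rcases cyclic_or_quat' hT.pgroup ((abCyc_of_fpf le_normalizer_of_normal k3 (fp (by decide) hT.pgroup p3)).uniqInv
      hT.pgroup le_rfl) with c | ⟨r, ⟨f⟩⟩
    · refine Or.inl ⟨isCyclic_of_surjective e e.surjective, ?_⟩
      obtain ⟨g, eg⟩ := isCyclic_iff_exists_orderOf_eq_natCard.1 c
      have := ho g
      have := card_le_of_le l
      rw [Nat.card_zpowers, hy] at this
      rw [Subgroup.index, ← Nat.card_congr e.toEquiv]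
      rw [← Subgroup.orderOf_coe] at eg
      omega
    · have := ho (f.symm (QuaternionGroup.a 1))
      rw [Subgroup.orderOf_coe, MulEquiv.orderOf_eq, QuaternionGroup.orderOf_a_one, pow_succ] at this
      obtain rfl : r = 0 := by
        by_contra n
        have := Nat.one_lt_two_pow n
        omega
      exact Or.inr ⟨e.symm.trans f⟩
  have x3 : IsPGroup 3 C1(x) := pg (q := 2) (by simp) fun d => by
    obtain ⟨t, ht, o⟩ := exists_orderOf_eq_prime Nat.prime_two d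
    exact n6 x t (fun e => by simp [e] at hx) (fun e => by simp [e] at o) (by rw [hx, o]; decide) (mem_cent1.1 ht)
  have sc : SC x := ⟨hx, (CfsgH2.eq_of_le_of_card_le (zpowers_le.2 (self_mem_cent1 x)) (by
    have := nm {2}
    rcases cyc_or_quat_of_fpf x3 le_normalizer_of_normal k (fp (by decide) x3 (isPGroup_Opi _)) with c | ⟨c, -⟩
    · obtain ⟨g, eg⟩ := isCyclic_iff_exists_orderOf_eq_natCard.1 c
      obtain ⟨j, e⟩ := x3.exists_card_eq
      have := ho g
      rw [Subgroup.orderOf_coe, eg] at this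
      have : j < 2 := (Nat.pow_lt_pow_iff_right (a := 3) (by decide)).1 (by omega)
      rw [Nat.card_zpowers, hx, e]
      interval_cases j <;> simp
    · simp at c)).symm⟩
  have s := sc.solv hs
  have np := sc.npc (mem_top x)
  have I : Inv3 x (Opi {3}ᶜ ⊤) := ⟨le_normalizer_Opi _ _ (mem_top x), isPi_Opi _ _⟩
  have := nm {3}ᶜ
  generalize Opi {3}ᶜ (⊤ : Subgroup G) = K at *
  have p2 : IsPGroup 2 K := pg (q := 3) (by simp) (isPi_compl_singleton_iff.1 I.pi)
  have e4 : ∀ a : G, ¬ 3 ∣ orderOf a → a ^ 4 = 1 := fun a n => orderOf_dvd_iff_pow_eq_one.1 (by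
    have := ho a
    have := orderOf_pos a
    interval_cases orderOf a <;> simp_all)
  have e4' : ∀ a ∈ K, a ^ 4 = 1 := fun a ha => e4 a fun d => I.pi.orderOf ha 3 Nat.prime_three d rfl
  refine ⟨K, this, s.imp (fun c => ⟨p2, Nat.dvd_antisymm (Monoid.exponent_dvd_of_forall_pow_eq_one fun a =>
    Subtype.ext (e4' a a.2)) ?_, ?_, c⟩) fun c => Or.inl ⟨?_, (sc.quo I.pi).six c⟩⟩
  · have : y ∈ K := by
      have := inv_mem (K.pow_index_mem y)
      rwa [c, ← one_mul (y ^ 3)⁻¹, ← pow_orderOf_eq_one y, hy, pow_succ' y 3, mul_inv_cancel_right] at this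
    exact hy ▸ Subgroup.orderOf_mk y this ▸ Monoid.order_dvd_exponent _
  · have := sc.nil I
    rw [← Subgroup.lowerCentralSeries_eq_bot_iff_nilpotencyClass_le, ← map_eq_bot_iff_of_injective _ K.subtype_injective]
    simp only [Subgroup.lowerCentralSeries_succ, Subgroup.lowerCentralSeries_zero, map_commutator, ← MonoidHom.range_eq_map,
      range_subtype]
    exact commutator_eq_bot_iff_le_centralizer.2 (sc.cls2 I)
  · obtain ⟨τ, ht⟩ : ∃ τ, τ * x * τ⁻¹ = x⁻¹ := by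
      by_contra! n
      have h1 := np fun g _ => n g
      have h2 := K.card_mul_index
      have := Nat.card_pos (α := K)
      rw [card_top] at h1
      rw [show K.index = 6 from c] at h2
      omega
    have nx : x ≠ x⁻¹ := fun e => by
      have := orderOf_dvd_of_pow_eq_one (x := x) (n := 2) (by rw [sq]; exact mul_eq_one_iff_eq_inv.2 e)
      rw [hx] at this; omega
    have n3 : ∀ a ∈ K, ¬ 3 ∣ orderOf (τ * a) := fun a ha d => by
      have q := sc.quo I.pi
      have e := congrArg (QuotientGroup.mk' K) (sc.cube_of d)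
      rw [map_pow, map_mul, (QuotientGroup.eq_one_iff a).2 ha |> (id : QuotientGroup.mk' K a = 1 → _), mul_one, map_one] at e
      have e' := congrArg (QuotientGroup.mk' K) ht
      simp only [map_mul, map_inv] at e'
      have o := q.ord
      generalize QuotientGroup.mk' K τ = t at *
      generalize QuotientGroup.mk' K x = u at *
      have : u = u⁻¹ := by
        calc _ = t ^ 3 * u * (t ^ 3)⁻¹ := by rw [e]; group
          _ = t * (t * (t * u * t⁻¹) * t⁻¹) * t⁻¹ := by simp [pow_succ, mul_assoc]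
          _ = t * (t * u * t⁻¹)⁻¹ * t⁻¹ := by nth_rw 1 [e']; group
          _ = _ := by rw [e', inv_inv, e']
      have := orderOf_dvd_of_pow_eq_one (x := u) (n := 2) (by rw [sq]; exact mul_eq_one_iff_eq_inv.2 this)
      rw [o] at this; omega
    have t2 : τ * τ = 1 := by
      have : τ * τ ∈ C1(x) := mem_cent1.2 (mul_inv_eq_iff_eq_mul.1 (by
        calc _ = τ * (τ * x * τ⁻¹) * τ⁻¹ := by group
          _ = (τ * x * τ⁻¹)⁻¹ := by nth_rw 1 [ht]; group
          _ = x := by rw [ht, inv_inv])).symm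
      rcases sc.mem (sc.cent ▸ this) with e | e | e
      · exact e
      · exact (nx (by rw [← ht, ← e]; group)).elim
      · exact (nx (by rw [← inv_inv x, ← e] at ht ⊢; rw [← ht]; group)).elim
    refine sc.elem I ht (fun a ha => ?_) e4'
    rw [← e4 _ (n3 a ha), inv_eq_of_mul_eq_one_right t2]
    simp [pow_succ, mul_assoc]

end CfsgH1
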