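import Mathlib
set_option autoImplicit false
set_option linter.unusedSectionVars false
open Module Function

namespace CfsgH1.SDual
variable {F K H : Type*} [Field F] [Fintype F] [Field K] [Finite K] [Algebra F K] [CommGroup H] [Finite H]

theorem frob (m : ℕ) (x : K) : (FiniteField.frobeniusAlgHom F K ^ m) x = x ^ Fintype.card F ^ m := by
  rw [AlgHom.coe_pow, FiniteField.coe_frobeniusAlgHom, pow_iterate]

theorem core (χ : H →* K) (hχ : Injective χ)
    (hirr : ∀ U : Submodule F K, (∀ h, ∀ u ∈ U, χ h * u ∈ U) → U = ⊥ ∨ U = ⊤) (h2 : 2 ≤ finrank F K) :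
    (∃ B : LinearMap.BilinForm F K, B.Nondegenerate ∧ ∀ h x y, B (χ h * x) (χ h * y) = B x y) ↔
      Even (finrank F K) ∧ Nat.card H ∣ Fintype.card F ^ (finrank F K / 2) + 1 := by
  have top : ∀ U : Submodule F K, (∀ h, ∀ u ∈ U, χ h * u ∈ U) → 1 ∈ U → ∀ x, x ∈ U := fun U a b x => by
    rcases hirr U a with e | e
    · rw [e] at b; exact absurd b (by simp)
    · rw [e]; trivial
  have inv : ∀ h, χ h * χ h⁻¹ = 1 := fun h => by rw [← map_mul]; simp
  constructor
  · rintro ⟨B, hB, hi⟩
    have ad : ∀ h x y, B (χ h * x) y = B x (χ h⁻¹ * y) := fun h x y => by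
      rw [← hi h x, ← mul_assoc, inv, one_mul]
    have ex : ∀ a : K, ∃ b, ∀ x y, B (a * x) y = B x (b * y) := by
      refine top ⟨⟨⟨{a | ∃ b, ∀ x y, B (a * x) y = B x (b * y)}, ?_⟩, ⟨0, by simp⟩⟩, ?_⟩ ?_ ⟨1, by simp⟩
      · rintro a a' ⟨b, e⟩ ⟨b', e'⟩
        exact ⟨b + b', fun x y => by simp [add_mul, e, e']⟩
      · rintro c a ⟨b, e⟩
        exact ⟨c • b, fun x y => by simp [e]⟩
      · rintro h a ⟨b, e⟩
        exact ⟨b * χ h⁻¹, fun x y => by rw [mul_assoc, ad, e, mul_assoc]⟩
    choose s hs using ex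
    have un : ∀ a b, (∀ x y, B (a * x) y = B x (b * y)) → s a = b := fun a b e =>
      sub_eq_zero.1 (hB.2 _ fun x => by
        have := (hs a x 1).symm.trans (e x 1)
        simpa [sub_eq_zero] using this)
    let σ : K →ₐ[F] K :=
      { toFun := s
        map_one' := un _ _ (by simp)
        map_mul' := fun a b => un _ _ fun x y => by rw [mul_assoc, hs, hs, ← mul_assoc, mul_comm (s a)]
        map_zero' := un _ _ (by simp)
        map_add' := fun a b => un _ _ fun x y => by simp [add_mul, hs]
        commutes' := fun c => un _ _ fun x y => by simp [← Algebra.smul_def] }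
    have sχ : ∀ h, σ (χ h) = χ h⁻¹ := fun h => un _ _ (ad h)
    obtain ⟨⟨i, li⟩, hi'⟩ := (FiniteField.bijective_frobeniusAlgHom_pow F K).2 σ
    simp only at hi'
    have ss : FiniteField.frobeniusAlgHom F K ^ (i + i) = 1 := by
      rw [pow_add, hi']
      refine AlgHom.ext fun x => ?_
      refine top (LinearMap.eqLocus (σ * σ).toLinearMap (1 : K →ₐ[F] K).toLinearMap) (fun h u k => ?_) (by simp) x
      have k' : σ (σ u) = u := k
      show σ (σ (χ h * u)) = χ h * u
      rw [map_mul, map_mul, sχ, sχ, k', inv_inv]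
    have dv := orderOf_dvd_of_pow_eq_one ss
    rw [FiniteField.orderOf_frobeniusAlgHom] at dv
    have i0 : i ≠ 0 := by
      rintro rfl
      have := top (Submodule.span F {1}) (fun h u k => by
        have a := sχ h
        rw [← hi', pow_zero, AlgHom.one_apply] at a
        have b := inv h
        rw [← a, mul_self_eq_one_iff] at b
        rcases b with b | b <;> rw [b]
        · simpa using k
        · simpa using k) (Submodule.subset_span rfl)
      have a := finrank_span_singleton (K := F) (one_ne_zero (α := K))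
      rw [Submodule.eq_top_iff'.2 this, finrank_top] at a
      omega
    have e : finrank F K = i + i := by
      obtain ⟨c, e⟩ := dv
      have : c = 1 := by
        rcases c with _ | _ | c
        · omega
        · rfl
        · nlinarith
      rw [e, this, mul_one]
    refine ⟨⟨i, e⟩, ?_⟩
    have := isCyclic_of_injective_ringHom χ hχ
    rw [← IsCyclic.exponent_eq_card, Monoid.exponent_dvd_iff_forall_pow_eq_one, e, show (i + i) / 2 = i by omega]
    intro h
    apply hχ
    rw [map_pow, pow_succ, ← frob, hi', sχ, mul_comm, inv, map_one]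
  · rintro ⟨-, hd⟩
    let φ := FiniteField.frobeniusAlgHom F K ^ (finrank F K / 2)
    have nd := traceForm_nondegenerate F K
    refine ⟨(Algebra.traceForm F K).compl₂ φ.toLinearMap, ⟨fun x k => nd.1 x fun y => ?_, fun y k => ?_⟩, fun h x y => ?_⟩
    · obtain ⟨z, rfl⟩ := Finite.injective_iff_surjective.1 φ.injective y
      exact k z
    · exact φ.injective ((nd.2 _ k).trans (map_zero φ).symm)
    · show Algebra.trace F K (χ h * x * φ (χ h * y)) = Algebra.trace F K (x * φ y)
      have : φ (χ h) * χ h = 1 := by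
        rw [frob, ← pow_succ, ← map_pow, orderOf_dvd_iff_pow_eq_one.1 ((orderOf_dvd_natCard h).trans hd), map_one]
      rw [map_mul φ, show χ h * x * (φ (χ h) * φ y) = (φ (χ h) * χ h) * (x * φ y) by ring, this, one_mul]

theorem main {V : Type*} [AddCommGroup V] [Module F V] [FiniteDimensional F V] (ρ : Representation F H V)
    (hf : Injective ρ) (hirr : ∀ U : Submodule F V, (∀ h : H, ∀ u ∈ U, ρ h u ∈ U) → U = ⊥ ∨ U = ⊤)
    (h2 : 2 ≤ finrank F V) :
    (∃ B : LinearMap.BilinForm F V, B.Nondegenerate ∧ ∀ h x y, B (ρ h x) (ρ h y) = B x y) ↔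
      Even (finrank F V) ∧ Nat.card H ∣ Fintype.card F ^ (finrank F V / 2) + 1 := by
  have nt : Nontrivial V := Module.nontrivial_of_finrank_pos (R := F) (by omega)
  have ir : ρ.IsIrreducible := by
    have : Nontrivial (Subrepresentation ρ) := ⟨⊥, ⊤, fun e =>
      bot_ne_top (congrArg Subrepresentation.toSubmodule e)⟩
    exact ⟨fun U => (hirr U.1 fun h u k => U.2 h k).imp (fun e => Subrepresentation.toSubmodule_injective e)
      (fun e => Subrepresentation.toSubmodule_injective e)⟩
  obtain ⟨m, hm, ⟨e⟩⟩ := isSimpleModule_iff_quot_maximal.1 (inferInstance : IsSimpleModule (MonoidAlgebra F H) ρ.asModule)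
  let := Ideal.Quotient.field m
  let f : V ≃ₗ[F] MonoidAlgebra F H ⧸ m := ρ.asModuleEquiv.symm.trans (e.restrictScalars F)
  let χ : H →* MonoidAlgebra F H ⧸ m := (Ideal.Quotient.mk m).toMonoidHom.comp (MonoidAlgebra.of F H)
  have k : ∀ h x, f (ρ h x) = χ h * f x := fun h x => by
    show e (ρ.asModuleEquiv.symm (ρ h x)) = _
    rw [Representation.asModuleEquiv_symm_map_rho, map_smul]; rfl
  have : Finite V := Module.finite_of_finite F
  have : Finite (MonoidAlgebra F H ⧸ m) := .of_equiv _ f.toEquiv
  rw [f.finrank_eq] at h2 ⊢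
  rw [← core χ (fun a b l => hf (LinearMap.ext fun x => f.injective (by rw [k, k, l]))) (fun U l => ?_) h2]
  · constructor
    · rintro ⟨B, h1, h3⟩
      refine ⟨LinearMap.BilinForm.congr f B, h1.congr f, fun h x y => ?_⟩
      obtain ⟨x, rfl⟩ := f.surjective x
      obtain ⟨y, rfl⟩ := f.surjective y
      simp [← k, h3]
    · rintro ⟨B, h1, h3⟩
      exact ⟨LinearMap.BilinForm.congr f.symm B, h1.congr f.symm, fun h x y => by simp [k, h3]⟩
  · refine (hirr (U.comap f.toLinearMap) fun h u j => ?_).imp (fun j => ?_) (fun j => ?_)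
    · show f (ρ h u) ∈ U
      rw [k]; exact l h _ j
    · rw [← Submodule.map_comap_eq_of_surjective (f := f.toLinearMap) f.surjective U, j, Submodule.map_bot]
    · rw [← Submodule.map_comap_eq_of_surjective (f := f.toLinearMap) f.surjective U, j, Submodule.map_top,
        LinearEquiv.range]

theorem one {V : Type*} [AddCommGroup V] [Module F V] [FiniteDimensional F V] (ρ : Representation F H V)
    (hf : Injective ρ) (h1 : finrank F V = 1) (B : LinearMap.BilinForm F V) (hB : B.Nondegenerate)
    (hi : ∀ h x y, B (ρ h x) (ρ h y) = B x y) : Nat.card H ≤ 2 := by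
  classical
  obtain ⟨v, v0, hv⟩ := finrank_eq_one_iff'.1 h1
  have b0 : B v v ≠ 0 := fun e => v0 (hB.1 v fun y => by obtain ⟨c, rfl⟩ := hv y; simp [e])
  have : ∀ h, ρ h = 1 ∨ ρ h = -1 := fun h => by
    obtain ⟨c, e⟩ := hv (ρ h v)
    have a := hi h v v
    rw [← e] at a
    have : c * c = 1 := mul_right_cancel₀ b0 (by simpa [mul_assoc] using a)
    refine (mul_self_eq_one_iff.1 this).imp (fun j => LinearMap.ext fun y => ?_) (fun j => LinearMap.ext fun y => ?_) <;>
    · obtain ⟨d, rfl⟩ := hv y
      simp [← e, j]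
  have a := Nat.card_le_card_of_injective (β := ({1, -1} : Finset (Module.End F V)))
    (fun h => ⟨ρ h, by simpa using this h⟩) fun a b e => hf (congrArg Subtype.val e)
  exact a.trans (by rw [Nat.card_eq_fintype_card, Fintype.card_coe]; exact Finset.card_le_two)

end CfsgH1.SDual
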