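import Mathlib
set_option autoImplicit false
set_option linter.unusedSectionVars false
open Module Function

namespace CfsgH1.SDual2
variable {F G V : Type*} [Field F] [Group G] [AddCommGroup V] [Module F V] [FiniteDimensional F V]
  (ρ : Representation F G V)

def Inv (U : Submodule F V) : Prop := ∀ g, ∀ u ∈ U, ρ g u ∈ U
def Fm (U : Submodule F V) (b : LinearMap.BilinForm F V) : Prop :=
  (∀ g, ∀ x ∈ U, ∀ y ∈ U, b (ρ g x) (ρ g y) = b x y) ∧ ∀ x ∈ U, (∀ y ∈ U, b x y = 0) → x = 0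
def Alt (U : Submodule F V) : Prop := Inv ρ U ∧ ∃ b, Fm ρ U b ∧ ∀ x ∈ U, b x x = 0
def Sym (U : Submodule F V) : Prop :=
  Inv ρ U ∧ (∃ b, Fm ρ U b ∧ ∀ x ∈ U, ∀ y ∈ U, b x y = b y x) ∧ ((2 : F) = 0 → ∀ g, ∀ w ∈ U, ρ g w = w)

variable {ρ}

theorem proj {U W : Submodule F V} (h : Disjoint U W) :
    ∃ π : V →ₗ[F] V, (∀ x ∈ U, π x = x) ∧ (∀ x ∈ W, π x = 0) ∧ ∀ x, π x ∈ U := by
  obtain ⟨W', a, b⟩ := h.symm.exists_isCompl
  exact ⟨U.projection W' b.symm, fun x k => Submodule.projection_apply_of_mem_left _ k,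
    fun x k => Submodule.projection_apply_of_mem_right _ (a k), fun x => Submodule.projection_apply_mem _ x⟩

theorem Inv.sup {U W : Submodule F V} (a : Inv ρ U) (b : Inv ρ W) : Inv ρ (U ⊔ W) := fun g u k => by
  obtain ⟨x, hx, y, hy, rfl⟩ := Submodule.mem_sup.1 k
  rw [map_add]; exact Submodule.add_mem_sup (a g x hx) (b g y hy)

theorem cancel (g : G) (x : V) : ρ g (ρ g⁻¹ x) = x := by
  rw [← Module.End.mul_apply, ← map_mul]; simp

theorem glue {U W : Submodule F V} (h : Disjoint U W) (a : Inv ρ U) (b : Inv ρ W) {c d : LinearMap.BilinForm F V}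
    (hc : Fm ρ U c) (hd : Fm ρ W d) : ∃ e, Fm ρ (U ⊔ W) e ∧
      ∀ x ∈ U, ∀ x' ∈ W, ∀ y ∈ U, ∀ y' ∈ W, e (x + x') (y + y') = c x y + d x' y' := by
  obtain ⟨π, p1, p2, -⟩ := proj h
  obtain ⟨σ, s1, s2, -⟩ := proj h.symm
  have k : ∀ x ∈ U, ∀ x' ∈ W, ∀ y ∈ U, ∀ y' ∈ W,
      (c.compl₁₂ π π + d.compl₁₂ σ σ : LinearMap.BilinForm F V) (x + x') (y + y') = c x y + d x' y' := by
    intro x hx x' hx' y hy y' hy'
    simp [p1 x hx, p1 y hy, p2 x' hx', p2 y' hy', s1 x' hx', s1 y' hy', s2 x hx, s2 y hy]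
  refine ⟨_, ⟨fun g u hu v hv => ?_, fun u hu l => ?_⟩, k⟩
  · obtain ⟨x, hx, x', hx', rfl⟩ := Submodule.mem_sup.1 hu
    obtain ⟨y, hy, y', hy', rfl⟩ := Submodule.mem_sup.1 hv
    rw [k x hx x' hx' y hy y' hy', map_add (ρ g), map_add (ρ g), k _ (a g x hx) _ (b g x' hx') _ (a g y hy) _ (b g y' hy'),
      hc.1 g x hx y hy, hd.1 g x' hx' y' hy']
  · obtain ⟨x, hx, x', hx', rfl⟩ := Submodule.mem_sup.1 hu
    have e1 := hc.2 x hx fun y hy => by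
      have := l _ (Submodule.add_mem_sup hy W.zero_mem)
      rw [k x hx x' hx' y hy 0 W.zero_mem] at this
      simpa using this
    have e2 := hd.2 x' hx' fun y hy => by
      have := l _ (Submodule.add_mem_sup U.zero_mem hy)
      rw [k x hx x' hx' 0 U.zero_mem y hy] at this
      simpa using this
    simp [e1, e2]

theorem Alt.sup {U W : Submodule F V} (h : Disjoint U W) (a : Alt ρ U) (b : Alt ρ W) : Alt ρ (U ⊔ W) := by
  obtain ⟨a, c, hc, c'⟩ := a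
  obtain ⟨b, d, hd, d'⟩ := b
  obtain ⟨e, h1, h2⟩ := glue h a b hc hd
  refine ⟨a.sup b, e, h1, fun u hu => ?_⟩
  obtain ⟨x, hx, x', hx', rfl⟩ := Submodule.mem_sup.1 hu
  rw [h2 x hx x' hx' x hx x' hx', c' x hx, d' x' hx', add_zero]

theorem Sym.sup {U W : Submodule F V} (h : Disjoint U W) (a : Sym ρ U) (b : Sym ρ W) : Sym ρ (U ⊔ W) := by
  obtain ⟨a, ⟨c, hc, c'⟩, a'⟩ := a
  obtain ⟨b, ⟨d, hd, d'⟩, b'⟩ := b
  obtain ⟨e, h1, h2⟩ := glue h a b hc hd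
  refine ⟨a.sup b, ⟨e, h1, fun u hu v hv => ?_⟩, fun t g u hu => ?_⟩
  · obtain ⟨x, hx, x', hx', rfl⟩ := Submodule.mem_sup.1 hu
    obtain ⟨y, hy, y', hy', rfl⟩ := Submodule.mem_sup.1 hv
    rw [h2 x hx x' hx' y hy y' hy', h2 y hy y' hy' x hx x' hx', c' x hx y hy, d' x' hx' y' hy']
  · obtain ⟨x, hx, x', hx', rfl⟩ := Submodule.mem_sup.1 hu
    rw [map_add, a' t g x hx, b' t g x' hx']

theorem pair {B : LinearMap.BilinForm F V} (hB : B.Nondegenerate) (hi : ∀ g x y, B (ρ g x) (ρ g y) = B x y)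
    {P C S : Submodule F V} (h : IsCompl P C) (hP : Inv ρ P) {D : LinearMap.BilinForm F V} (hD : Fm ρ P D)
    (hS : S ≤ C) (s0 : S ≠ ⊥) : ∃ β : LinearMap.BilinForm F V, (∀ g x y, β (ρ g x) (ρ g y) = β x y) ∧
      ∃ s ∈ S, ∃ y ∈ C, β s y ≠ 0 := by
  by_contra! k
  have nd : (D.restrict P).Nondegenerate := .ofSeparatingLeft fun x l =>
    Subtype.ext (hD.2 x x.2 fun y hy => l ⟨y, hy⟩)
  let ψ : Module.End F V := P.subtype ∘ₗ ((D.restrict P).toDual nd).symm.toLinearMap ∘ₗ B.compl₂ P.subtype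
  have p1 : ∀ x, ψ x ∈ P := fun x => Subtype.property _
  have p2 : ∀ x, ∀ y ∈ P, D (ψ x) y = B x y := fun x y hy =>
    LinearMap.BilinForm.apply_toDual_symm_apply (hB := nd) (B.compl₂ P.subtype x) ⟨y, hy⟩
  have p3 : ∀ g x, ψ (ρ g x) = ρ g (ψ x) := fun g x =>
    sub_eq_zero.1 (hD.2 _ (P.sub_mem (p1 _) (hP g _ (p1 _))) fun y hy => by
      rw [map_sub, LinearMap.sub_apply, p2 _ y hy, ← cancel (ρ := ρ) g y, hi, hD.1 g _ (p1 _) _ (hP _ y hy),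
        p2 _ _ (hP _ y hy), sub_self])
  have p4 : ∀ n g x, (ψ ^ n) (ρ g x) = ρ g ((ψ ^ n) x) := fun n g => by
    induction n with
    | zero => simp
    | succ n ih => intro x; rw [pow_succ, Module.End.mul_apply, p3, ih, Module.End.mul_apply]
  let T : Submodule F V := ⟨⟨⟨{x | ∀ n : ℕ, ∀ y ∈ C, B ((ψ ^ n) x) y = 0}, fun {a b} ha hb n y hy => by
    simp [ha n y hy, hb n y hy]⟩, by simp⟩, fun c a ha n y hy => by simp [ha n y hy]⟩
  have t1 : ∀ x ∈ T, ψ x ∈ T := fun x hx n y hy => by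
    rw [← Module.End.mul_apply, ← pow_succ]; exact hx _ y hy
  have inj : Injective (ψ.restrict t1) := (injective_iff_map_eq_zero _).2 fun x e => Subtype.ext (hB.1 _ fun y => by
    obtain ⟨a, ha, b, hb, rfl⟩ := Submodule.mem_sup.1 (h.sup_eq_top ▸ Submodule.mem_top (x := y))
    have e' : ψ x = 0 := congrArg Subtype.val e
    have := x.2 0 b hb
    rw [map_add, ← p2 _ a ha, e']
    simpa using this)
  obtain ⟨s, hs, s1⟩ := S.exists_mem_ne_zero_of_ne_bot s0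
  obtain ⟨x, e⟩ := LinearMap.injective_iff_surjective.1 inj ⟨s, fun n y hy =>
    k (B ∘ₗ (ψ ^ n)) (fun g x y => by simp [p4, hi]) s hs y hy⟩
  have e' : ψ x = s := congrArg Subtype.val e
  exact s1 (Submodule.disjoint_def.1 h.disjoint s (e' ▸ p1 x) (hS hs))

theorem compl [Finite G] [NeZero (Nat.card G : F)] {U : Submodule F V} (h : Inv ρ U) :
    ∃ W, Inv ρ W ∧ IsCompl U W := by
  obtain ⟨W, k⟩ := exists_isCompl (⟨U, fun g v k => h g v k⟩ : Subrepresentation ρ)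
  exact ⟨W.1, fun g v k => W.2 g k, .of_eq (congrArg Subrepresentation.toSubmodule k.inf_eq_bot)
    (congrArg Subrepresentation.toSubmodule k.sup_eq_top)⟩

theorem step [Finite G] [NeZero (Nat.card G : F)] {C S : Submodule F V} (hC : Inv ρ C) (hS : Inv ρ S) (sc : S ≤ C)
    (s0 : S ≠ ⊥) (mn : ∀ T ≤ S, Inv ρ T → T = ⊥ ∨ T = S) {β : LinearMap.BilinForm F V}
    (hi : ∀ g x y, β (ρ g x) (ρ g y) = β x y) (hb : ∃ s ∈ S, ∃ y ∈ C, β s y ≠ 0) :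
    ∃ X ≤ C, X ≠ ⊥ ∧ (Alt ρ X ∨ Sym ρ X) := by
  have nd : ∀ (b : LinearMap.BilinForm F V) (Y : Submodule F V), Inv ρ Y → (∀ g x y, b (ρ g x) (ρ g y) = b x y) →
      (∃ s ∈ S, ∃ y ∈ Y, b s y ≠ 0) → ∀ x ∈ S, (∀ y ∈ Y, b x y = 0) → x = 0 := by
    rintro b Y hY i ⟨s, hs, y, hy, e⟩ x hx l
    let T : Submodule F V := ⟨⟨⟨{x | x ∈ S ∧ ∀ y ∈ Y, b x y = 0}, fun {a c} ha hc =>
      ⟨S.add_mem ha.1 hc.1, fun y hy => by simp [ha.2 y hy, hc.2 y hy]⟩⟩, ⟨S.zero_mem, by simp⟩⟩,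
      fun c a ha => ⟨S.smul_mem c ha.1, fun y hy => by simp [ha.2 y hy]⟩⟩
    rcases mn T (fun x k => k.1) (fun g u k => ⟨hS g u k.1, fun y hy => by
      rw [← cancel (ρ := ρ) g y, i, k.2 _ (hY _ y hy)]⟩) with j | j
    · exact (Submodule.eq_bot_iff _).1 j x ⟨hx, l⟩
    · exact absurd ((j.ge hs).2 y hy) e
  by_cases h1 : ∃ s ∈ S, ∃ y ∈ S, β s y ≠ 0
  · refine ⟨S, sc, s0, ?_⟩
    by_cases h2 : ∃ s ∈ S, ∃ y ∈ S, (β - β.flip) s y ≠ 0
    · have i : ∀ g x y, (β - β.flip) (ρ g x) (ρ g y) = (β - β.flip) x y := fun g x y => by simp [hi]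
      exact .inl ⟨hS, β - β.flip, ⟨fun g x _ y _ => i g x y, nd _ S hS i h2⟩, by simp⟩
    push Not at h2
    have sy : ∀ x ∈ S, ∀ y ∈ S, β x y = β y x := fun x hx y hy => by simpa [sub_eq_zero] using h2 x hx y hy
    have fm : Fm ρ S β := ⟨fun g x _ y _ => hi g x y, nd _ S hS hi h1⟩
    by_cases h3 : ∀ x ∈ S, β x x = 0
    · exact .inl ⟨hS, β, fm, h3⟩
    refine .inr ⟨hS, ⟨β, fm, sy⟩, fun t g w hw => ?_⟩
    let T : Submodule F V := ⟨⟨⟨{x | x ∈ S ∧ β x x = 0}, fun {a c} ha hc =>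
      ⟨S.add_mem ha.1 hc.1, by
        simp only [map_add, LinearMap.add_apply, ha.2, hc.2, sy a ha.1 c hc.1]
        linear_combination β c a * t⟩⟩, ⟨S.zero_mem, by simp⟩⟩,
      fun c a ha => ⟨S.smul_mem c ha.1, by simp [ha.2]⟩⟩
    rcases mn T (fun x k => k.1) (fun g u k => ⟨hS g u k.1, by rw [hi, k.2]⟩) with j | j
    · refine sub_eq_zero.1 ((Submodule.eq_bot_iff _).1 j _ ⟨S.sub_mem (hS g w hw) hw, ?_⟩)
      simp only [map_sub, LinearMap.sub_apply, hi, sy w hw _ (hS g w hw)]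
      linear_combination (β w w - β (ρ g w) w) * t
    · exact absurd (fun x hx => (j.ge hx).2) h3
  push Not at h1
  let N : Submodule F V := ⟨⟨⟨{y | ∀ s ∈ S, β s y = 0}, fun {a c} ha hc s hs => by simp [ha s hs, hc s hs]⟩,
    by simp⟩, fun c a ha s hs => by simp [ha s hs]⟩
  have hN : Inv ρ N := fun g u k s hs => by rw [← cancel (ρ := ρ) g s, hi, k _ (hS _ s hs)]
  have hNC : Inv ρ (N ⊓ C) := fun g u k => ⟨hN g u k.1, hC g u k.2⟩
  obtain ⟨W, hW, c⟩ := compl hNC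
  have hT : Inv ρ (W ⊓ C) := fun g u k => ⟨hW g u k.1, hC g u k.2⟩
  have sn : S ≤ N ⊓ C := le_inf (fun y hy s hs => h1 s hs y hy) sc
  have dj : Disjoint S (W ⊓ C) := c.disjoint.mono sn inf_le_left
  obtain ⟨π, p1, p2, -⟩ := proj dj
  obtain ⟨σ, s1, s2, -⟩ := proj dj.symm
  have k : ∀ x ∈ S, ∀ x' ∈ W ⊓ C, ∀ y ∈ S, ∀ y' ∈ W ⊓ C,
      (β.compl₁₂ π σ - β.flip.compl₁₂ σ π : LinearMap.BilinForm F V) (x + x') (y + y') = β x y' - β y x' := by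
    intro x hx x' hx' y hy y' hy'
    simp [p1 x hx, p1 y hy, p2 x' hx', p2 y' hy', s1 x' hx', s1 y' hy', s2 x hx, s2 y hy]
  refine ⟨S ⊔ W ⊓ C, sup_le sc inf_le_right, fun e => s0 (sup_eq_bot_iff.1 e).1, .inl ⟨hS.sup hT,
    β.compl₁₂ π σ - β.flip.compl₁₂ σ π, ⟨fun g u hu v hv => ?_, fun u hu l => ?_⟩, by simp⟩⟩
  · obtain ⟨x, hx, x', hx', rfl⟩ := Submodule.mem_sup.1 hu
    obtain ⟨y, hy, y', hy', rfl⟩ := Submodule.mem_sup.1 hv
    rw [k x hx x' hx' y hy y' hy', map_add (ρ g), map_add (ρ g),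
      k _ (hS g x hx) _ (hT g x' hx') _ (hS g y hy) _ (hT g y' hy'), hi, hi]
  · obtain ⟨x, hx, x', hx', rfl⟩ := Submodule.mem_sup.1 hu
    have e1 := nd β C hC hi hb x hx fun y hy => by
      obtain ⟨a, ha, b, hb', rfl⟩ := Submodule.mem_sup.1 (c.sup_eq_top ▸ Submodule.mem_top (x := y))
      have bc : b ∈ W ⊓ C := ⟨hb', by simpa using C.sub_mem hy ha.2⟩
      have := l _ (Submodule.add_mem_sup S.zero_mem bc)
      rw [k x hx x' hx' 0 S.zero_mem b bc] at this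
      rw [map_add, ha.1 x hx]
      simpa using this
    have e2 : x' = 0 := Submodule.disjoint_def.1 c.disjoint x' ⟨fun y hy => by
      have := l _ (Submodule.add_mem_sup hy (W ⊓ C).zero_mem)
      rw [k x hx x' hx' y hy 0 (W ⊓ C).zero_mem] at this
      simpa using this, hx'.2⟩ hx'.1
    simp [e1, e2]

theorem main [Finite G] [NeZero (Nat.card G : F)] {B : LinearMap.BilinForm F V} (hB : B.Nondegenerate)
    (hi : ∀ g x y, B (ρ g x) (ρ g y) = B x y) : ∃ U W, IsCompl U W ∧ Alt ρ U ∧ Sym ρ W := by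
  have z : Fm ρ ⊥ 0 := ⟨by simp, by simp⟩
  have i0 : Inv ρ ⊥ := fun g u k => by simp [(Submodule.mem_bot F).1 k]
  obtain ⟨P, ⟨U, W, rfl, dj, hU, hW⟩, mx⟩ := set_has_maximal_iff_noetherian.2 (inferInstance : IsNoetherian F V)
    {P | ∃ U W, P = U ⊔ W ∧ Disjoint U W ∧ Alt ρ U ∧ Sym ρ W}
    ⟨_, ⊥, ⊥, rfl, disjoint_bot_left, ⟨i0, 0, z, by simp⟩, i0, ⟨0, z, by simp⟩, by simp⟩
  refine ⟨U, W, ⟨dj, codisjoint_iff.2 (by_contra fun k => ?_)⟩, hU, hW⟩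
  have hP := hU.1.sup hW.1
  obtain ⟨C, hC, c⟩ := compl hP
  have c0 : C ≠ ⊥ := fun e => k (by simpa [e] using c.sup_eq_top)
  obtain ⟨S, ⟨s1, s2, s3⟩, mn⟩ := IsArtinian.set_has_minimal {S : Submodule F V | Inv ρ S ∧ S ≤ C ∧ S ≠ ⊥} ⟨C, hC, le_rfl, c0⟩
  obtain ⟨a, ha, -⟩ := hU.2
  obtain ⟨b, hb, -⟩ := hW.2.1
  obtain ⟨D, hD, -⟩ := glue dj hU.1 hW.1 ha hb
  obtain ⟨β, b1, b2⟩ := pair hB hi c hP hD s2 s3
  obtain ⟨X, x1, x2, x3⟩ := step hC s1 s2 s3 (fun T l j => or_iff_not_imp_left.2 fun e =>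
    l.eq_or_lt.resolve_right (mn T ⟨j, l.trans s2, e⟩)) b1 b2
  have d : Disjoint (U ⊔ W) X := c.disjoint.mono_right x1
  have lt : U ⊔ W < U ⊔ W ⊔ X := left_lt_sup.2 fun l => x2 (d.symm.eq_bot_of_le l)
  rcases x3 with x3 | x3
  · refine mx _ ⟨U ⊔ X, W, sup_right_comm _ _ _, ?_, hU.sup (d.mono_left le_sup_left) x3, hW⟩ lt
    exact (Disjoint.disjoint_sup_right_of_disjoint_sup_left dj.symm (by rwa [sup_comm])).symm
  · exact mx _ ⟨U, W ⊔ X, sup_assoc _ _ _, Disjoint.disjoint_sup_right_of_disjoint_sup_left dj d, hU,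
      hW.sup (d.mono_left le_sup_right) x3⟩ lt

end CfsgH1.SDual2
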