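import Mathlib

/-! Schur's theorem on primitive groups with a regular abelian subgroup having a cyclic Sylow subgroup. -/

set_option autoImplicit false
set_option linter.style.haveILetI false
set_option linter.unusedSectionVars false

namespace CfsgH1.SR

open Subgroup Finset

variable {C G : Type*} [CommGroup C] [Fintype C] [DecidableEq C] [Group G] (φ : G →* Equiv.Perm C)

def SI {R : Type*} (f : C → R) : Prop := ∀ s a b, f ((φ s a)⁻¹ * φ s b) = f (a⁻¹ * b)

def T (t x : C) : Prop := ∃ s, φ s 1 = 1 ∧ φ s t = x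

variable {φ}

theorem SI.comp {R S : Type*} {f : C → R} (h : SI φ f) (g : R → S) : SI φ fun x => g (f x) := fun s a b => congrArg g (h s a b)

theorem SI.conv {R : Type*} [Semiring R] {f g : C → R} (hf : SI φ f) (hg : SI φ g) : SI φ fun x => ∑ y, f y * g (y⁻¹ * x) := by
  have k : ∀ a b, ∑ y, f y * g (y⁻¹ * (a⁻¹ * b)) = ∑ y, f (a⁻¹ * y) * g (y⁻¹ * b) := fun a b =>
    Fintype.sum_equiv (Equiv.mulLeft a) _ _ fun y => by simp [mul_assoc]
  intro s a b
  simp only [k]
  exact (Fintype.sum_equiv (φ s) _ _ fun y => by rw [hf, hg]).symm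

theorem SI.of_T {R : Type*} {f : C → R} (h : SI φ f) {t x : C} (k : T φ t x) : f x = f t := by
  obtain ⟨s, h1, rfl⟩ := k
  simpa [h1] using h s 1 t

theorem SI.closure {X : C → Prop} (h : SI φ X) : SI φ (· ∈ closure {x | X x}) := by
  have k : ∀ s a x, x ∈ Subgroup.closure {x | X x} → (φ s a)⁻¹ * φ s (a * x) ∈ Subgroup.closure {x | X x} := fun s a x hx => by
    induction hx using closure_induction_right with
    | one => simp
    | mul_right x _ y hy ih =>
      have := (h s (a * x) (a * (x * y))).mpr (by simpa [mul_assoc] using hy)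
      simpa [mul_assoc] using mul_mem ih (subset_closure this)
    | mul_inv_cancel x _ y hy ih =>
      have := (h s (a * (x * y⁻¹)) (a * x)).mpr (by simpa [mul_assoc] using hy)
      simpa [mul_assoc] using mul_mem ih (inv_mem (subset_closure this))
  exact fun s a b => propext ⟨fun m => by simpa using k s⁻¹ (φ s a) _ m, fun m => by simpa using k s a _ m⟩

theorem T.one {t : C} (h : T φ t 1) : t = 1 := by
  obtain ⟨s, h1, h2⟩ := h
  exact (φ s).injective (h2.trans h1.symm)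

theorem T.refl (t : C) : T φ t t := ⟨1, by simp, by simp⟩

theorem dvd_card {L : Subgroup C} (D : C → Prop) [DecidablePred D] (h : ∀ l ∈ L, ∀ y, D y → D (l * y)) :
    Nat.card L ∣ #{y | D y} := by
  have := QuotientGroup.card_preimage_mk L (QuotientGroup.mk '' {y | D y})
  rw [show QuotientGroup.mk ⁻¹' (QuotientGroup.mk '' {y | D y} : Set (C ⧸ L)) = {y | D y} from Set.ext fun y =>
    ⟨fun ⟨z, hz, e⟩ => by simpa [mul_comm] using h _ (QuotientGroup.eq.1 e) z hz, fun k => ⟨y, k, rfl⟩⟩] at this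
  exact ⟨_, by rw [← this, Nat.card_eq_fintype_card, Fintype.card_subtype]; rfl⟩

variable (hC : ∀ c, ∃ g, ∀ x, φ g x = c * x)
include hC

theorem siT (t : C) : SI φ (T φ t) := by
  have k : ∀ s a b, T φ t (a⁻¹ * b) → T φ t ((φ s a)⁻¹ * φ s b) := fun s a b ⟨r, h1, h2⟩ => by
    obtain ⟨g, hg⟩ := hC a
    obtain ⟨g', hg'⟩ := hC (φ s a)⁻¹
    exact ⟨g' * s * g * r, by simp [h1, hg, hg'], by simp [h2, hg, hg']⟩
  exact fun s a b => propext ⟨fun m => by simpa using k s⁻¹ _ _ m, k s a b⟩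

theorem schur (prim : ∀ B : Subgroup C, SI φ (· ∈ B) → B = ⊥ ∨ B = ⊤) {p : ℕ} [hp : Fact p.Prime] {L : Subgroup C}
    (cL : Nat.card L = p) (hL : ∀ x, x ^ p = 1 → x ∈ L) (ne : L ≠ ⊤) {t u : C} (ht : t ≠ 1) (hu : u ≠ 1) : T φ t u := by
  classical
  have pL : ∀ l ∈ L, l ^ p = 1 := fun l hl => orderOf_dvd_iff_pow_eq_one.1 (cL ▸ orderOf_dvd_natCard L hl)
  obtain ⟨h, hh, h1⟩ : ∃ h ∈ L, h ≠ 1 := (Subgroup.nontrivial_iff_exists_ne_one L).1
    (Finite.one_lt_card_iff_nontrivial.1 (cL ▸ hp.1.one_lt))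
  have s1 : ∀ t x, T φ t x → x ∉ L → ∀ l ∈ L, T φ t (l * x) := fun t x hx nx l hl => by
    let τ : MonoidAlgebra (ZMod p) C := ∑ x with T φ t x, .single x 1
    have : CharP (MonoidAlgebra (ZMod p) C) p := charP_of_injective_algebraMap (algebraMap (ZMod p) _).injective p
    have c : ∀ (f : C → C) y, (∑ x with T φ t x, .single (f x) 1 : MonoidAlgebra (ZMod p) C).coeff y =
        (#{x | T φ t x ∧ f x = y} : ℕ) := fun f y => by
      simp [MonoidAlgebra.coeff_sum, Finsupp.single_apply, filter_filter]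
    have si : ∀ k, SI φ (τ ^ (k + 1)).coeff := fun k => by
      have : SI φ τ.coeff := fun s a b => by
        simp [τ, MonoidAlgebra.coeff_sum, Finsupp.single_apply, siT hC t s a b]
      induction k with
      | zero => rwa [zero_add, pow_one]
      | succ k ih =>
        have e := this.conv ih
        intro s a b
        rw [pow_succ', MonoidAlgebra.coeff_mul_apply_left, MonoidAlgebra.coeff_mul_apply_left, Finsupp.sum_fintype _ _ (by simp),
          Finsupp.sum_fintype _ _ (by simp)]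
        exact e s a b
    have si := si (p - 1)
    rw [Nat.sub_add_cancel hp.1.one_le, sum_pow_char] at si
    simp only [MonoidAlgebra.single_pow, one_pow] at si
    have d : p ∣ #{y | T φ t y ∧ y ^ p = x ^ p} := by
      rw [← ZMod.natCast_eq_zero_iff, ← c (· ^ p)]
      by_contra n
      rcases prim _ (si.comp (· ≠ 0)).closure with e | e
      · exact nx (hL x (Subgroup.mem_bot.1 (e ▸ subset_closure n)))
      · have : Function.Surjective (powMonoidHom p : C →* C) := MonoidHom.range_eq_top.1 (top_le_iff.1 (e ▸ (closure_le _).2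
          fun y hy => by
            obtain ⟨z, hz⟩ := card_pos.1 (Nat.pos_of_ne_zero fun k => hy (by rw [c (· ^ p), k, Nat.cast_zero]))
            exact ⟨z, (mem_filter.1 hz).2.2⟩))
        exact h1 (Finite.injective_iff_surjective.2 this (by simpa using pL h hh))
    have := eq_of_subset_of_card_le (s := {y | T φ t y ∧ y ^ p = x ^ p}) (t := ({l | l ∈ L} : Finset C).image (· * x))
      (fun y hy => mem_image.2 ⟨y * x⁻¹, by simpa using hL _ (by rw [mul_pow, (mem_filter.1 hy).2.2, inv_pow, mul_inv_cancel]),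
        by simp⟩) (card_image_le.trans (Eq.trans_le (by rw [← cL, Nat.card_eq_fintype_card, Fintype.card_subtype])
          (Nat.le_of_dvd (card_pos.2 ⟨x, by simpa using hx⟩) d)))
    exact (mem_filter.1 (this ▸ mem_image_of_mem _ (by simpa using hl))).2.1
  have s2 : ∀ t ≠ 1, ∃ a ∈ L, T φ t a := fun t ht => by
    by_contra! n
    let B : Subgroup C := ⟨⟨⟨{c | ∀ x, T φ t (c * x) ↔ T φ t x}, fun {a b} ha hb x => by rw [mul_assoc, ha, hb]⟩,
      fun x => by rw [one_mul]⟩, fun {a} ha x => by rw [← ha, mul_inv_cancel_left]⟩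
    have k : ∀ s a b, a⁻¹ * b ∈ B → (φ s a)⁻¹ * φ s b ∈ B := fun s a b m x => by
      obtain ⟨y, rfl⟩ : ∃ y, x = (φ s b)⁻¹ * φ s y := ⟨(φ s).symm (φ s b * x), by simp⟩
      rw [mul_assoc, mul_inv_cancel_left, siT hC, siT hC, ← m (b⁻¹ * y), mul_assoc, mul_inv_cancel_left]
    rcases prim B fun s a b => propext ⟨fun m => by simpa using k s⁻¹ _ _ m, k s a b⟩ with e | e
    · exact h1 (Subgroup.mem_bot.1 (e ▸ fun x => ⟨fun k => by simpa using s1 t _ k (fun m => n _ m k) _ (inv_mem hh),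
        fun k => s1 t _ k (fun m => n _ m k) _ hh⟩))
    · exact ht (T.one (by simpa using ((e ▸ mem_top t⁻¹ : t⁻¹ ∈ B) t).2 (T.refl t)))
  obtain ⟨x, hx, nx⟩ : ∃ x, T φ t x ∧ x ∉ L := by
    by_contra! n
    rcases prim _ (siT hC t).closure with e | e
    · exact ht (Subgroup.mem_bot.1 (e ▸ subset_closure (T.refl t)))
    · exact ne (top_le_iff.1 (e ▸ (closure_le _).2 n))
  obtain ⟨b, bL, hb⟩ := s2 u hu
  by_contra n
  suffices key : ∀ a ∈ L, T φ t a → T φ t (b⁻¹ * a) by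
    obtain ⟨a, aL, ha⟩ := s2 t ht
    have k : ∀ n : ℕ, T φ t (b⁻¹ ^ n * a) := fun n => by
      induction n with
      | zero => simpa using ha
      | succ n ih => rw [pow_succ', mul_assoc]; exact key _ (mul_mem (pow_mem (inv_mem bL) n) aL) ih
    obtain ⟨n, e⟩ := (mem_powers_iff_mem_zpowers (x := b⁻¹) (y := a⁻¹)).2 ((eq_of_le_of_card_ge (zpowers_le.2 (inv_mem bL)) (by
      rw [cL, Nat.card_zpowers, orderOf_eq_prime (pL _ (inv_mem bL)) fun e => hu (T.one (inv_eq_one.1 e ▸ hb))])).ge (inv_mem aL))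
    exact ht (T.one (by simpa [show b⁻¹ ^ n = a⁻¹ from e, -inv_pow] using k n))
  intro a aL ha
  have dj : ∀ y, T φ t y → ¬ T φ u y := fun y h1 h2 => n (((siT hC t).of_T h2).mp h1)
  have si := ((siT hC t).comp fun P => if P then 1 else 0).conv ((siT hC u).comp fun P => if P then (1 : ℕ) else 0)
  have e := (si.of_T hx).trans (si.of_T ha).symm
  simp only [mul_ite, mul_one, mul_zero, ← ite_and, sum_boole, Nat.cast_id] at e
  have D : ∀ z, p ∣ #{y | (T φ u (y⁻¹ * z) ∧ T φ t y) ∧ y ∉ L ∧ y⁻¹ * z ∉ L} := fun z => cL ▸ dvd_card _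
    fun l hl y ⟨⟨k1, k2⟩, k3, k4⟩ => by
      rw [mul_inv_rev, mul_comm y⁻¹, mul_assoc]
      exact ⟨⟨s1 u _ k1 k4 _ (inv_mem hl), s1 t _ k2 k3 _ hl⟩, by rwa [mul_mem_cancel_left hl],
        by rwa [mul_mem_cancel_left (inv_mem hl)]⟩
  rw [← card_filter_add_card_filter_not (fun y => y ∉ L ∧ y⁻¹ * x ∉ L), ← card_filter_add_card_filter_not
    (s := {y | T φ u (y⁻¹ * a) ∧ T φ t y}) (fun y => y ∉ L ∧ y⁻¹ * a ∉ L), filter_filter, filter_filter, filter_filter, filter_filter] at e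
  have c1 : #{y | (T φ u (y⁻¹ * x) ∧ T φ t y) ∧ ¬ (y ∉ L ∧ y⁻¹ * x ∉ L)} = #{l | T φ u l ∧ l ∈ L} :=
    card_nbij' (fun y => y⁻¹ * x) (fun l => l⁻¹ * x) (fun y hy => by
      obtain ⟨⟨k1, k2⟩, k3⟩ := (mem_filter.1 hy).2
      simp only [coe_filter, mem_univ, true_and, Set.mem_ofPred_eq]
      exact ⟨k1, by_contra fun m => k3 ⟨fun m' => dj _ (s1 t x hx nx _ (inv_mem m')) k1, m⟩⟩) (fun l hl => by
      obtain ⟨k1, k2⟩ := (mem_filter.1 hl).2
      simp only [coe_filter, mem_univ, true_and, Set.mem_ofPred_eq, mul_inv_rev, inv_inv, mul_comm x⁻¹, inv_mul_cancel_right]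
      exact ⟨⟨k1, s1 t x hx nx _ (inv_mem k2)⟩, fun k => k.2 k2⟩) (fun y _ => by simp [mul_comm x⁻¹]) fun y _ => by simp [mul_comm x⁻¹]
  have c2 : #{l | T φ u l ∧ l ∈ L} < p := by
    rw [← cL, Nat.card_eq_fintype_card, Fintype.card_subtype]
    exact card_lt_card ⟨fun y hy => by simpa using (mem_filter.1 hy).2.2, fun k => hu (T.one (mem_filter.1 (k (by simp))).2.1)⟩
  have sb : ({y | (T φ u (y⁻¹ * a) ∧ T φ t y) ∧ ¬ (y ∉ L ∧ y⁻¹ * a ∉ L)} : Finset C).image (·⁻¹ * a) ⊆ ({l | T φ u l ∧ l ∈ L} : Finset C) :=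
    fun l hl => by
      obtain ⟨y, hy, rfl⟩ := mem_image.1 hl
      obtain ⟨⟨k1, -⟩, k3⟩ := (mem_filter.1 hy).2
      exact mem_filter.2 ⟨mem_univ _, k1, by_contra fun m => k3 ⟨fun m' => m (mul_mem (inv_mem m') aL), m⟩⟩
  have c3 := card_le_card sb
  have c4 := card_image_of_injective ({y | (T φ u (y⁻¹ * a) ∧ T φ t y) ∧ ¬ (y ∉ L ∧ y⁻¹ * a ∉ L)} : Finset C)
    (f := (·⁻¹ * a)) fun y z e => by simpa using e
  rw [c1, ← c4] at e
  have := (Nat.modEq_iff_dvd' c3).1 (((Nat.modEq_zero_iff_dvd.2 (D a)).symm.add_right _).trans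
    (e ▸ (Nat.modEq_zero_iff_dvd.2 (D x)).add_right _) |> fun k => by simpa using k)
  obtain ⟨y, hy, rfl⟩ := mem_image.1 (eq_of_subset_of_card_le sb (by have := Nat.eq_zero_of_dvd_of_lt this (by omega); omega) ▸
    (mem_filter.2 ⟨mem_univ _, hb, bL⟩ : b ∈ ({l | T φ u l ∧ l ∈ L} : Finset C)))
  simpa [mul_comm a⁻¹] using (mem_filter.1 hy).2.1.2

omit hC

open MulAction in
/-- transport to a regular cyclic subgroup -/
theorem cyc {G Ω : Type*} [Group G] [MulAction G Ω] [Finite Ω] (C : Subgroup G) [IsCyclic C] [IsPretransitive C Ω]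
    (hC : ∀ a : Ω, stabilizer C a = ⊥) {p : ℕ} [hp : Fact p.Prime] (n : Nat.card Ω ≠ p) {g : G} (hg : g ∈ C) (o : orderOf g = p)
    (H : IsPreprimitive G Ω ∨ (IsPGroup p C ∧ IsPretransitive (normalClosure ({g} : Set G)) Ω)) :
    IsMultiplyPretransitive G Ω 2 := by
  classical
  rcases isEmpty_or_nonempty Ω with k | ⟨⟨ω⟩⟩
  · exact is_two_pretransitive_iff.2 fun {a} => k.elim a
  let e : C ≃ Ω := Equiv.ofBijective (· • ω) ⟨fun a b k => inv_mul_eq_one.1 (Subgroup.mem_bot.1 (hC ω ▸ by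
    rw [mem_stabilizer_iff, mul_smul, ← show a • ω = b • ω from k, inv_smul_smul])), fun x => exists_smul_eq C ω x⟩
  have : Finite C := Finite.of_equiv _ e.symm
  have := Fintype.ofFinite C
  let := IsCyclic.commGroup (α := C)
  let φ : G →* Equiv.Perm C := (e.symm.permCongrHom.toMonoidHom).comp (toPermHom G Ω)
  have hφ : ∀ s c, e (φ s c) = s • e c := fun s c => by simp [φ]
  have hc : ∀ c x : C, φ c x = c * x := fun c x => e.injective (by rw [hφ]; exact (mul_smul c x ω).symm)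
  have cL : Nat.card (zpowers (⟨g, hg⟩ : C)) = p := by rw [Nat.card_zpowers, Subgroup.orderOf_mk, o]
  have hL : ∀ x : C, x ^ p = 1 → x ∈ zpowers (⟨g, hg⟩ : C) := fun x hx => by
    have := eq_of_subset_of_card_le (s := {y | y ∈ zpowers (⟨g, hg⟩ : C)}) (t := {y | y ^ p = 1}) (fun y hy => by
      simpa using orderOf_dvd_iff_pow_eq_one.1 (cL ▸ orderOf_dvd_natCard _ (mem_filter.1 hy).2))
      ((IsCyclic.card_pow_eq_one_le hp.1.pos).trans (by rw [← cL, Nat.card_eq_fintype_card, Fintype.card_subtype]))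
    exact (mem_filter.1 (this.ge (by simpa using hx))).2
  have g1 : (⟨g, hg⟩ : C) ≠ 1 := fun k => hp.1.ne_one (by rw [← o, show g = 1 from congrArg Subtype.val k]; simp)
  have key := fun t u => schur (φ := φ) (fun c => ⟨c, hc c⟩) (fun B hB => or_iff_not_imp_left.2 fun n => eq_top_iff.2 fun x _ => by
    rcases H with H | ⟨H, tr⟩
    · have : Nontrivial Ω := e.symm.nontrivial_congr.2 ⟨_, _, g1⟩
      let K : Subgroup G := ⟨⟨⟨{s | φ s 1 ∈ B}, fun {a b} ha hb => by
        simpa using mul_mem ha ((hB a 1 (φ b 1)).mpr (by simpa using hb))⟩, by simp⟩, fun {a} ha => by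
          simpa using inv_mem ((hB a⁻¹ 1 (φ a 1)).mpr (by simpa using ha))⟩
      obtain ⟨b, hb, b1⟩ := (B.nontrivial_iff_exists_ne_one).1 (B.nontrivial_iff_ne_bot.2 n)
      have := (IsPreprimitive.isCoatom_stabilizer_of_isPreprimitive G (e 1)).2 K ⟨fun s hs => by
        have : φ s 1 = 1 := e.injective ((hφ s 1).trans hs)
        simp [K, this], fun k => b1 (by
          have := k (show (b : G) ∈ K by simpa [K, hc] using hb)
          simpa [hc] using e.injective ((hφ b 1).trans this))⟩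
      simpa [K, hc] using (this ▸ mem_top _ : (x : G) ∈ K)
    · obtain ⟨y, hy⟩ := exists_prime_orderOf_dvd_card' (G := B) p (((H.to_subgroup B).card_eq_or_dvd).resolve_left
        (mt Subgroup.card_eq_one.1 n))
      rw [← Subgroup.orderOf_coe] at hy
      have gB : ⟨g, hg⟩ ∈ B := zpowers_le.2 y.2 ((eq_of_le_of_card_ge (zpowers_le.2 (hL y (hy ▸ pow_orderOf_eq_one _)))
        (by rw [cL, Nat.card_zpowers, hy])).ge (mem_zpowers _))
      let K : Subgroup G := ⟨⟨⟨{s | ∀ x, x⁻¹ * φ s x ∈ B}, fun {a b} ha hb x => by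
        simpa using mul_mem (hb x) (ha (φ b x))⟩, by simp⟩, fun {a} ha x => by simpa using inv_mem (ha (φ a⁻¹ x))⟩
      have : K.Normal := ⟨fun s hs r x => by simpa using (hB r _ _).mpr (hs (φ r⁻¹ x))⟩
      obtain ⟨s, hs⟩ := exists_smul_eq (normalClosure ({g} : Set G)) (e 1) (e x)
      have := normalClosure_le_normal (N := K) (Set.singleton_subset_iff.2 fun x => by
        rw [show φ g x = _ from hc ⟨g, hg⟩ x, mul_comm _ x, inv_mul_cancel_left]; exact gB) s.2 1
      rwa [inv_one, one_mul, show φ s 1 = x from e.injective ((hφ _ _).trans hs)] at this) cL hL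
      (fun k => n (by rw [← cL, k, card_top, Nat.card_congr e])) (t := t) (u := u)
  have k1 : ∀ a b : Ω, a ≠ b → ∃ s : G, s • e 1 = a ∧ s • e ⟨g, hg⟩ = b := fun a b k => by
    obtain ⟨a, rfl⟩ := e.surjective a
    obtain ⟨b, rfl⟩ := e.surjective b
    obtain ⟨s, h1, h2⟩ := key ⟨g, hg⟩ (a⁻¹ * b) g1 fun k' => k (by rw [inv_mul_eq_one.1 k'])
    exact ⟨a * s, by rw [← hφ, ← hφ, map_mul, Equiv.Perm.mul_apply, Equiv.Perm.mul_apply, h1, h2, hc, hc]; simp⟩
  refine is_two_pretransitive_iff.2 fun h h' => ?_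
  obtain ⟨s, h1, h2⟩ := k1 _ _ h
  obtain ⟨s', h3, h4⟩ := k1 _ _ h'
  exact ⟨s' * s⁻¹, by rw [← h1, ← h2, mul_smul, mul_smul, inv_smul_smul, inv_smul_smul]; exact ⟨h3, h4⟩⟩

end CfsgH1.SR
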