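import Cfsg.Agent.H1.Schur3

set_option autoImplicit false

namespace CfsgH1

open Function Subgroup Cfsg

/-! ### cyclic extensions -/

theorem exists_cyc_ext.{u} {N : Type u} {H : Type*} [CommGroup N] [Group H] (φ : MulAut N) {n : ℕ}
    (hn : n ≠ 0) (t : N) (h1 : φ ^ n = 1) (h2 : φ t = t) (f : N →* H) (b : H)
    (hb : ∀ x, b * f x * b⁻¹ = f (φ x)) (hbn : b ^ n = f t) :
    ∃ (E : Type u) (_ : Group E) (j : N →* E) (β : E) (ρ : E →* H), Injective j ∧
      (∀ x, β * j x * β⁻¹ = j (φ x)) ∧ β ^ n = j t ∧ (∀ e, ∃ (x : N) (k : ℤ), e = j x * β ^ k) ∧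
      (∀ x, ρ (j x) = f x) ∧ ρ β = b := by
  let S := N ⋊[zpowersHom _ φ] Multiplicative ℤ
  let i : N →* S := SemidirectProduct.inl
  let B : S := SemidirectProduct.inr (Multiplicative.ofAdd 1)
  have hB : ∀ k : ℤ, B ^ k = SemidirectProduct.inr (Multiplicative.ofAdd k) := fun k => by
    rw [← map_zpow, ← ofAdd_zsmul]; simp
  have hc : ∀ (k : ℤ) x, B ^ k * i x * (B ^ k)⁻¹ = i ((φ ^ k) x) := fun k x => by
    rw [hB, ← map_inv]
    exact (SemidirectProduct.inl_aut _ _).symm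
  have hg : ∀ e : S, ∃ (x : N) (k : ℤ), e = i x * B ^ k := fun e =>
    ⟨e.left, e.right.toAdd, by rw [hB]; exact (SemidirectProduct.inl_left_mul_inr_right e).symm⟩
  let c := (i t)⁻¹ * B ^ n
  have hcc : c ∈ center S := mem_center_iff.2 fun e => by
    obtain ⟨x, k, rfl⟩ := hg e
    have e1 : Commute (i x) (B ^ n) := by
      have := hc n x
      rw [zpow_natCast, zpow_natCast, h1, MulAut.one_apply, mul_inv_eq_iff_eq_mul] at this
      exact this.symm
    have e2 : Commute (B ^ k) (i t) := by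
      have := hc k t
      rw [show (φ ^ k) t = t from zpow_mem (K := MulAction.stabilizer (MulAut N) t) h2 k,
        mul_inv_eq_iff_eq_mul] at this
      exact this
    exact (((Commute.all x t).map i).inv_right.mul_right e1).mul_left
      (e2.inv_right.mul_right ((Commute.refl B).zpow_left k |>.pow_right n))
  have : (zpowers c).Normal := ⟨fun x hx g => by
    rw [mem_center_iff.1 (zpowers_le.2 hcc hx), mul_inv_cancel_right]; exact hx⟩
  let ρ : S →* H := SemidirectProduct.lift f (zpowersHom _ b) fun k => MonoidHom.ext fun x => by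
    have : ∀ (k : ℤ) x, f ((φ ^ k) x) = b ^ k * f x * (b ^ k)⁻¹ := fun k => by
      induction k using Int.induction_on with
      | zero => simp
      | succ k ih => intro x; rw [zpow_add_one, MulAut.mul_apply, ih, ← hb, zpow_add_one]; group
      | pred k ih =>
        intro x
        have := hb (φ⁻¹ x)
        rw [MulAut.apply_inv_self] at this
        rw [zpow_sub_one, MulAut.mul_apply, ih, ← this, zpow_sub_one]; group
    exact this k.toAdd x
  have hρ1 : ∀ x, ρ (i x) = f x := SemidirectProduct.lift_inl _ _ _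
  have hρ2 : ρ B = b := (SemidirectProduct.lift_inr _ _ _ _).trans (by simp)
  refine ⟨S ⧸ zpowers c, inferInstance, (QuotientGroup.mk' _).comp i, QuotientGroup.mk' _ B,
    QuotientGroup.lift _ ρ (zpowers_le.2 ?_), (injective_iff_map_eq_one _).2 fun x hx => ?_,
    fun x => ?_, ?_, fun e => ?_, hρ1, hρ2⟩
  · rw [MonoidHom.mem_ker, map_mul, map_inv, map_pow, hρ1, hρ2, hbn, inv_mul_cancel]
  · obtain ⟨k, hk⟩ := (QuotientGroup.eq_one_iff _).1 hx
    let π : S →* Multiplicative ℤ := SemidirectProduct.rightHom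
    have e1 : ∀ x, π (i x) = 1 := fun _ => rfl
    have e2 : π B = Multiplicative.ofAdd 1 := rfl
    have : π (((i t)⁻¹ * B ^ n) ^ k) = π (i x) := congrArg π hk
    rw [map_zpow, map_mul, π.map_inv, map_pow, e1, e1, e2] at this
    have h3 : k = 0 := by simpa [hn] using congrArg Multiplicative.toAdd this
    rw [h3] at hk
    exact SemidirectProduct.inl_injective (hk.symm.trans (map_one _).symm)
  · have := congrArg (QuotientGroup.mk' (zpowers c)) (hc 1 x)
    simpa using this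
  · have : QuotientGroup.mk' (zpowers c) c = 1 := (QuotientGroup.eq_one_iff _).2 (mem_zpowers c)
    rw [map_mul, MonoidHom.map_inv, map_pow, inv_mul_eq_one] at this
    exact this.symm
  · obtain ⟨e, rfl⟩ := QuotientGroup.mk'_surjective _ e
    obtain ⟨x, k, rfl⟩ := hg e
    exact ⟨x, k, by simp⟩

theorem exists_meta_ext.{u} {C : Type u} {H : Type*} [CommGroup C] [Group H] (g : C)
    (hg : ∀ x, x ∈ zpowers g) {n : ℕ} (r t : ℕ) (hn : n ≠ 0) (hr : g ^ r ^ n = g)
    (ht : (g ^ t) ^ r = g ^ t) (w : ℂˣ) (hw1 : w ^ orderOf g = 1) (hw2 : w ^ t = 1)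
    (hw3 : w ^ (∑ i ∈ Finset.range n, r ^ i) = 1) (f : C →* H) (b : H)
    (hb : b * f g * b⁻¹ = f g ^ r) (hbn : b ^ n = f g ^ t) :
    ∃ (E : Type u) (_ : Group E) (j : ℂˣ × C →* E) (β : E) (ρ : E →* H), Injective j ∧
      (∀ z, β * j (z, 1) * β⁻¹ = j (z, 1)) ∧ β * j (1, g) * β⁻¹ = j (w, g ^ r) ∧
      β ^ n = j (1, g ^ t) ∧ (∀ e, ∃ (x : ℂˣ × C) (k : ℤ), e = j x * β ^ k) ∧
      (∀ x, ρ (j x) = f x.2) ∧ ρ β = b := by
  have ho := orderOf_dvd_iff_pow_eq_one.2 hw1
  let l := monoidHomOfForallMemZpowers hg ho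
  have hl : l g = w := monoidHomOfForallMemZpowers_apply_gen hg ho
  let φ₀ : Monoid.End (ℂˣ × C) := MonoidHom.mk' (fun x => (x.1 * l x.2, x.2 ^ r)) fun x y => by
    simp only [Prod.fst_mul, Prod.snd_mul, map_mul, Prod.mk_mul_mk, mul_pow, mul_mul_mul_comm]
  have hφ : ∀ x, φ₀ x = (x.1 * l x.2, x.2 ^ r) := fun _ => rfl
  have hm : ∀ (φ ψ : Monoid.End (ℂˣ × C)) x, (φ * ψ) x = φ (ψ x) := fun _ _ _ => rfl
  have h1 : ∀ k z, (φ₀ ^ k) (z, 1) = (z, 1) := fun k z => by
    induction k with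
    | zero => rfl
    | succ k ih => rw [pow_succ', hm, ih, hφ]; simp
  have h2 : ∀ k, (φ₀ ^ k) (1, g) = (w ^ (∑ i ∈ Finset.range k, r ^ i), g ^ r ^ k) := fun k => by
    induction k with
    | zero => simp
    | succ k ih =>
      rw [pow_succ', hm, ih, hφ, map_pow, hl, Finset.sum_range_succ, pow_add,
        ← pow_mul, pow_succ]
  have h3 : φ₀ ^ n = 1 := MonoidHom.ext fun ⟨z, x⟩ => by
    obtain ⟨k, rfl⟩ := hg x
    have : (z, g ^ k) = (z, 1) * (1, g) ^ k := by simp
    change (φ₀ ^ n) (z, g ^ k) = (z, g ^ k)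
    rw [this, map_mul, map_zpow, h1, h2, hw3, hr]
  let φ : MulAut (ℂˣ × C) := MonoidHom.toMulEquiv φ₀ (φ₀ ^ (n - 1))
    (by change φ₀ ^ (n - 1) * φ₀ = 1; rw [pow_sub_one_mul hn, h3])
    (by change φ₀ * φ₀ ^ (n - 1) = 1; rw [mul_pow_sub_one hn, h3])
  have h4 : ∀ k x, (φ ^ k) x = (φ₀ ^ k) x := fun k => by
    induction k with
    | zero => exact fun _ => rfl
    | succ k ih => intro x; rw [pow_succ, pow_succ, MulAut.mul_apply, ih]; rfl
  obtain ⟨E, _, j, β, ρ, e1, e2, e3, e4, e5, e6⟩ := exists_cyc_ext φ hn (1, g ^ t)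
    (MulEquiv.ext fun x => by rw [h4, h3]; rfl)
    (by change φ₀ _ = _; rw [hφ, map_pow, hl, hw2, ht, mul_one])
    (f.comp (MonoidHom.snd _ _)) b (fun ⟨z, x⟩ => by
      obtain ⟨k, rfl⟩ := hg x
      change b * f (g ^ k) * b⁻¹ = f ((g ^ k) ^ r)
      rw [map_zpow, ← conj_zpow, hb, map_pow, map_zpow, ← zpow_natCast, ← zpow_natCast, zpow_comm])
    (by simpa using hbn)
  refine ⟨E, inferInstance, j, β, ρ, e1, fun z => (e2 _).trans (congrArg j (h1 1 z)),
    (e2 _).trans (congrArg j ?_), e3, e4, e5, e6⟩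
  change φ₀ _ = _
  rw [hφ, hl, one_mul]

/-! ### metacyclic groups -/

theorem meta_upper {Γ G : Type*} [Group Γ] [Group G] [Finite Γ] {σ : Γ →* G} (hσ : IsStemExtension σ)
    {a b : G} {n r t : ℕ} (hb : b * a * b⁻¹ = a ^ r) (ht : b ^ n = a ^ t)
    (hgen : closure {a, b} = ⊤) (hr : r ≠ 0) : ∃ c : Γ, σ.ker ≤ zpowers c ∧ σ c = a ^ (r - 1) ∧
      c ^ orderOf a = 1 ∧ c ^ t = 1 ∧ c ^ (∑ i ∈ Finset.range n, r ^ i) = 1 := by
  obtain ⟨α, rfl⟩ := hσ.1 a
  obtain ⟨β, rfl⟩ := hσ.1 b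
  have hz : ∀ {x y : Γ}, σ x = σ y → ∃ k, (∀ g, Commute k g) ∧ x = k * y := fun {x y} e =>
    ⟨x * y⁻¹, fun g => (mem_center_iff.1 (hσ.2.1 (by simp [e])) g).symm, by simp⟩
  have htop : ∀ H : Subgroup Γ, α ∈ H → β ∈ H → center Γ ≤ H → ∀ x, x ∈ H := fun H h1 h2 h3 x => by
    rw [← comap_map_eq_self (hσ.2.1.trans h3)]
    refine (eq_top_iff' (H.map σ)).1 (eq_top_iff.2 (hgen ▸ (closure_le _).2 ?_)) _
    rintro _ (rfl | rfl)
    exacts [mem_map_of_mem _ h1, mem_map_of_mem _ h2]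
  let c := β * α * β⁻¹ * α⁻¹
  have h0 : σ c = σ α ^ (r - 1) := by
    simp only [c, map_mul, map_inv]
    rw [hb, mul_inv_eq_iff_eq_mul, pow_sub_one_mul hr]
  obtain ⟨k, hk, e⟩ := hz (x := c) (y := α ^ (r - 1)) (by rw [h0, map_pow])
  have h1 : Commute c α := e ▸ (hk α).mul_left ((Commute.refl α).pow_left _)
  have h2 : β * α * β⁻¹ = c * α := by simp [c]
  have h3 : ∀ i : ℕ, β * α ^ i * β⁻¹ = c ^ i * α ^ i := fun i => by rw [← conj_pow, h2, h1.mul_pow]
  have h4 : ∀ i : ℕ, Commute β (α ^ i) → c ^ i = 1 := fun i hi => by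
    have := h3 i
    rwa [hi.eq, mul_inv_cancel_right, right_eq_mul] at this
  have h5 : β * c * β⁻¹ = c ^ r := by
    rw [← mul_pow_sub_one hr c, ← (Commute.refl c).pow_left _ |>.eq]
    conv_lhs => rw [e, ← mul_assoc, ← (hk β).eq, mul_assoc, mul_assoc, ← mul_assoc β, h3, ← mul_assoc,
      (hk _).eq, mul_assoc, ← e]
  have h6 : ∀ i : ℕ, β ^ i * α * (β ^ i)⁻¹ = c ^ (∑ j ∈ Finset.range i, r ^ j) * α := fun i => by
    induction i with
    | zero => simp
    | succ i ih =>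
      rw [geom_sum_succ, pow_succ c, pow_mul, ← h5, conj_pow, mul_assoc _ c, ← h2, pow_succ']
      calc _ = β * (β ^ i * α * (β ^ i)⁻¹) * β⁻¹ := by group
        _ = _ := by rw [ih]; group
  obtain ⟨l, hl, e'⟩ := hz (x := β ^ n) (y := α ^ t) (by rw [map_pow, map_pow, ht])
  have hN : (zpowers c).Normal := normalizer_eq_top_iff.1 ((eq_top_iff' _).2 (htop _
    (centralizer_le_normalizer _ (by
      rintro _ ⟨i, rfl⟩
      exact h1.zpow_left i))
    (mem_normalizer_fintype (by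
      rintro _ ⟨i, rfl⟩
      rw [← conj_zpow, h5]
      exact zpow_mem (pow_mem (mem_zpowers c) r) i)) (center_le_normalizer _)))
  refine ⟨c, hσ.2.2.trans ?_, h0, h4 _ ?_, h4 _ ?_, ?_⟩
  · let π := QuotientGroup.mk' (zpowers c)
    have e1 : π α * π β = π β * π α := by
      have := congrArg π h2
      rw [map_mul π c, show π c = 1 from (QuotientGroup.eq_one_iff _).2 (mem_zpowers c), one_mul,
        map_mul, map_mul, map_inv, mul_inv_eq_iff_eq_mul] at this
      exact this.symm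
    have e2 : ∀ x, center Γ ≤ (centralizer {x}).comap π := fun x z hz =>
      mem_centralizer_singleton_iff.2 (by
        obtain ⟨y, rfl⟩ := QuotientGroup.mk'_surjective _ x
        rw [← map_mul, ← map_mul, mem_center_iff.1 hz])
    have e3 := htop ((centralizer {π α}).comap π) (mem_centralizer_singleton_iff.2 rfl)
      (mem_centralizer_singleton_iff.2 e1.symm) (e2 (π α))
    have e4 := htop ((centralizer {π β}).comap π) (mem_centralizer_singleton_iff.2 e1)
      (mem_centralizer_singleton_iff.2 rfl) (e2 (π β))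
    refine commutator_le.2 fun x _ y _ => (QuotientGroup.eq_one_iff _).1 (?_ : π _ = 1)
    rw [map_commutatorElement, commutatorElement_eq_one_iff_mul_comm]
    exact mem_centralizer_singleton_iff.1 (htop ((centralizer {π y}).comap π) (mem_centralizer_singleton_iff.2
      (mem_centralizer_singleton_iff.1 (e3 y)).symm) (mem_centralizer_singleton_iff.2
      (mem_centralizer_singleton_iff.1 (e4 y)).symm) (e2 (π y)) x)
  · exact mem_center_iff.1 (hσ.2.1 (by rw [MonoidHom.mem_ker, map_pow, pow_orderOf_eq_one])) β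
  · rw [← inv_mul_eq_iff_eq_mul.2 e']
    exact (hl β).symm.inv_right.mul_right ((Commute.refl β).pow_right n)
  · have := h6 n
    have h7 : Commute (β ^ n) α := e' ▸ (hl α).mul_left ((Commute.refl α).pow_left _)
    rwa [h7.eq, mul_inv_cancel_right, right_eq_mul] at this

theorem meta_card_dvd {G : Type*} [Group G] [Finite G] {a b : G} {n r t g : ℕ}
    (hb : b * a * b⁻¹ = a ^ r) (ht : b ^ n = a ^ t) (hgen : closure {a, b} = ⊤) (hr : r ≠ 0)
    (hg : g * (orderOf a / (orderOf a).gcd (r - 1)) =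
      ((orderOf a).gcd t).gcd (∑ i ∈ Finset.range n, r ^ i)) :
    IsCyclic (SM G) ∧ Nat.card (SM G) ∣ g := by
  obtain ⟨f, hf⟩ := exists_cover G
  have ce := Ext.ce f
  have := ce.finite
  obtain ⟨c, h1, h2, h3, h4, h5⟩ := meta_upper (ce.isStem (ce.stem_iff.2 hf.1)) hb ht hgen hr
  rw [← orderOf_pow] at hg
  have h6 : (Ext.σ f).ker ≤ zpowers (c ^ orderOf (a ^ (r - 1))) := fun x hx => by
    obtain ⟨i, rfl⟩ := h1 hx
    rw [MonoidHom.mem_ker, map_zpow, h2, ← orderOf_dvd_iff_zpow_eq_one] at hx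
    obtain ⟨k, rfl⟩ := hx
    exact ⟨k, by simp only [zpow_mul, zpow_natCast]⟩
  have e := (du_equiv _).some.symm.trans ce.kerEquiv
  have := isCyclic_of_le h6
  refine ⟨isCyclic_of_surjective _ e.symm.surjective, ?_⟩
  rw [Nat.card_congr e.toEquiv]
  refine (card_dvd_of_le h6).trans ?_
  rw [Nat.card_zpowers, orderOf_dvd_iff_pow_eq_one, ← pow_mul, mul_comm, hg]
  exact pow_gcd_eq_one.2 ⟨pow_gcd_eq_one.2 ⟨h3, h4⟩, h5⟩

open scoped IsMulCommutative in
theorem hasSM_meta {G : Type*} [Group G] [Finite G] {a b : G} {n r t g : ℕ}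
    (hb : b * a * b⁻¹ = a ^ r) (ht : b ^ n = a ^ t) (hgen : closure {a, b} = ⊤) (hr : r ≠ 0)
    (hn : ∀ k : ℤ, b ^ k ∈ zpowers a → (n : ℤ) ∣ k)
    (hg : g * (orderOf a / (orderOf a).gcd (r - 1)) =
      ((orderOf a).gcd t).gcd (∑ i ∈ Finset.range n, r ^ i)) : HasCyclicSchurMultiplier G g := by
  obtain ⟨h1, h2⟩ := meta_card_dvd hb ht hgen hr hg
  refine hasSM_iff.2 ⟨mulEquivOfCyclicCardEq ?_⟩
  rw [Nat.card_congr Multiplicative.toAdd, Nat.card_zmod]
  refine Nat.dvd_antisymm ?_ h2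
  have hn0 : n ≠ 0 := fun e => by
    have := hn (orderOf b) (by rw [zpow_natCast, pow_orderOf_eq_one]; exact one_mem _)
    rw [e, Int.natCast_dvd_natCast, zero_dvd_iff] at this
    exact (orderOf_pos b).ne' this
  set e := ((orderOf a).gcd t).gcd (∑ i ∈ Finset.range n, r ^ i)
  have he : e ≠ 0 := Nat.gcd_ne_zero_left (Nat.gcd_ne_zero_left (orderOf_pos a).ne')
  have hw := (Complex.isPrimitiveRoot_exp e he).isUnit_unit he
  set w := ((Complex.isPrimitiveRoot_exp e he).isUnit he).unit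
  have h3 : ∀ k : ℕ, b ^ k * a * (b ^ k)⁻¹ = a ^ r ^ k := fun k => by
    induction k with
    | zero => simp
    | succ k ih => rw [pow_succ' r, pow_mul, ← hb, conj_pow, ← ih, pow_succ']; group
  obtain ⟨E, _, j, β, ρ, e1, e2, e3, e4, e5, e6, e7⟩ := exists_meta_ext
    (⟨a, mem_zpowers a⟩ : zpowers a) (by rintro ⟨_, k, rfl⟩; exact ⟨k, rfl⟩) r t hn0
    (Subtype.ext (by change a ^ r ^ n = a; rw [← h3, ht]; group))
    (Subtype.ext (by change (a ^ t) ^ r = a ^ t; rw [pow_right_comm, ← hb, conj_pow, ← ht]; group))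
    w ((hw.pow_eq_one_iff_dvd _).2 (by
      rw [orderOf_mk]; exact (Nat.gcd_dvd_left _ _).trans (Nat.gcd_dvd_left _ _)))
    ((hw.pow_eq_one_iff_dvd _).2 ((Nat.gcd_dvd_left _ _).trans (Nat.gcd_dvd_right _ _)))
    ((hw.pow_eq_one_iff_dvd _).2 (Nat.gcd_dvd_right _ _)) (zpowers a).subtype b hb ht
  have ce : CE (j.comp (MonoidHom.inl _ _)) ρ := by
    refine ⟨e1.comp (Prod.mk_left_injective _), MonoidHom.range_eq_top.1 (eq_top_iff.2
      (hgen ▸ (closure_le _).2 ?_)), fun x => ⟨fun hx => ?_, ?_⟩, fun z x => ?_⟩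
    · rintro _ (rfl | rfl)
      exacts [⟨_, e6 (1, ⟨_, mem_zpowers _⟩)⟩, ⟨_, e7⟩]
    · obtain ⟨y, k, rfl⟩ := e5 x
      have h4 := hx
      rw [map_mul, e6, map_zpow, e7, mul_eq_one_iff_inv_eq] at h4
      obtain ⟨k, rfl⟩ := hn k (h4 ▸ inv_mem y.2.2)
      rw [zpow_mul, zpow_natCast, e4, ← map_zpow, ← map_mul] at hx ⊢
      rw [e6] at hx
      exact ⟨_, congrArg j (Prod.ext rfl (Subtype.ext hx.symm))⟩
    · rintro ⟨z, rfl⟩
      exact e6 _
    · obtain ⟨y, k, rfl⟩ := e5 x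
      exact ((Commute.all _ y).map j).mul_right
        (Commute.zpow_right (mul_inv_eq_iff_eq_mul.1 (e2 z)).symm k)
  rw [← orderOf_pow] at hg
  have h5 : j (w ^ orderOf (a ^ (r - 1)), 1) ∈ commutator E := by
    have := pow_mem (commutator_mem_commutator (mem_top β) (mem_top (j (1, ⟨a, mem_zpowers a⟩))))
      (orderOf (a ^ (r - 1)))
    rw [commutatorElement_def, e3, ← map_inv, ← map_mul, ← map_pow] at this
    refine (congrArg j (Prod.ext ?_ (Subtype.ext ?_))) ▸ this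
    · simp
    symm
    change 1 = (a ^ r * a⁻¹) ^ _
    rw [← pow_sub_one_mul hr, mul_inv_cancel_right, pow_orderOf_eq_one]
  refine Nat.dvd_of_mul_dvd_mul_right (orderOf_pos (a ^ (r - 1))) ?_
  rw [hg, ← hw.pow_eq_one_iff_dvd, mul_comm, pow_mul]
  exact (ce.tra_eq_one' dv_units (l := Hm.of (MonoidHom.id _) ^ Nat.card (SM G))).1
    (by rw [map_pow, pow_card_eq_one']) _ h5

/-! ### the deficiency bound -/

theorem rank_SM_le (n : ℕ) (rels : Finset (FreeGroup (Fin n)))
    [Finite (PresentedGroup (rels : Set (FreeGroup (Fin n))))] {A : Type*} [CommGroup A] [Finite A]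
    {Γ : Type*} [Group Γ] {ι : A →* Γ} {σ : Γ →* PresentedGroup (rels : Set (FreeGroup (Fin n)))}
    (c : CE ι σ) (hs : c.Stem) : Group.rank A ≤ rels.card - n := by
  classical
  let φ : FreeGroup (Fin n) →* Γ := FreeGroup.lift fun i => surjInv c.surj (PresentedGroup.of i)
  have hφ : σ.comp φ = PresentedGroup.mk _ := FreeGroup.ext_hom _ _ fun i => by
    simp only [φ, MonoidHom.comp_apply, FreeGroup.lift_apply_of, surjInv_eq]; rfl
  have hφ' : ∀ x, σ (φ x) = PresentedGroup.mk _ x := DFunLike.congr_fun hφ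
  let ε : FreeGroup (Fin n) →* Multiplicative (Fin n → ℤ) :=
    FreeGroup.lift fun i => Multiplicative.ofAdd (Pi.single i 1)
  choose a ha using fun x : rels => (c.ex (φ x)).1 ((hφ' x).trans (PresentedGroup.one_of_mem x.2))
  let θ₁ : (rels → ℤ) →ₗ[ℤ] (Fin n → ℤ) := Fintype.linearCombination ℤ fun x => (ε x).toAdd
  let θ₂ : (rels → ℤ) →ₗ[ℤ] Additive A := Fintype.linearCombination ℤ fun x => Additive.ofMul (a x)
  have key : ∀ x, PresentedGroup.mk (rels : Set _) x = 1 →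
      ∃ v, θ₁ v = (ε x).toAdd ∧ ι (θ₂ v).toMul = φ x := fun x hx => by
    rw [PresentedGroup.mk_eq_one_iff] at hx
    induction hx using closure_induction with
    | mem x hx =>
      obtain ⟨y, hy, hc⟩ := Group.mem_conjugatesOfSet_iff.1 hx
      obtain ⟨g, rfl⟩ := isConj_iff.1 hc
      refine ⟨Pi.single ⟨y, hy⟩ 1, by simp [θ₁], ?_⟩
      rw [map_mul, map_mul, ← ha ⟨y, hy⟩, ← c.cent]
      simp [θ₂]
    | one => exact ⟨0, by simp, by simp⟩
    | mul x y _ _ hx hy =>
      obtain ⟨v, h1, h2⟩ := hx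
      obtain ⟨w, h3, h4⟩ := hy
      exact ⟨v + w, by simp [h1, h3], by simp [h2, h4]⟩
    | inv x _ hx =>
      obtain ⟨v, h1, h2⟩ := hx
      exact ⟨-v, by simp [h1], by simp [h2]⟩
  have h1 : commutator Γ ≤ (commutator _).map φ := commutator_le.2 fun g _ k _ => by
    obtain ⟨x, hx⟩ := PresentedGroup.mk_surjective _ (σ g)
    obtain ⟨y, hy⟩ := PresentedGroup.mk_surjective _ (σ k)
    obtain ⟨b, rfl⟩ := c.exists_mul (hx.symm.trans (hφ' x).symm)
    obtain ⟨d, rfl⟩ := c.exists_mul (hy.symm.trans (hφ' y).symm)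
    refine ⟨_, commutator_mem_commutator (mem_top x) (mem_top y), ?_⟩
    rw [map_commutatorElement, commutatorElement_def, commutatorElement_def, c.mul_mul, mul_assoc,
      mul_assoc (ι _ * _), ← mul_inv_rev, ← mul_inv_rev, c.mul_mul, mul_comm d, mul_inv_rev (ι _),
      c.cent, mul_assoc, mul_assoc, ← mul_assoc (ι _), c.cent]
    group
  have h2 : Surjective (θ₂.domRestrict θ₁.ker) := fun b => by
    obtain ⟨x, hx, e⟩ := h1 (hs b.toMul)
    obtain ⟨v, h3, h4⟩ := key x (by rw [← hφ', e, c.σι])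
    rw [show ε x = 1 from Abelianization.commutator_subset_ker ε hx] at h3
    exact ⟨⟨v, h3⟩, c.inj (h4.trans e)⟩
  have h3 : n ≤ Module.finrank ℤ θ₁.range := by
    set N := Nat.card (PresentedGroup (rels : Set (FreeGroup (Fin n))))
    have hN : (N : ℤ) ≠ 0 := Int.natCast_ne_zero.2 Nat.card_pos.ne'
    have hr : ∀ v, (N : ℤ) • v ∈ θ₁.range := fun v => by
      rw [← Finset.univ_sum_single v, Finset.smul_sum]
      refine Submodule.sum_mem _ fun i _ => ?_
      obtain ⟨w, hw, -⟩ := key (FreeGroup.of i ^ N) (by rw [map_pow, pow_card_eq_one'])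
      refine ⟨v i • w, ?_⟩
      rw [map_smul, hw]
      ext j
      simp [ε, Pi.single_apply, mul_comm]
    have := LinearMap.finrank_le_finrank_of_injective
      (f := LinearMap.codRestrict θ₁.range ((N : ℤ) • LinearMap.id) hr) fun v w e =>
        smul_right_injective _ hN (congrArg Subtype.val e)
    simpa using this
  have h4 := θ₁.ker.finrank_quotient_add_finrank
  rw [θ₁.quotKerEquivRange.finrank_eq] at h4
  let B := Module.finBasis ℤ θ₁.ker
  have h5 : closure ((Finset.univ.image fun i => (θ₂ (B i)).toMul : Finset A) : Set A) = ⊤ := by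
    rw [eq_top_iff']
    intro x
    obtain ⟨v, hv⟩ := h2 (Additive.ofMul x)
    rw [← B.sum_repr v, map_sum] at hv
    rw [← toMul_ofMul x, ← hv, toMul_sum]
    refine prod_mem fun i _ => ?_
    rw [map_smul, toMul_zsmul]
    exact zpow_mem (subset_closure (by simp)) _
  refine (Group.rank_le h5).trans (Finset.card_image_le.trans ?_)
  simp only [Module.finrank_fintype_fun_eq_card, Fintype.card_coe] at h4
  simp only [Finset.card_univ, Fintype.card_fin]
  omega

end CfsgH1
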