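import Cfsg.Agent.H1.PG1

/-! Subnormalizers of `p`-subgroups (Casolo). -/

set_option autoImplicit false
set_option linter.style.haveILetI false
set_option linter.unusedSectionVars false

namespace CfsgH1
open Subgroup Cfsg CfsgFT CfsgH2 CfsgLead

variable {G : Type*} [Group G] [Finite G] {p : ℕ}

theorem card_cj_fib (X L : Subgroup G) (Φ : Subgroup G → Prop) : Nat.card {g // g ∈ L ∧ Φ (cj g X)} =
    Nat.card {K // (∃ g ∈ L, K = cj g X) ∧ Φ K} * Nat.card (L ⊓ N(X) : Subgroup G) := by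
  refine card_of_fib (fun g => ⟨cj g.1 X, ⟨g.1, g.2.1, rfl⟩, g.2.2⟩) ?_
  rintro ⟨_, ⟨c, hc, rfl⟩, h⟩
  have e : ∀ n : (L ⊓ N(X) : Subgroup G), cj (c * n) X = cj c X := fun n => by rw [← cj_cj, cj_eq_of_norm n.2.2]
  refine Nat.card_congr ⟨fun g => ⟨c⁻¹ * g.1.1, mem_inf.2 ⟨mul_mem (inv_mem hc) g.1.2.1, mem_norm_iff_cj.2 ?_⟩⟩,
    fun n => ⟨⟨c * n, mul_mem hc n.2.1, by rwa [e]⟩, Subtype.ext (e n)⟩, fun g => by simp, fun n => by simp⟩
  rw [← cj_cj, show cj g.1.1 X = cj c X from congrArg Subtype.val g.2, cj_inv_cj]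

open Classical in
theorem exists_mob {α : Type*} [PartialOrder α] (L : Finset α) (f : α → ℤ) :
    ∃ μ : α → ℤ, ∀ R ∈ L, ∑ R' ∈ L with R ≤ R', μ R' = f R := by
  induction L using Finset.strongInduction with | H L ih => ?_
  rcases L.eq_empty_or_nonempty with rfl | h
  · exact ⟨0, by simp⟩
  obtain ⟨m, hm⟩ := L.exists_minimal h
  obtain ⟨μ, hμ⟩ := ih (L.erase m) (Finset.erase_ssubset hm.1)
  obtain ⟨c, hc⟩ : ∃ c, c = f m - ∑ R' ∈ L.erase m with m ≤ R', μ R' := ⟨_, rfl⟩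
  refine ⟨Function.update μ m c, fun R hR => ?_⟩
  have e : ∀ R, ∑ R' ∈ L.erase m with R ≤ R', Function.update μ m c R' =
      ∑ R' ∈ L.erase m with R ≤ R', μ R' := fun R => Finset.sum_congr rfl fun x hx =>
    Function.update_of_ne (Finset.ne_of_mem_erase (Finset.mem_filter.1 hx).1) _ _
  conv_lhs => rw [← Finset.insert_erase hm.1, Finset.filter_insert]
  rcases eq_or_ne R m with rfl | n
  · rw [if_pos le_rfl, Finset.sum_insert (by simp), e, Function.update_self, hc, sub_add_cancel]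
  · rw [if_neg fun l => n (le_antisymm l (hm.2 hR l)), e, hμ R (Finset.mem_erase.2 ⟨n, hR⟩)]

def Sz (H : Subgroup G) (g : G) : Prop := (H.subgroupOf (H ⊔ zpowers g)).IsSubnormal

variable [Fact p.Prime]

theorem sz_iff {H : Subgroup G} (hH : IsPGroup p H) {g : G} : Sz H g ↔ ∃ R : Subgroup G, IsPGroup p R ∧ H ≤ R ∧ g ∈ N(R) :=
  ⟨fun h => ⟨_, isPGroup_Opi _, le_Opi_of_sn ⟨le_sup_left, h⟩ (isPi_singleton_iff.2 hH),
    le_normalizer_Opi _ _ (mem_sup_right (mem_zpowers g))⟩, fun ⟨_, h1, h2, h3⟩ =>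
    (((sn_of_nilpotent h1.isNilpotent h2).trans (SN.of_normal (le_sup_left (b := zpowers g))
      (sup_le le_normalizer (zpowers_le_of_mem h3)))).mono le_sup_left (sup_le_sup_right h2 _)).2⟩

theorem sz_rad {H : Subgroup G} (hH : IsPGroup p H) {g : G} :
    Sz H g ↔ ∃ R : Subgroup G, H ≤ R ∧ Opi {p} N(R) = R ∧ g ∈ N(R) := by
  refine (sz_iff hH).trans ⟨fun ⟨R, h⟩ => ?_, fun ⟨R, h1, h2, h3⟩ => ⟨R, h2 ▸ isPGroup_Opi _, h1, h3⟩⟩
  obtain ⟨R, -, h, m⟩ := exists_maximal_subgroup (Φ := fun R => IsPGroup p R ∧ H ≤ R ∧ g ∈ N(R)) h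
  have l := le_Opi_p le_normalizer le_rfl h.1
  exact ⟨R, h.2.1, m _ ⟨isPGroup_Opi _, h.2.1.trans l, le_normalizer_Opi _ _ h.2.2⟩ l, h.2.2⟩

theorem sInf_le_rad {H R : Subgroup G} (h1 : H ≤ R) (h2 : Opi {p} N(R) = R) :
    sInf {K : Subgroup G | ∃ Q : Sylow p G, H ≤ (Q : Subgroup G) ∧ K = Q} ≤ R := by
  have hR : IsPGroup p R := h2 ▸ isPGroup_Opi _
  obtain ⟨Q, hQ⟩ := hR.exists_le_sylow
  set J := sInf {K : Subgroup G | ∃ Q : Sylow p G, R ≤ (Q : Subgroup G) ∧ K = Q}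
  have hJ : IsPGroup p J := Q.2.to_le (sInf_le ⟨Q, hQ, rfl⟩)
  have l : R ≤ J := le_sInf (by rintro _ ⟨Q, h, rfl⟩; exact h)
  have n : N(R) ≤ N(J) := fun g hg => mem_normalizer_of_cj_le (le_sInf (by
    rintro _ ⟨Q, h, rfl⟩
    exact cj_le_iff_le_cj_inv.2 (sInf_le ⟨g⁻¹ • Q, le_cj_of_norm (inv_mem hg) h, (sylow_smul_coe _ _).symm⟩)))
  refine (sInf_le_sInf (by rintro _ ⟨Q, h, rfl⟩; exact ⟨Q, h1.trans h, rfl⟩)).trans (l.eq_or_lt.resolve_right fun k => ?_).ge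
  exact (lt_inf_normalizer hJ k).not_ge ((le_Opi_p inf_le_right (le_normalizer_inf n le_normalizer) hJ.to_inf_left).trans h2.le)

/-- no proper invariant subgroup -/
def Gd (p : ℕ) (H T : Subgroup G) (g : G) : Prop :=
  IsPGroup p T ∧ g ∈ N(T) ∧ H ≤ T ∧ ∀ R, R ≤ T → T ≤ N(R) → g ∈ N(R) → H ≤ R → R = T

theorem Gd.le {H T M : Subgroup G} {g : G} (h : Gd p H T g) (h1 : H ≤ M) (h2 : g ∈ N(M)) : T ≤ M := by
  by_contra n
  have z : ∀ {X}, g ∈ N(X) ↔ zpowers g ≤ N(X) := zpowers_le.symm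
  obtain ⟨R, l, ⟨k1, k2⟩, m⟩ := exists_maximal_subgroup (Φ := fun R => R < T ∧ g ∈ N(R)) (A := T ⊓ M)
    ⟨inf_lt_left.2 n, z.2 (le_normalizer_inf (z.1 h.2.1) (z.1 h2))⟩
  have k3 := lt_inf_normalizer h.1 k1
  refine k1.ne (h.2.2.2 R k1.le (by_contra fun k => k3.ne' (m _ ⟨inf_lt_left.2 k, ?_⟩ k3.le)) k2 ((le_inf h.2.2.1 h1).trans l))
  exact z.2 (le_normalizer_inf (z.1 h.2.1) (le_norm_norm (z.1 k2)))

theorem gd_iff {H L : Subgroup G} (hH : IsPGroup p H) (hL : H ≤ L) {g : G} (hg : g ∈ L) :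
    Sz H g ↔ ∃! T, T ≤ L ∧ Gd p H T g := by
  refine (sz_iff hH).trans ⟨fun ⟨R, h⟩ => ?_, fun ⟨T, h, _⟩ => ⟨T, h.2.1, h.2.2.2.1, h.2.2.1⟩⟩
  obtain ⟨T, -, h, m⟩ := exists_minimal_subgroup (Φ := fun R => IsPGroup p R ∧ H ≤ R ∧ g ∈ N(R)) h
  have k : Gd p H T g := ⟨h.1, h.2.2, h.2.1, fun R a _ b c => m R ⟨h.1.to_le a, c, b⟩ a⟩
  exact ⟨T, ⟨k.le hL (le_normalizer hg), k⟩, fun T' h' => le_antisymm (h'.2.le h.2.1 h.2.2) (k.le h'.2.2.2.1 h'.2.2.1)⟩

open Classical in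
theorem exists_mu [Fintype (Subgroup G)] : ∃ μ : Subgroup G → G → Subgroup G → ℤ, ∀ (T : Subgroup G) g (H : Subgroup G), IsPGroup p T → g ∈ N(T) →
    ∑ R with (R ≤ T ∧ T ≤ N(R) ∧ g ∈ N(R)) ∧ H ≤ R, μ T g R = if Gd p H T g then 1 else 0 := by
  choose μ hμ using fun (T : Subgroup G) (g : G) => exists_mob (Finset.univ.filter fun R => R ≤ T ∧ T ≤ N(R) ∧ g ∈ N(R))
    fun R => if R = T then 1 else 0
  refine ⟨μ, fun T g H h1 h2 => ?_⟩
  by_cases l : H ≤ T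
  · obtain ⟨M, -, ⟨a, b⟩, m⟩ := exists_minimal_subgroup (Φ := fun R => (R ≤ T ∧ T ≤ N(R) ∧ g ∈ N(R)) ∧ H ≤ R)
      ⟨⟨le_rfl, le_normalizer, h2⟩, l⟩
    have m' : ∀ R, R ≤ T → T ≤ N(R) → g ∈ N(R) → H ≤ R → M ≤ R := fun R k1 k2 k3 k4 => inf_eq_left.1 (m _ ⟨⟨inf_le_left.trans a.1,
      le_normalizer_inf a.2.1 k2, zpowers_le.1 (le_normalizer_inf (zpowers_le.2 a.2.2) (zpowers_le.2 k3))⟩, le_inf b k4⟩ inf_le_left)
    have := hμ T g M (Finset.mem_filter.2 ⟨Finset.mem_univ _, a⟩)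
    rw [Finset.filter_filter] at this
    rw [Finset.filter_congr (q := fun R => (R ≤ T ∧ T ≤ N(R) ∧ g ∈ N(R)) ∧ M ≤ R) fun R _ =>
      and_congr_right fun k => ⟨m' R k.1 k.2.1 k.2.2, b.trans⟩]
    convert this using 2
    exact ⟨fun k => k.2.2.2 M a.1 a.2.1 a.2.2 b, fun e => ⟨h1, h2, l, fun R k1 k2 k3 k4 => le_antisymm k1 (e ▸ m' R k1 k2 k3 k4)⟩⟩
  · rw [if_neg fun k => l k.2.2.1]
    exact Finset.sum_eq_zero fun R hR => (l ((Finset.mem_filter.1 hR).2.2.trans (Finset.mem_filter.1 hR).2.1.1)).elim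

theorem card_sylowIn_mul {L S : Subgroup G} (hS : IsSylowIn p S L) (Φ : Subgroup G → Prop) :
    Nat.card {g // g ∈ L ∧ Φ (cj g S)} = Nat.card {K // IsSylowIn p K L ∧ Φ K} * Nat.card (L ⊓ N(S) : Subgroup G) := by
  rw [card_cj_fib]
  congr 1
  refine Nat.card_congr (Equiv.subtypeEquivRight fun K => and_congr_left' ⟨?_, fun h => ?_⟩)
  · rintro ⟨g, hg, rfl⟩; exact hS.cj_of_mem_normalizer (le_normalizer hg)
  · obtain ⟨g, hg, e⟩ := hS.exists_cj_eq h; exact ⟨g, hg, e.symm⟩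

open Classical in
theorem sum_sylowIn [Fintype (Subgroup G)] {L S : Subgroup G} (hS : IsSylowIn p S L) (H : Subgroup G) :
    ∑ R ∈ Finset.univ.filter fun R : Subgroup G => (IsPGroup p R ∧ R ≤ L) ∧ H ≤ R, (if IsSylowIn p R (L ⊓ N(R)) then (Nat.card (L ⊓ N(R) : Subgroup G) : ℤ) else 0) =
      Nat.card {g // g ∈ L ∧ H ≤ cj g S} := by
  rw [card_sylowIn_mul hS, ← Finset.sum_filter, Finset.filter_filter, Finset.filter_congr (q := fun K => IsSylowIn p K L ∧ H ≤ K)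
    fun R _ => ⟨fun h => ⟨?_, h.1.2⟩, fun h => ⟨⟨⟨h.1.pgroup, h.1.le⟩, h.2⟩, h.1.mono (le_inf h.1.le le_normalizer) inf_le_left⟩⟩,
    Finset.sum_congr rfl (g := fun _ => (Nat.card (L ⊓ N(S) : Subgroup G) : ℤ)) fun R hR => ?_]
  · simp [Fintype.card_subtype]
  · obtain ⟨g, hg, rfl⟩ := hS.exists_cj_eq (Finset.mem_filter.1 hR).2.1
    rw [← cj_normalizer, ← card_cj g (L ⊓ N(S)), cj_inf, cj_eq_of_mem hg]
  · exact sylow_of_norm_le h.2 h.1.1.2 le_rfl

theorem card_sz {H L S : Subgroup G} (hH : IsPGroup p H) (hL : H ≤ L) (hS : IsSylowIn p S L) :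
    Nat.card {g // g ∈ L ∧ Sz H g} = Nat.card {g // g ∈ L ∧ H ≤ cj g S} := by
  classical
  haveI := Fintype.ofFinite G
  haveI := Fintype.ofFinite (Subgroup G)
  obtain ⟨μ, hμ⟩ := exists_mu (G := G) (p := p)
  let Φ : Subgroup G → Subgroup G → ℤ := fun R L =>
    ∑ g, ∑ T : Subgroup G, if IsPGroup p T ∧ R ≤ T ∧ T ≤ L ∧ g ∈ L ∧ g ∈ N(T) then μ T g R else 0
  have A : ∀ H L : Subgroup G, IsPGroup p H → H ≤ L →
      ∑ R ∈ Finset.univ.filter fun R : Subgroup G => (IsPGroup p R ∧ R ≤ L) ∧ H ≤ R, Φ R (L ⊓ N(R)) = Nat.card {g // g ∈ L ∧ Sz H g} := fun H L hH hL => by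
    rw [Finset.sum_comm, Nat.card_eq_fintype_card, Fintype.card_subtype, Finset.card_filter, Nat.cast_sum]
    refine Finset.sum_congr rfl fun g _ => ?_
    rw [Finset.sum_comm, Finset.sum_congr rfl (g := fun T => if g ∈ L ∧ T ≤ L ∧ Gd p H T g then 1 else 0) fun T _ => ?_]
    · by_cases hg : g ∈ L
      · by_cases k : Sz H g
        · obtain ⟨T, h1, h2⟩ := (gd_iff hH hL hg).1 k
          rw [Finset.sum_eq_single T (fun T' _ n => if_neg fun h => n (h2 T' h.2)) (by simp), if_pos ⟨hg, h1⟩, if_pos ⟨hg, k⟩]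
          rfl
        · rw [if_neg fun h => k h.2]
          exact Finset.sum_eq_zero fun T _ => if_neg fun h => k ((sz_iff hH).2 ⟨T, h.2.2.1, h.2.2.2.2.1, h.2.2.2.1⟩)
      · simp [hg]
    · by_cases k : IsPGroup p T ∧ T ≤ L ∧ g ∈ L ∧ g ∈ N(T)
      · rw [← Finset.sum_filter, Finset.filter_filter, Finset.filter_congr
          (q := fun R => (R ≤ T ∧ T ≤ N(R) ∧ g ∈ N(R)) ∧ H ≤ R) fun R _ => ⟨fun h => ⟨⟨h.2.2.1, h.2.2.2.1.trans inf_le_right,
            h.2.2.2.2.1.2⟩, h.1.2⟩, fun h => ⟨⟨⟨k.1.to_le h.1.1, h.1.1.trans k.2.1⟩, h.2⟩, k.1, h.1.1, le_inf k.2.1 h.1.2.1,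
              ⟨k.2.2.1, h.1.2.2⟩, k.2.2.2⟩⟩, hμ T g H k.1 k.2.2.2]
        simp [k.2.1, k.2.2.1]
      · rw [if_neg fun h => k ⟨h.2.2.1, h.2.1, h.1, h.2.2.2.1⟩]
        exact Finset.sum_eq_zero fun R _ => if_neg fun h => k ⟨h.1, h.2.2.1.trans inf_le_left, h.2.2.2.1.1, h.2.2.2.2⟩
  have B : ∀ R L : Subgroup G, IsPGroup p R → R ≤ L →
      Φ R (L ⊓ N(R)) = if IsSylowIn p R (L ⊓ N(R)) then (Nat.card (L ⊓ N(R) : Subgroup G) : ℤ) else 0 := fun R => by
    induction R using WellFoundedGT.induction with | _ R ih => ?_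
    intro L hR hL
    set M := L ⊓ N(R)
    have hM : R ≤ M := le_inf hL le_normalizer
    obtain ⟨S, hS⟩ := IsSylowIn.exists_sylowIn (p := p) M
    have e := (A R M hR hM).trans ((congrArg Nat.cast (Nat.card_congr (Equiv.subtypeEquivRight fun g => and_congr_right fun hg =>
      iff_of_true ((sz_iff hR).2 ⟨R, hR, le_rfl, hg.2⟩) (le_cj_of_norm hg.2 (hS.le_of_normalizer hR hM inf_le_right))))).trans
      (sum_sylowIn hS R).symm)
    have m : R ∈ Finset.univ.filter fun R' : Subgroup G => (IsPGroup p R' ∧ R' ≤ M) ∧ R ≤ R' := by simp [hR, hM]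
    rw [← Finset.add_sum_erase _ _ m, ← Finset.add_sum_erase _ _ m, Finset.sum_congr rfl fun R' h => ih R'
      (lt_of_le_of_ne (Finset.mem_filter.1 (Finset.mem_erase.1 h).2).2.2 (Finset.mem_erase.1 h).1.symm) M
        (Finset.mem_filter.1 (Finset.mem_erase.1 h).2).2.1.1 (Finset.mem_filter.1 (Finset.mem_erase.1 h).2).2.1.2,
      add_left_inj, inf_eq_left.2 (inf_le_right : M ≤ N(R))] at e
    exact e
  have := A H L hH hL
  rw [Finset.sum_congr rfl fun R h => B R L (Finset.mem_filter.1 h).2.1.1 (Finset.mem_filter.1 h).2.1.2, sum_sylowIn hS] at this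
  exact_mod_cast this.symm

theorem tele {n : ℕ} (a s : Fin (n + 1) → ℕ) (t : Fin n → ℕ)
    (h : ∀ i, ∃ e, a i.castSucc * e = a i.succ * t i ∧ s i.castSucc * e = s i.succ) :
    a 0 * s (Fin.last n) = a (Fin.last n) * (s 0 * ∏ i, t i) := by
  induction n with
  | zero => simp
  | succ n ih =>
    obtain ⟨e, h1, h2⟩ := h (Fin.last n)
    have := ih (a ∘ Fin.castSucc) (s ∘ Fin.castSucc) (t ∘ Fin.castSucc) fun i => h i.castSucc
    simp only [Function.comp, Fin.castSucc_zero] at this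
    rw [Fin.prod_univ_castSucc, ← Fin.succ_last, ← h2, ← mul_assoc, this, mul_right_comm, h1]
    ring

theorem sz_step {H P M M' : Subgroup G} [M.Normal] [M'.Normal] (hH : IsPGroup p H) (hP : IsSylowIn p P ⊤) (l : M ≤ M')
    (h : (∃ m, M.relIndex M' = p ^ m) ∨ (M.relIndex M').Coprime p) :
    ∃ e, Nat.card {g // H ≤ cj g P ⊔ M} * e = Nat.card {g // H ≤ cj g P ⊔ M'} * (if (M.relIndex M').Coprime p then
      Nat.card {u : G // u ∈ M' ∧ ∀ h ∈ H, h * u * h⁻¹ * u⁻¹ ∈ M} / Nat.card M else 1) ∧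
      Nat.card (P ⊔ M : Subgroup G) * e = Nat.card (P ⊔ M' : Subgroup G) := by
  have nn : ∀ (X Y : Subgroup G) [Y.Normal], X ≤ N(Y) := fun X Y _ => le_top.trans (normalizer_eq_top Y).ge
  have hS : ∀ g, IsSylowIn p (cj g P) ⊤ := fun g => cj_top g ▸ hP.cj g
  split_ifs with c
  · have k : ∀ g, cj g P ⊓ M' ≤ M := fun g x hx => (show (cj g P).subgroupOf M' ≤ M.subgroupOf M' from by
      obtain ⟨k, hk⟩ := IsPGroup.iff_card.1 ((hS g).pgroup.comap_subtype (K := M'))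
      exact le_of_coprime_card_index (hk ▸ (c.symm.pow_left k))) (show (⟨x, hx.2⟩ : M') ∈ _ from hx.1)
    let U : Subgroup G :=
      { carrier := {u | u ∈ M' ∧ ∀ h ∈ H, h * u * h⁻¹ * u⁻¹ ∈ M}
        one_mem' := ⟨one_mem _, fun x _ => by simp⟩
        mul_mem' := fun {a b} ha hb => ⟨mul_mem ha.1 hb.1, fun x hx => by
          convert mul_mem (ha.2 x hx) (‹M.Normal›.conj_mem _ (hb.2 x hx) a) using 1; group⟩
        inv_mem' := fun {a} ha => ⟨inv_mem ha.1, fun x hx => by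
          convert ‹M.Normal›.conj_mem _ (inv_mem (ha.2 x hx)) a⁻¹ using 1; group⟩ }
    have lU : M ≤ U := fun u hu => ⟨l hu, fun x _ => mul_mem (‹M.Normal›.conj_mem _ hu x) (inv_mem hu)⟩
    have e1 : Nat.card {u : G // u ∈ M' ∧ ∀ h ∈ H, h * u * h⁻¹ * u⁻¹ ∈ M} = Nat.card M * M.relIndex U :=
      (CfsgH2.card_mul_relIndex lU).symm
    refine ⟨M.relIndex M', Nat.eq_of_mul_eq_mul_left (Nat.card_pos (α := M)) ?_, ?_⟩
    · rw [e1, Nat.mul_div_cancel_left _ Nat.card_pos, mul_left_comm, CfsgH2.card_mul_relIndex l, mul_left_comm, ← e1,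
        ← Nat.card_prod]
      have w : ∀ x : {g // H ≤ cj g P ⊔ M} × M', H ≤ cj ((x.2 : G)⁻¹ * x.1) P ⊔ M' := fun x => by
        refine x.1.2.trans (sup_le ?_ (l.trans le_sup_right))
        rw [← mul_inv_cancel_left (x.2 : G) x.1, ← cj_cj, mul_inv_cancel_left]
        exact cj_le_of_mem (mem_sup_right x.2.2) le_sup_left
      refine card_of_fib (fun x => ⟨(x.2 : G)⁻¹ * x.1, w x⟩) ?_
      · rintro ⟨g, hg⟩
        obtain ⟨x, hx, k1⟩ := ((hS g).mono (le_sup_left (b := M')) le_top).exists_cj_le hH hg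
        obtain ⟨y, hy, u, hu, rfl⟩ := (mem_sup_of_normalizer' (nn _ _)).1 hx
        rw [cj_le_iff_le_cj_inv, mul_inv_rev, ← cj_cj, cj_eq_of_mem (inv_mem hy), cj_cj] at k1
        have key : ∀ v ∈ M', H ≤ cj (v * (u⁻¹ * g)) P ⊔ M ↔ ∀ h ∈ H, h * v * h⁻¹ * v⁻¹ ∈ M := fun v hv => by
          rw [← cj_cj, ← cj_eq_of_normal v M, ← cj_sup, cj_eq_of_normal v M]
          refine forall₂_congr fun x hx => mem_cj.trans ⟨fun a => ?_, fun a => ?_⟩
          · have : v⁻¹ * x * v * x⁻¹ ∈ M' ⊓ (cj (u⁻¹ * g) P ⊔ M) := mem_inf.2 ⟨by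
              convert mul_mem (inv_mem hv) (‹M'.Normal›.conj_mem _ hv x) using 1; group,
              mul_mem a (mem_sup_left (inv_mem (k1 hx)))⟩
            rw [sup_comm, inf_sup_left l (nn _ _), inf_comm, sup_eq_left.2 (k _)] at this
            convert ‹M.Normal›.conj_mem _ this v using 1; group
          · convert mul_mem (mem_sup_right (‹M.Normal›.conj_mem _ a v⁻¹)) (mem_sup_left (k1 hx)) using 1; group
        refine Nat.card_congr ⟨fun z => ⟨z.1.2 * u, mul_mem z.1.2.2 hu, (key _ (mul_mem z.1.2.2 hu)).1 ?_⟩,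
          fun v => ⟨⟨⟨v * (u⁻¹ * g), (key _ v.2.1).2 v.2.2⟩, ⟨v * u⁻¹, mul_mem v.2.1 (inv_mem hu)⟩⟩, Subtype.ext (by simp [mul_assoc])⟩,
          fun z => ?_, fun v => by simp⟩
        · have := congrArg Subtype.val z.2
          simp only at this
          rw [mul_assoc, mul_inv_cancel_left, ← inv_mul_eq_iff_eq_mul.1 this]
          exact z.1.1.2
        · have := congrArg Subtype.val z.2
          simp only at this
          refine Subtype.ext (Prod.ext (Subtype.ext ?_) (Subtype.ext (by simp)))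
          simp only [mul_assoc, mul_inv_cancel_left]
          exact (inv_mul_eq_iff_eq_mul.1 this).symm
    · have a := card_sup_of_le_normalizer (nn P M)
      have b := card_sup_of_le_normalizer (nn P M')
      have e : M' ⊓ P = M ⊓ P := le_antisymm (le_inf ((inf_comm _ _).le.trans (by simpa only [cj_one] using k 1)) inf_le_right)
        (inf_le_inf_right _ l)
      rw [e, ← CfsgH2.card_mul_relIndex l, mul_right_comm, ← a, mul_right_comm, sup_comm, sup_comm M] at b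
      exact (Nat.eq_of_mul_eq_mul_right Nat.card_pos b).symm
  · obtain ⟨m, hm⟩ := h.resolve_right c
    have k : ∀ g, cj g P ⊔ M = cj g P ⊔ M' := fun g => le_antisymm (sup_le_sup_left l _) (sup_le le_sup_left
      ((((hS g).inf_of_normalizer' le_top (nn _ _)).sup_eq_of_pow l hm).ge.trans (sup_le_sup_right inf_le_left _)))
    exact ⟨1, by simp only [k], by simpa only [cj_one, mul_one] using congrArg (fun X : Subgroup G => Nat.card X) (k 1)⟩

theorem card_sz' {H : Subgroup G} (hH : IsPGroup p H) (P : Sylow p G) :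
    Nat.card {g // Sz H g} = Nat.card {g // H ≤ cj g P} := by
  simpa using card_sz hH le_top (.of_sylow_top P)

end CfsgH1
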