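import Cfsg.Agent.H1.Dk8

/-! Solvabilizers in the minimal simple groups `PSL₂(2^r)` and `PSL₂(3^r)`. -/

set_option autoImplicit false
set_option linter.style.haveILetI false
set_option linter.unusedSectionVars false

namespace CfsgH1.L2

open Matrix Subgroup Cfsg CfsgH2 CfsgH9
open Matrix.SpecialLinearGroup (toGL)
open scoped commutatorElement

local notation "C1(" x ")" => Subgroup.centralizer (Singleton.singleton x : Set _)
local notation "N(" x ")" => Subgroup.normalizer (SetLike.coe x)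
local notation "C(" x ")" => Subgroup.centralizer (SetLike.coe x)

section
variable {G : Type*} [Group G] [Finite G]

def Sol (x : G) : Set G := {y | Group.IsSolvable (closure ({x, y} : Set G))}

theorem mem_sol {L : Subgroup G} (h : Group.IsSolvable L) {x y : G} (hx : x ∈ L) (hy : y ∈ L) : y ∈ Sol x :=
  isSolvable_of_le h ((closure_le _).2 (Set.pair_subset hx hy))

theorem sol_conj {x x' : G} (h : IsConj x x') : (Sol x).ncard = (Sol x').ncard := by
  have k : ∀ {x x' : G}, IsConj x x' → (Sol x).ncard ≤ (Sol x').ncard := fun {x x'} h => by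
    obtain ⟨c, rfl⟩ := isConj_iff.1 h
    refine Set.ncard_le_ncard_of_injOn (MulAut.conj c) (fun y hy => ?_) (MulAut.conj c).injective.injOn
    haveI : Group.IsSolvable (closure ({x, y} : Set G)) := hy
    exact mem_sol (isSolvable_of_equiv ((MulAut.conj c).subgroupMap (closure {x, y})))
      ⟨x, subset_closure (by simp), rfl⟩ ⟨y, subset_closure (by simp), rfl⟩
  exact le_antisymm (k h) (k h.symm)

theorem solv_ext {R : Subgroup G} {a : G} (h : R ≤ C(R)) (ha : a ∈ N(R)) : Group.IsSolvable ↥(R ⊔ zpowers a) :=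
  isSolvable_of_der_comm (CfsgFT.cent_mono h (der_sup_zp ha) (der_sup_zp ha))

theorem sol_dih {x t : G} (hx : x * x = 1) (ht : t * t = 1) : ∃ L : Subgroup G, Group.IsSolvable L ∧ x ∈ L ∧ t ∈ L := by
  refine ⟨_, solv_ext (R := zpowers (x * t)) (le_centralizer _) (a := x) (mem_normalizer_of_conj_mem ?_),
    mem_sup_right (mem_zpowers x), ?_⟩
  · rintro _ ⟨i, rfl⟩
    change x * (x * t) ^ i * x⁻¹ ∈ _
    rw [← conj_zpow, invol_inverts hx ht]; exact zpow_mem (inv_mem (mem_zpowers _)) _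
  · simpa using mul_mem (inv_mem (mem_sup_right (mem_zpowers x))) (mem_sup_left (mem_zpowers (x * t)))

theorem sol_a4 {t y : G} (ht : t * t = 1) (hy : y ^ 3 = 1) (h : (t * y) ^ 3 = 1) :
    ∃ L : Subgroup G, Group.IsSolvable L ∧ t ∈ L ∧ y ∈ L := by
  have e : y * (y * t * y⁻¹) * y⁻¹ = (t * (y * t * y⁻¹))⁻¹ := by
    rw [eq_inv_iff_mul_eq_one, mul_eq_one_comm]
    calc _ = (t * y) ^ 3 * (y ^ 3)⁻¹ := by simp only [pow_succ]; group
      _ = _ := by rw [h, hy]; simp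
  have c : Commute t (y * t * y⁻¹) := commute_of_mul_self ht (conj_mul_self ht y) (by
    rw [← _root_.inv_inj, _root_.mul_inv_rev, ← e, conj_mul_self (conj_mul_self ht y), inv_one])
  refine ⟨_, solv_ext (R := zpowers t ⊔ zpowers (y * t * y⁻¹)) ?_ (a := y) (mem_normalizer_of_conj_mem fun a ha =>
    (sup_le (zpowers_le.2 ?_) (zpowers_le.2 ?_) :
      _ ≤ (zpowers t ⊔ zpowers (y * t * y⁻¹)).comap (MulAut.conj y).toMonoidHom) ha),
    mem_sup_left (mem_sup_left (mem_zpowers t)), mem_sup_right (mem_zpowers y)⟩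
  · refine sup_le (CfsgFT.le_cent_sup ?_ ?_) (CfsgFT.le_cent_sup ?_ ?_) <;>
      rw [CfsgFT.cent_zpowers, zpowers_le, CfsgFT.mem_cent1]
    exacts [c.symm, c]
  · exact mem_sup_right (S := zpowers t) (mem_zpowers (y * t * y⁻¹))
  · exact (e ▸ inv_mem (mul_mem_sup (mem_zpowers _) (mem_zpowers _)) :
      y * (y * t * y⁻¹) * y⁻¹ ∈ zpowers t ⊔ zpowers (y * t * y⁻¹))

theorem ncard_inv {L : Subgroup G} {x : G} (hx : x * x = 1) (h : C1(x) ≤ L) :
    ((L : Set G) ∪ ({t | t * t = 1} ∪ {y | x * y * (x * y) = 1})).ncard =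
      Nat.card L + 2 * ({t | t * t = 1} \ (L : Set G)).ncard := by
  have xL := h (self_mem_cent x)
  rw [← Set.union_sdiff_self, Set.ncard_union_eq Set.disjoint_sdiff_right, Set.union_sdiff_distrib,
    Set.ncard_union_eq (Set.disjoint_left.2 fun t a b => a.2 (h (CfsgFT.mem_cent1.2 (commute_of_mul_self hx a.1 b.1)))),
    two_mul]
  congr 2
  refine Set.ncard_congr (fun y _ => x * y) (fun y k => ⟨k.1, fun m => k.2 ((mul_mem_cancel_left xL).1 m)⟩)
    (fun a b _ _ e => mul_left_cancel e) fun t k => ⟨x⁻¹ * t, ⟨by simpa using k.1, fun m =>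
      k.2 ((mul_mem_cancel_left (inv_mem xL)).1 m)⟩, by simp⟩

theorem ncard_three {A B D T : Subgroup G} (h1 : A ⊓ B = T) (h2 : A ⊓ D = T) (h3 : B ⊓ D = T) :
    ((A : Set G) ∪ B ∪ D).ncard + 2 * Nat.card T = Nat.card A + Nat.card B + Nat.card D := by
  have a := Set.ncard_union_add_ncard_inter ((A : Set G) ∪ B) D
  have b := Set.ncard_union_add_ncard_inter (A : Set G) B
  rw [Set.union_inter_distrib_right, ← coe_inf, ← coe_inf, h2, h3, Set.union_self] at a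
  rw [← coe_inf, h1] at b
  simp only [← Nat.card_coe_set_eq, SetLike.coe_sort_coe] at a b ⊢
  omega

theorem a4_struct {H : Subgroup G} (h : NCN H) (hc : Nat.card H = 12) : ∃ V ≤ H, (∀ v ∈ V, v * v = 1) ∧
    (∀ a ∈ H, a ∉ V → a ^ 3 = 1) ∧ (∀ a ∈ H, a * a = 1 → a ∈ V) ∧
    ∀ x ∈ H, x ∉ V → ∀ y ∈ H, ∃ i < 3, ∃ t ∈ V, y = x ^ i * t := by
  obtain ⟨V, h1, h2, h3⟩ := ncn_klein h (.inl hc)
  have le := h1.trans (CfsgFT.der_le H)
  have r := CfsgH2.card_mul_relIndex le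
  rw [h2.card_four, hc] at r
  have r3 : (V.subgroupOf H).index = 3 := by change V.relIndex H = 3; omega
  haveI := (normal_subgroupOf_iff_le_normalizer le).2 h3
  have k : ∀ a ∈ H, a * a = 1 → a ∈ V := fun a ha e => by
    have : a ^ 3 ∈ V := r3 ▸ (V.subgroupOf H).pow_index_mem ⟨a, ha⟩
    rwa [pow_succ, pow_two, e, one_mul] at this
  have k3 : ∀ a ∈ H, a ∉ V → a ^ 3 = 1 := fun a ha n => orderOf_dvd_iff_pow_eq_one.1
    (((ncn_order h ha).1 hc).resolve_left fun d => n (k a ha (by rw [← pow_two]; exact orderOf_dvd_iff_pow_eq_one.1 d)))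
  refine ⟨V, le, (isKleinFour_iff.1 h2).2, k3, k, fun x hx n y hy => ?_⟩
  have : (V ⊔ zpowers x).subgroupOf H = ⊤ := (eq_or_top_of_prime (subgroupOf_mono H le_sup_left)
    (r3 ▸ Nat.prime_three)).resolve_left fun e => n (mem_subgroupOf.1 (e.le (mem_subgroupOf.2 (mem_sup_right (mem_zpowers x)) : (⟨x, hx⟩ : H) ∈ _)))
  obtain ⟨t, ht, _, ⟨i, rfl⟩, rfl⟩ := (mem_sup_of_normalizer (zpowers_le.2 (h3 hx))).1 (subgroupOf_eq_top.1 this hy)
  refine ⟨(i % 3).toNat, by omega, (x ^ i)⁻¹ * t * (x ^ i)⁻¹⁻¹, conj_mem_of_mem_normalizer (inv_mem (zpow_mem (h3 hx) i)) ht, ?_⟩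
  rw [← zpow_natCast, Int.toNat_of_nonneg (by omega), ← zpow_eq_zpow_emod i (n := 3) (by exact_mod_cast k3 x hx n)]
  group

end

variable {F : Type*} [Field F] [Fintype F] [DecidableEq F]

local notation "q" => Fintype.card F
local notation "DD(" w ")" => Subgroup.map pr N(C1(w))

def MS (p : ℕ) (F : Type*) [Field F] : Prop := ∀ H : Subgroup (P2 F), Group.IsSolvable H →
  (∃ w : S2 F, Ss w.val ∧ H ≤ DD(w)) ∨ (∃ c, H ≤ cj c (BB F)) ∨ (p = 3 ∧ NCN H ∧ Nat.card H = 12)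

theorem pow_prime {p r k m : ℕ} (hp : p.Prime) (hr : r.Prime) (h : k ^ m = p ^ r) (hm : 2 ≤ m) : k = p ∧ m = r := by
  obtain ⟨a, -, rfl⟩ := (Nat.dvd_prime_pow hp).1 (h ▸ dvd_pow_self k (by omega) : k ∣ p ^ r)
  rw [← pow_mul] at h
  have := Nat.pow_right_injective hp.two_le h
  rcases (Nat.dvd_prime hr).1 ⟨m, this.symm⟩ with e | e
  · subst e; simpa using this
  · rw [e] at this; have := hr.pos; nlinarith

theorem charP_pow {p r : ℕ} (hp : p.Prime) (h : q = p ^ r) : CharP F p := by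
  obtain ⟨s, hs⟩ := CharP.exists F
  obtain ⟨n, h1, h2⟩ := FiniteField.card F s
  exact (Nat.prime_dvd_prime_iff_eq h1 hp).1 (h1.dvd_of_dvd_pow (h ▸ h2 ▸ dvd_pow_self s n.ne_zero)) ▸ hs

theorem ms_of {p r : ℕ} [hp : Fact p.Prime] (hr : r.Prime) (h : q = p ^ r) (k : p = 2 ∨ p = 3 ∧ Odd r) : MS p F := by
  haveI := charP_pow hp.out h
  have q4 : 4 ≤ q := h ▸ (Nat.pow_le_pow_left hp.out.two_le 2).trans (Nat.pow_le_pow_right hp.out.pos hr.two_le)
  intro H hs
  rcases dicksonP' p (H := H) (fun e => not_solv_P2 q4 (by subst e; exact isSolvable_of_equiv topEquiv)) with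
    e | e | e | ⟨K, _, _, f, c, m, h1, h2, h3, e⟩
  · exact .inl e
  · exact .inr (.inl e)
  · obtain ⟨rfl, j, rfl⟩ := k.resolve_left e.ne_two
    have c : Nat.card H = 60 := by
      rcases e.2.2 with d | d
      · rcases e.2.1 with c | c | c <;> rw [c] at d <;> norm_num at d
      · exact d.2
    have d : 5 ∣ q * (q - 1) * (q + 1) := card_P2 (F := F) ▸ (((by norm_num : 5 ∣ 60).trans
      (c ▸ card_subgroup_dvd_card H)).mul_right _)
    have : q % 5 = 3 ∨ q % 5 = 2 := by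
      have : ∀ j, 9 ^ j % 5 = 1 ∨ 9 ^ j % 5 = 4 := fun j => by
        induction j with
        | zero => simp
        | succ j ih => rw [pow_succ]; omega
      have := this j
      rw [h, pow_succ, pow_mul, show 3 ^ 2 = 9 from rfl]; omega
    have p5 : Nat.Prime 5 := by norm_num
    rcases p5.dvd_mul.1 d with d | d
    · rcases p5.dvd_mul.1 d with d | d <;> omega
    · omega
  obtain ⟨a, rfl⟩ := pow_prime hp.out hr (h3.trans h) h2
  obtain ⟨rfl, o⟩ := k.resolve_left (by omega)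
  rcases e with e | e
  · refine .inr (.inr ⟨rfl, (ncn_map io_inj).1 (e ▸ ncn_cj (ncn_RS f h1) c), ?_⟩)
    have := card_RS f
    rw [← card_map_io, e, card_cj]; rw [a] at this; norm_num at this; omega
  · exact absurd (even_of_le f (h ▸ Odd.pow (by decide)) h3 (e ▸ map_io_le H)) (Nat.not_even_iff_odd.2 o)

theorem solv_D {w : S2 F} (h : Ss w.val) : Group.IsSolvable DD(w) := by
  obtain ⟨a, b, -, -, k⟩ := h.exists_idx2; exact solv_dih k

theorem solv_BB (c : P2 F) : Group.IsSolvable (cj c (BB F)) := solv_io (solv_B (map_io_BB le_rfl))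

theorem D_eq {w s : S2 F} (hw : Ss w.val) (h : pr s ∈ DD(w)) (n : pr s * pr s ≠ 1) : Ss s.val ∧ C1(s) = C1(w) := by
  have m := (mem_map_pr (le_normalizer (neg_mem_cent w))).1 h
  have c : s ∈ C1(w) := by_contra fun c => n (by
    rw [← map_mul, show s * s = -1 from sext.2 (hw.sq_of_norm m c), pr_neg, map_one])
  have ns : ¬ Sc s.val := fun e => n (by rw [pr_eq_one.2 e, one_mul])
  exact ⟨hw.memS c ns, centS_eq' hw.not_sc c ns⟩

theorem D_inv {w : S2 F} (hw : Ss w.val) {x y : P2 F} (hx : x ∈ DD(w)) (hy : y ∈ DD(w)) (e : x * x = 1) :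
    y ∈ C1(x) ∨ y * y = 1 ∨ x * y * (x * y) = 1 := by
  obtain ⟨a, b, -, -, k⟩ := hw.exists_idx2
  obtain ⟨j, rfl | rfl⟩ := (k.mem y).1 hy
  · obtain ⟨i, rfl | rfl⟩ := (k.mem x).1 hx
    · exact .inl (CfsgFT.mem_cent1.2 (zpow_mul_comm _ _ _))
    · exact .inr (.inr (by rw [k.mul_eq', k.mul_eq]; simp))
  · exact .inr (.inl (by rw [k.mul_eq]; simp))

theorem mem_cjB {g s : S2 F} : pr s ∈ cj (pr g) (BB F) ↔ (g⁻¹ * s * g).val 1 0 = 0 := by
  rw [mem_cj, ← map_inv, ← map_mul, ← map_mul, mem_map_pr (mem_BS.2 (by simp)), mem_BS]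

theorem cjB_of {g : S2 F} (h : g.val 1 0 = 0) : cj (pr g) (BB F) = BB F :=
  cj_eq_iff_mem_normalizer.2 (le_normalizer ⟨g, mem_BS.2 h, rfl⟩)

theorem ell_not_B {s : S2 F} (h : Ell s.val) (c : P2 F) : pr s ∉ cj c (BB F) := fun k => by
  obtain ⟨g, rfl⟩ := pr_surj c
  refine (ev_of_ut (mem_cjB.1 k)).not_ell fun c => ?_
  have := trS_cj g⁻¹ s
  rw [_root_.inv_inv] at this
  rw [this, (g⁻¹ * s * g).2.trans s.2.symm]; exact h c

theorem jor_B {x : Fˣ} (hx : x⁻¹ = x) {y : F} (hy : y ≠ 0) {c : P2 F} (k : pr (utS x y) ∈ cj c (BB F)) :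
    cj c (BB F) = BB F := by
  obtain ⟨g, rfl⟩ := pr_surj c
  have := mem_cjB.1 k
  simp only [vmul, vinv, mul2, adjugate_fin_two, utS_val, hx] at this
  simp at this
  exact cjB_of (pow_eq_zero_iff two_ne_zero |>.1 (mul_right_cancel₀ hy (by linear_combination -this)))

theorem sol_ss {p : ℕ} (h : MS p F) {s : S2 F} (hs : Ss s.val) (n2 : pr s * pr s ≠ 1) (n3 : p = 3 → pr s ^ 3 ≠ 1) :
    Sol (pr s) = {y | ∃ c, pr s ∈ cj c (BB F) ∧ y ∈ cj c (BB F)} ∪ DD(s) := by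
  refine Set.Subset.antisymm (fun y hy => ?_) ?_
  · have m1 : pr s ∈ closure {pr s, y} := subset_closure (by simp)
    have m2 : y ∈ closure {pr s, y} := subset_closure (by simp)
    rcases h _ hy with ⟨w, hw, k⟩ | ⟨c, k⟩ | ⟨k1, k2, k3⟩
    · exact .inr ((D_eq hw (k m1) n2).2 ▸ k m2)
    · exact .inl ⟨c, k m1, k m2⟩
    · obtain ⟨V, -, a, b, -⟩ := a4_struct k2 k3
      exact (n3 k1 (b _ m1 fun m => n2 (a _ m))).elim
  · rintro y (⟨c, a, b⟩ | k)
    · exact mem_sol (solv_BB c) a b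
    · exact mem_sol (solv_D hs) ⟨s, le_normalizer (self_mem_cent s), rfl⟩ k

theorem sol_ell {p : ℕ} (h : MS p F) {s : S2 F} (hs : Ell s.val) (n2 : pr s * pr s ≠ 1) (n3 : p = 3 → pr s ^ 3 ≠ 1) :
    (Sol (pr s)).ncard * Nat.gcd 2 (q - 1) = 2 * (q + 1) := by
  rw [sol_ss h (.inl hs) n2 n3, Set.eq_empty_of_forall_notMem (s := {y | ∃ c, _ ∧ _})
    fun y ⟨c, a, _⟩ => ell_not_B hs c a, Set.empty_union, ← hs.card_centS, ← Ss.card_TN (.inl hs)]
  rfl

theorem sol_spl {p : ℕ} (h : MS p F) {s : S2 F} {x z : F} (hs : Ev s.val x z) (n : x ≠ z) (n2 : pr s * pr s ≠ 1)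
    (n3 : p = 3 → pr s ^ 3 ≠ 1) : (Sol (pr s)).ncard * Nat.gcd 2 (q - 1) = 2 * (q * (q - 1)) := by
  obtain ⟨x, rfl⟩ : ∃ u : Fˣ, u = x := ⟨Units.mk0 x (Ev.ne_zero (g := toGL s) hs).1, rfl⟩
  obtain ⟨z, rfl⟩ : ∃ u : Fˣ, u = z := ⟨Units.mk0 z (Ev.ne_zero (g := toGL s) hs).2, rfl⟩
  have c := (pr (F := F)).map_isConj (hs.isConj_spl (fun e => n (e ▸ rfl)) 0)
  rw [sol_conj c]
  obtain rfl := hs.inv_eq
  obtain ⟨g, hg⟩ := isConj_iff.1 c
  have n2' : pr (utS x 0) * pr (utS x 0) ≠ 1 := fun e => n2 (by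
    rwa [← hg, ← pow_two, conj_pow, conj_eq_one_iff, pow_two] at e)
  have ev : Ev (utS x 0).val x (x⁻¹ : Fˣ) := ev_of_ut rfl
  have ss : Ss (utS x 0).val := .inr ⟨_, _, n, ev⟩
  have cd : ∀ {h : S2 F}, h ∈ C1(utS x 0) ↔ h.val 0 1 = 0 ∧ h.val 1 0 = 0 := mem_cent_diag rfl rfl n
  have mJ : ∀ {h : S2 F}, pr h ∈ cj (pr (J0 F)) (BB F) ↔ h.val 0 1 = 0 := fun {h} => by
    rw [mem_cjB]; simp only [vmul, vinv, mul2, J0_val, adjugate_fin_two]; simp
  have mB : ∀ {h : S2 F}, pr h ∈ BB F ↔ h.val 1 0 = 0 := fun {h} => by rw [mem_map_pr (mem_BS.2 (by simp)), mem_BS]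
  have mT : ∀ {h : S2 F}, pr h ∈ C1(utS x 0).map pr ↔ h ∈ C1(utS x 0) := mem_map_pr (neg_mem_cent _)
  have nn : ((x⁻¹ : Fˣ) : F) - x ≠ 0 := sub_ne_zero.2 n.symm
  have dd : ∀ h ∈ N(C1(utS x 0)), h.val 0 0 * h.val 0 1 = 0 ∧ h.val 1 0 * h.val 1 1 = 0 := fun h m => by
    have := cd.1 (conj_mem_of_mem_normalizer m (self_mem_cent _))
    simp only [vmul, vinv, mul2, adjugate_fin_two, utS_val] at this
    generalize ((x⁻¹ : Fˣ) : F) = u at this nn
    simp at this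
    exact ⟨mul_right_cancel₀ nn (by linear_combination this.1), mul_right_cancel₀ nn (by linear_combination -this.2)⟩
  have dt : ∀ h : S2 F, h.val 0 0 * h.val 1 1 - h.val 0 1 * h.val 1 0 = 1 := fun h => by rw [← det_fin_two, h.2]
  have e : {y | ∃ c, pr (utS x 0) ∈ cj c (BB F) ∧ y ∈ cj c (BB F)} = (BB F : Set _) ∪ cj (pr (J0 F)) (BB F) := by
    refine Set.Subset.antisymm ?_ ?_
    · rintro y ⟨c, a, b⟩
      obtain ⟨g, rfl⟩ := pr_surj c
      have := mem_cjB.1 a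
      simp only [vmul, vinv, mul2, adjugate_fin_two, utS_val] at this
      generalize ((x⁻¹ : Fˣ) : F) = u at this nn
      simp at this
      rcases mul_eq_zero.1 (mul_right_cancel₀ nn (by linear_combination this) : g.val 1 0 * g.val 0 0 = 0) with k | k
      · exact .inl (cjB_of k ▸ b)
      · have := cjB_of (g := (J0 F)⁻¹ * g) (by simp [mul2, J0_val, adjugate_fin_two, k])
        rw [← this, CfsgH2.cj_cj, ← map_mul, mul_inv_cancel_left]; exact .inr b
    · rintro y (k | k)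
      · exact ⟨1, by rw [CfsgH2.cj_one]; exact mB.2 rfl, by rwa [CfsgH2.cj_one]⟩
      · exact ⟨_, mJ.2 rfl, k⟩
  have t := ncard_three (A := BB F) (B := cj (pr (J0 F)) (BB F)) (D := DD(utS x 0)) (T := C1(utS x 0).map pr)
    (Subgroup.ext fun y => by
      obtain ⟨y, rfl⟩ := pr_surj y
      rw [mem_inf, mB, mJ, mT, cd, and_comm])
    (le_antisymm (by
      rintro _ ⟨a, y, b, rfl⟩
      have := dt y
      exact mT.2 (cd.2 ⟨(mul_eq_zero.1 (dd y b).1).resolve_left fun e => by simp [e, mB.1 a] at this, mB.1 a⟩))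
      (le_inf (by rintro _ ⟨y, b, rfl⟩; exact mB.2 (cd.1 b).2) (map_mono le_normalizer)))
    (le_antisymm (by
      rintro _ ⟨a, y, b, rfl⟩
      have := dt y
      exact mT.2 (cd.2 ⟨mJ.1 a, (mul_eq_zero.1 (dd y b).2).resolve_right fun e => by simp [e, mJ.1 a] at this⟩))
      (le_inf (by rintro _ ⟨y, b, rfl⟩; exact mJ.2 (cd.1 b).1) (map_mono le_normalizer)))
  rw [sol_ss h ss n2' fun k e => n3 k (by rwa [← hg, conj_pow, conj_eq_one_iff] at e), e, ← card_BB]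
  have c1 := ss.card_TN
  have c2 := card_map_pr (neg_mem_cent (utS x 0))
  rw [card_cj] at t
  have : Nat.card DD(utS x 0) = 2 * Nat.card (C1(utS x 0).map pr) :=
    Nat.eq_of_mul_eq_mul_right d_pos (by rw [c1, mul_assoc, c2])
  rw [← mul_assoc]; congr 1; omega

end CfsgH1.L2
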