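import Cfsg.Agent.H1.Solz

/-! Solvabilizers in the minimal simple groups `PSL₂(2^r)` and `PSL₂(3^r)`, unipotent elements and involutions. -/

set_option autoImplicit false
set_option linter.style.haveILetI false
set_option linter.unusedSectionVars false

namespace CfsgH1.L2

open Matrix Subgroup Cfsg CfsgH2 CfsgH9
open Matrix.SpecialLinearGroup (toGL)

local notation "C1(" x ")" => Subgroup.centralizer (Singleton.singleton x : Set _)
local notation "N(" x ")" => Subgroup.normalizer (SetLike.coe x)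

variable {F : Type*} [Field F] [Fintype F] [DecidableEq F]

local notation "q" => Fintype.card F
local notation "DD(" w ")" => Subgroup.map pr N(C1(w))

def tau (a : F) (c : Fˣ) : S2 F := ⟨!![a, -(1 + a ^ 2) * (c⁻¹ : Fˣ); c, -a], by
  rw [det_fin_two]; simp; field_simp; ring⟩

theorem tau_val (a : F) (c : Fˣ) : (tau a c).val = !![a, -(1 + a ^ 2) * (c⁻¹ : Fˣ); c, -a] := rfl

theorem tr_tau (a : F) (c : Fˣ) : (tau a c).val.trace = 0 := by simp [tau_val, trace_fin_two]

theorem dtS (h : S2 F) : h.val 0 0 * h.val 1 1 - h.val 0 1 * h.val 1 0 = 1 := by rw [← det_fin_two, h.2]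

theorem eq_tau {g : S2 F} (h : g.val.trace = 0) {c : Fˣ} (k : g.val 1 0 = c) : g = tau (g.val 0 0) c := by
  have := dtS g
  rw [trace_fin_two] at h
  refine sext.2 (m2_ext rfl ?_ k ?_)
  · simp [tau_val]; field_simp; rw [k] at this; linear_combination -this + g.val 0 0 * h
  · simp [tau_val]; linear_combination h

theorem mem_BB {h : S2 F} : pr h ∈ BB F ↔ h.val 1 0 = 0 := by rw [mem_map_pr (mem_BS.2 (by simp)), mem_BS]

theorem pr_sq {g : S2 F} (h : g.val.trace = 0) : pr g * pr g = 1 := by rw [← map_mul, sq_of_tr h, pr_neg, map_one]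

theorem tr_of_pr {g : S2 F} (n : ¬ Sc g.val) (h : pr g * pr g = 1) : g.val.trace = 0 :=
  (pr_pow n).1.1 (by rw [pow_two, h])

theorem neg_utS (y : F) : -utS (-1 : Fˣ) y = utS 1 (-y) := sext.2 (m2_ext (by simp) (by simp) (by simp) (by simp))

theorem jor_conj {s : S2 F} {x : Fˣ} (h : Ev s.val x x) (n : ¬ Sc s.val) : ∃ y ≠ 0, IsConj (pr s) (pr (utS 1 y)) := by
  obtain ⟨y, hy, c⟩ := h.isConj_jor n
  have c := (pr (F := F)).map_isConj c
  rcases mul_self_eq_one_iff.1 h.mul_eq with e | e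
  · obtain rfl : x = 1 := Units.ext e
    exact ⟨y, hy, c⟩
  · obtain rfl : x = -1 := Units.ext e
    exact ⟨-y, neg_ne_zero.2 hy, by rwa [← neg_utS, pr_neg]⟩

theorem sol_two (h : MS 2 F) (h2 : (2 : F) = 0) {y : F} (hy : y ≠ 0) : (Sol (pr (utS 1 y))).ncard = 3 * (q * (q - 1)) := by
  have xx : pr (utS 1 y) * pr (utS 1 y) = 1 := pr_sq (by simp [trace_fin_two]; linear_combination h2)
  have cB : C1(pr (utS 1 y)) ≤ BB F := fun t k => by
    obtain ⟨t, rfl⟩ := pr_surj t
    exact mem_BB.2 ((mem_cent_jor inv_one hy).1 ((cent_pr (.inr h2)).le k)).1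
  have e : Sol (pr (utS 1 y)) = (BB F : Set _) ∪ ({t | t * t = 1} ∪ {t | pr (utS 1 y) * t * (pr (utS 1 y) * t) = 1}) := by
    refine Set.Subset.antisymm (fun t ht => ?_) ?_
    · have m1 : pr (utS 1 y) ∈ closure {pr (utS 1 y), t} := subset_closure (by simp)
      have m2 : t ∈ closure {pr (utS 1 y), t} := subset_closure (by simp)
      rcases h _ ht with ⟨w, hw, k⟩ | ⟨c, k⟩ | ⟨k, -⟩
      · exact (D_inv hw (k m1) (k m2) xx).imp (fun a => cB a) id
      · exact .inl (jor_B inv_one hy (k m1) ▸ k m2)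
      · omega
    · rintro t (k | k | k)
      · exact mem_sol (CfsgH2.cj_one (BB F) ▸ solv_BB 1) (mem_BB.2 rfl) k
      · obtain ⟨L, a, b, c⟩ := sol_dih xx k; exact mem_sol a b c
      · obtain ⟨L, a, b, c⟩ := sol_dih xx k; exact mem_sol a b ((mul_mem_cancel_left b).1 c)
  have i : {t | t * t = 1} \ (BB F : Set (P2 F)) = Set.range fun p : F × Fˣ => pr (tau p.1 p.2) := by
    refine Set.Subset.antisymm (fun t k => ?_) ?_
    · obtain ⟨t, rfl⟩ := pr_surj t
      have n : t.val 1 0 ≠ 0 := fun e => k.2 (mem_BB.2 e)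
      exact ⟨(_, Units.mk0 _ n), congrArg pr (eq_tau (tr_of_pr (fun s => n s.2.1) k.1) rfl).symm⟩
    · rintro _ ⟨p, rfl⟩
      exact ⟨pr_sq (tr_tau _ _), fun k => p.2.ne_zero (mem_BB.1 k)⟩
  have c := card_BB (F := F)
  rw [d_even (FiniteField.even_card_iff_char_two.1 ((ringChar.eq_iff.2 ((CharP.charP_iff_prime_eq_zero Nat.prime_two).2
    (by exact_mod_cast h2)))) |> Nat.even_iff.2), mul_one] at c
  rw [e, ncard_inv xx cB, i, Set.ncard_range_of_injective, Nat.card_prod, card_units', c, Nat.card_eq_fintype_card]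
  · ring
  · intro a b k
    have k : tau a.1 a.2 = tau b.1 b.2 := (pr_eq.1 k).elim id fun k => k.trans (neg_eq_two h2 _)
    have k := sext.1 k
    exact Prod.ext (congrFun (congrFun k 0) 0) (Units.ext (congrFun (congrFun k 1) 0))

theorem sol_three (h : MS 3 F) [CharP F 3] {y : F} (hy : y ≠ 0) : 2 * (Sol (pr (utS 1 y))).ncard = q * (q + 5) := by
  haveI : Fact (Nat.Prime 3) := ⟨Nat.prime_three⟩
  have h3 : (3 : F) = 0 := by exact_mod_cast CharP.cast_eq_zero F 3
  have h2 : (2 : F) ≠ 0 := fun e => one_ne_zero (by linear_combination h3 - e : (1 : F) = 0)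
  have ev : Ev (utS 1 y).val (1 : Fˣ) (1 : Fˣ) := ⟨by simp [trace_fin_two], by simp [det_fin_two]⟩
  have o : orderOf (pr (utS 1 y)) = 3 := jor_pr 3 ev fun s => hy s.1
  have x3 : pr (utS 1 y) ^ 3 = 1 := o ▸ pow_orderOf_eq_one _
  have xx : pr (utS 1 y) * pr (utS 1 y) ≠ 1 := fun e => by
    have := orderOf_dvd_iff_pow_eq_one.2 ((pow_two _).trans e); rw [o] at this; omega
  set c : Fˣ := (Units.mk0 y hy)⁻¹ with hc
  have cy : (c : F) * y = 1 := by simp [hc, hy]
  have tr : ∀ g : S2 F, g.val.trace = 0 → (g * utS 1 y).val.trace = g.val 1 0 * y := fun g k => by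
    rw [trace_fin_two] at k; simp [trace_fin_two, mul2]; linear_combination k
  have ns : ∀ g : S2 F, g.val 1 0 ≠ 0 → ¬ Sc (g * utS 1 y).val := fun g k s => k (by simpa [mul2] using s.2.1)
  have xB : pr (utS 1 y) ∈ BB F := mem_BB.2 rfl
  have e : Sol (pr (utS 1 y)) = (BB F : Set _) ∪ Set.range fun p : Fin 3 × F => pr (utS 1 y) ^ p.1.1 * pr (tau p.2 c) := by
    refine Set.Subset.antisymm (fun t ht => ?_) ?_
    · have m1 : pr (utS 1 y) ∈ closure {pr (utS 1 y), t} := subset_closure (by simp)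
      have m2 : t ∈ closure {pr (utS 1 y), t} := subset_closure (by simp)
      rcases h _ ht with ⟨w, hw, k⟩ | ⟨c, k⟩ | ⟨-, k1, k2⟩
      · exact ((D_eq hw (k m1) xx).1.not_ev ev).elim
      · exact .inl (jor_B inv_one hy (k m1) ▸ k m2)
      obtain ⟨V, a1, a2, a3, -, a4⟩ := a4_struct k1 k2
      have nV : pr (utS 1 y) ∉ V := fun m => xx (a2 _ m)
      obtain ⟨i, hi, v, hv, rfl⟩ := a4 _ m1 nV t m2
      obtain ⟨g, rfl⟩ := pr_surj v
      by_cases n : g.val 1 0 = 0
      · exact .inl (mul_mem (pow_mem xB i) (mem_BB.2 n))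
      have t0 := tr_of_pr (fun s => n s.2.1) (a2 _ hv)
      have t1 := (pr_pow (ns g n)).2.1.1 (by
        rw [map_mul]; exact a3 _ (mul_mem (a1 hv) m1) fun m => nV ((mul_mem_cancel_left hv).1 m))
      rw [tr g t0, pow_two, mul_self_eq_one_iff] at t1
      rcases t1 with t1 | t1
      · exact .inr ⟨(⟨i, hi⟩, _), congrArg (_ * pr ·) (eq_tau t0 (mul_right_cancel₀ hy (t1.trans cy.symm))).symm⟩
      · rw [← pr_neg g]
        exact .inr ⟨(⟨i, hi⟩, _), congrArg (_ * pr ·) (eq_tau (g := -g) (by rw [trS_neg, t0, neg_zero])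
          (mul_right_cancel₀ hy (by simp [t1, cy]))).symm⟩
    · rintro t (k | ⟨p, rfl⟩)
      · exact mem_sol (CfsgH2.cj_one (BB F) ▸ solv_BB 1) xB k
      · obtain ⟨L, a, b, c⟩ := sol_a4 (pr_sq (tr_tau p.2 c)) x3 (by
          rw [← map_mul, (pr_pow (ns _ c.ne_zero)).2.1, tr _ (tr_tau _ _)]; exact (congrArg (· ^ 2) cy).trans (one_pow 2))
        exact mem_sol a c (mul_mem (pow_mem c _) b)
  have cB := card_BB (F := F)
  rw [d_odd (odd_q h2)] at cB
  rw [e, Set.ncard_union_eq (Set.disjoint_left.2 (by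
    rintro _ k ⟨p, rfl⟩
    exact c.ne_zero (mem_BB.1 ((mul_mem_cancel_left (pow_mem xB _)).1 k)))), Set.ncard_range_of_injective, Nat.card_prod,
    Nat.card_eq_fintype_card (α := F), Nat.card_eq_fintype_card (α := Fin 3), Fintype.card_fin]
  · have := two_le_q (F := F)
    obtain ⟨n, hn⟩ : ∃ n, q = n + 1 := ⟨q - 1, by omega⟩
    change 2 * (Nat.card (BB F) + _) = _
    rw [hn] at cB ⊢; simp only [Nat.add_sub_cancel] at cB; nlinarith
  · rintro ⟨i, a⟩ ⟨j, b⟩ k
    simp only [← map_pow, ← map_mul, utS_pow (1 : Fˣ) inv_one, one_pow] at k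
    rcases pr_eq.1 k with k | k
    · have k := sext.1 k
      have k1 := congrFun (congrFun k 1) 1
      have k0 := congrFun (congrFun k 0) 0
      simp [mul2, tau_val] at k0 k1
      subst k1
      have : ((i : ℕ) : F) = (j : ℕ) := by
        have := c.ne_zero; simpa [hy] using k0
      rw [CharP.natCast_eq_natCast F 3, Nat.ModEq, Nat.mod_eq_of_lt i.2, Nat.mod_eq_of_lt j.2] at this
      rw [Fin.ext this]
    · have k1 := congrFun (congrFun (sext.1 k) 1) 0
      simp [mul2, tau_val] at k1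
      exact absurd (mul_left_cancel₀ h2 (by linear_combination k1)) c.ne_zero

theorem mem_cent_J0 {h : S2 F} : h ∈ C1(J0 F) ↔ h.val 0 1 = -h.val 1 0 ∧ h.val 1 1 = h.val 0 0 := by
  rw [CfsgFT.mem_cent1, sext, vmul, vmul, J0_val]
  refine ⟨fun e => ?_, fun ⟨a, b⟩ => m2_ext (by simp [mul2, a]) (by simp [mul2, b]) (by simp [mul2, b]) (by simp [mul2, a])⟩
  have a := congrFun (congrFun e 0) 0
  have b := congrFun (congrFun e 1) 0
  simp [mul2] at a b
  exact ⟨a.symm, b.symm⟩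

theorem ncard_tr1 (h3 : (3 : F) = 0) {ε : F} (e : ε ^ 2 = 1) :
    {g : S2 F | g.val.trace = 1 ∧ g.val 0 1 - g.val 1 0 = ε}.ncard = Nat.card C1(J0 F) := by
  symm
  refine Set.ncard_congr (s := (C1(J0 F) : Set (S2 F))) (fun h k => ⟨!![h.val 0 0 - 1, h.val 1 0 + 2 * ε; h.val 1 0 + ε, 2 - h.val 0 0], by
    have := dtS h
    rw [(mem_cent_J0.1 k).1, (mem_cent_J0.1 k).2] at this
    simp [det_fin_two]; linear_combination -this - 2 * e + (h.val 0 0 - h.val 1 0 * ε - 2) * h3⟩)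
    (fun h k => ⟨by simp [trace_fin_two]; ring, by simp; ring⟩) (fun a b ha hb k => ?_) fun g k => ?_
  · have k := congrArg Subtype.val k
    have k0 := congrFun (congrFun k 0) 0
    have k1 := congrFun (congrFun k 1) 0
    simp at k0 k1
    obtain ⟨a1, a2⟩ := mem_cent_J0.1 ha
    obtain ⟨b1, b2⟩ := mem_cent_J0.1 hb
    exact sext.2 (m2_ext k0 (by rw [a1, b1, k1]) k1 (by rw [a2, b2, k0]))
  · have d := dtS g
    obtain ⟨k1, k2⟩ := k
    rw [trace_fin_two] at k1
    refine ⟨⟨!![g.val 0 0 + 1, ε - g.val 1 0; g.val 1 0 - ε, g.val 0 0 + 1], ?_⟩, mem_cent_J0.2 ⟨by simp, by simp⟩,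
      sext.2 (m2_ext (by simp) ?_ (by simp) ?_)⟩
    · simp [det_fin_two]
      linear_combination -d + e + g.val 0 0 * k1 - g.val 1 0 * k2 + (g.val 0 0 - g.val 1 0 * ε) * h3
    · simp; linear_combination -k2
    · simp; linear_combination -k1

theorem sol_inv (h : MS 3 F) [CharP F 3] (h4 : q % 4 = 3) : (Sol (pr (J0 F))).ncard = q * (q + 1) := by
  have h3 : (3 : F) = 0 := by exact_mod_cast CharP.cast_eq_zero F 3
  have h2 : (2 : F) ≠ 0 := fun e => one_ne_zero (by linear_combination h3 - e : (1 : F) = 0)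
  have ho := odd_q h2
  have ss := ss_of_tr h2 (tr_J0 (F := F))
  have cT : Nat.card C1(J0 F) = q + 1 := ((card_tr0 ho tr_J0).resolve_left (by omega)).2
  have el : Ell (J0 F).val := ss.resolve_right fun ⟨_, _, n, k⟩ => by have := k.card_centS_spl n; omega
  have xx := pr_sq (tr_J0 (F := F))
  have o := invol_of_tr0 h2 (tr_J0 (F := F))
  have x1 : pr (J0 F) ≠ 1 := fun e => by simp [e] at o
  have x3 : pr (J0 F) ^ 3 ≠ 1 := by rwa [pow_succ, pow_two, xx, one_mul]
  have cD : C1(pr (J0 F)) = DD(J0 F) := by rw [← cent_pr0 h2 tr_J0, map_comap_pr]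
  set x := pr (J0 F) with hx
  have e : Sol x = ((C1(x) : Set _) ∪ ({t | t * t = 1} ∪ {t | x * t * (x * t) = 1})) ∪ {t | t ^ 3 = 1 ∧ (x * t) ^ 3 = 1} := by
    refine Set.Subset.antisymm (fun t ht => ?_) ?_
    · have m1 : x ∈ closure {x, t} := subset_closure (by simp)
      have m2 : t ∈ closure {x, t} := subset_closure (by simp)
      rcases h _ ht with ⟨w, hw, k⟩ | ⟨c, k⟩ | ⟨-, k1, k2⟩
      · exact .inl (D_inv hw (k m1) (k m2) xx)
      · exact (ell_not_B el c (k m1)).elim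
      obtain ⟨V, -, a2, a3, a4, -⟩ := a4_struct k1 k2
      by_cases n : t ∈ V
      · exact .inl (.inr (.inl (a2 t n)))
      · exact .inr ⟨a3 t m2 n, a3 _ (mul_mem m1 m2) fun m => n ((mul_mem_cancel_left (a4 x m1 xx)).1 m)⟩
    · rintro t ((k | k | k) | k)
      · exact mem_sol (cD ▸ solv_D ss) (self_mem_cent x) k
      · obtain ⟨L, a, b, c⟩ := sol_dih xx k; exact mem_sol a b c
      · obtain ⟨L, a, b, c⟩ := sol_dih xx k; exact mem_sol a b ((mul_mem_cancel_left b).1 c)
      · obtain ⟨L, a, b, c⟩ := sol_a4 xx k.1 k.2; exact mem_sol a b c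
  have one : ∀ t : P2 F, t * t = 1 → t ^ 3 = 1 → t = 1 := fun t a b => by rwa [pow_succ, pow_two, a, one_mul] at b
  have dj : Disjoint ((C1(x) : Set _) ∪ ({t | t * t = 1} ∪ {t | x * t * (x * t) = 1})) {t | t ^ 3 = 1 ∧ (x * t) ^ 3 = 1} :=
    Set.disjoint_left.2 (by
      rintro t (k | k | k) ⟨a, b⟩
      · rw [(show Commute x t from CfsgFT.mem_cent1.1 k).mul_pow, a, mul_one] at b; exact x3 b
      · rw [one t k a, mul_one] at b; exact x3 b
      · rw [eq_inv_of_mul_eq_one_right (one _ k b), inv_pow, inv_eq_one] at a; exact x3 a)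
  have trJ : ∀ g : S2 F, (J0 F * g).val.trace = g.val 0 1 - g.val 1 0 := fun g => by
    simp only [trace_fin_two, vmul, mul2, J0_val]; simp; ring
  have n1 : (1 : F) ≠ -1 := fun e => h2 (by linear_combination e)
  have eA : {t | t ^ 3 = 1 ∧ (x * t) ^ 3 = 1} = pr '' ({g : S2 F | g.val.trace = 1 ∧ g.val 0 1 - g.val 1 0 = 1} ∪
      {g : S2 F | g.val.trace = 1 ∧ g.val 0 1 - g.val 1 0 = -1}) := by
    refine Set.Subset.antisymm (fun t k => ?_) ?_
    · have k0 : ∀ g : S2 F, g.val.trace = 1 → pr g ^ 3 = 1 → (x * pr g) ^ 3 = 1 → pr g ∈ pr ''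
          ({g : S2 F | g.val.trace = 1 ∧ g.val 0 1 - g.val 1 0 = 1} ∪
            {g : S2 F | g.val.trace = 1 ∧ g.val 0 1 - g.val 1 0 = -1}) := fun g a b c => by
        have := (pr_pow (c := J0 F * g) fun s => x3 (by
          rwa [eq_inv_of_mul_eq_one_right ((map_mul _ _ _).symm.trans (pr_eq_one.2 s)), inv_pow, inv_eq_one] at b)).2.1.1
          (by rwa [map_mul])
        rw [trJ, pow_two, mul_self_eq_one_iff] at this
        exact ⟨g, this.imp (⟨a, ·⟩) (⟨a, ·⟩), rfl⟩
      obtain ⟨g, rfl⟩ := pr_surj t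
      have := (pr_pow fun s => x3 (by simpa [pr_eq_one.2 s] using k.2)).2.1.1 k.1
      rw [pow_two, mul_self_eq_one_iff] at this
      rcases this with a | a
      · exact k0 g a k.1 k.2
      · rw [← pr_neg] at k ⊢; exact k0 _ (by rw [trS_neg, a, neg_neg]) k.1 k.2
    · rintro _ ⟨g, k, rfl⟩
      have a : g.val.trace = 1 := k.elim And.left And.left
      have b : (g.val 0 1 - g.val 1 0) ^ 2 = 1 := by rcases k with k | k <;> simp [k.2]
      refine ⟨(pr_pow fun s => ?_).2.1.2 (by simp [a]), ?_⟩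
      · simp [s.1, s.2.1] at b
      · rw [hx, ← map_mul]
        refine (pr_pow fun s => ?_).2.1.2 (by rwa [trJ])
        have s1 := s.1
        have s2 := s.2.1
        simp [mul2, J0_val] at s1 s2
        simp [trace_fin_two, s1, s2] at a
  have cA : {t | t ^ 3 = 1 ∧ (x * t) ^ 3 = 1}.ncard = 2 * (q + 1) := by
    rw [eA, Set.InjOn.ncard_image, Set.ncard_union_eq (Set.disjoint_left.2 fun g a b => n1 (a.2.symm.trans b.2)),
      ncard_tr1 h3 (one_pow 2), ncard_tr1 h3 neg_one_sq, cT, two_mul]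
    intro a ha b hb k
    refine (pr_eq.1 k).resolve_right fun k => n1 ?_
    have := trS_neg b
    rwa [← k, ha.elim And.left And.left, hb.elim And.left And.left] at this
  have TD : C1(J0 F).map pr ≤ C1(x) := cD ▸ map_mono le_normalizer
  have eI : {t | t * t = 1} = insert 1 {t | IsConj x t} := Set.ext fun t => ⟨fun k => (em (t = 1)).imp id fun n =>
    isConj_invol ho o (orderOf_eq_prime (by rw [pow_two]; exact k) n), by
      rintro (rfl | k)
      · exact one_mul 1
      · obtain ⟨c, rfl⟩ := isConj_iff.1 k; exact conj_mul_self xx c⟩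
  have eC : {t | t * t = 1} ∩ (C1(x) : Set _) = ((C1(x) : Set _) \ C1(J0 F).map pr) ∪ {1, x} := by
    refine Set.Subset.antisymm (fun t k => ?_) ?_
    · by_cases n : t ∈ C1(J0 F).map pr
      · obtain ⟨g, m, rfl⟩ := n
        by_cases s : Sc g.val
        · exact .inr (.inl (pr_eq_one.2 s))
        obtain ⟨a1, a2⟩ := mem_cent_J0.1 m
        have t0 := tr_of_pr s k.1
        have d := dtS g
        rw [trace_fin_two, a2] at t0
        have a0 : g.val 0 0 = 0 := mul_left_cancel₀ h2 (by linear_combination t0)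
        rw [a1, a2, a0] at d
        rcases mul_self_eq_one_iff.1 (by linear_combination d : g.val 1 0 * g.val 1 0 = 1) with c | c
        · exact .inr (.inr (pr_eq.2 (.inl (sext.2 (m2_ext (by simp [a0, J0_val]) (by simp [a1, c, J0_val])
            (by simp [c, J0_val]) (by simp [a2, a0, J0_val]))))))
        · exact .inr (.inr (pr_eq.2 (.inr (sext.2 (m2_ext (by simp [a0, J0_val]) (by simp [a1, c, J0_val])
            (by simp [c, J0_val]) (by simp [a2, a0, J0_val]))))))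
      · exact .inl ⟨k.2, n⟩
    · rintro t (k | rfl | rfl)
      · obtain ⟨g, m, rfl⟩ := cD.le k.1
        exact ⟨show pr g * pr g = 1 by
          rw [← map_mul, show g * g = -1 from sext.2 (ss.sq_of_norm m fun c => k.2 ⟨g, c, rfl⟩), pr_neg, map_one], k.1⟩
      · exact ⟨one_mul 1, one_mem _⟩
      · exact ⟨xx, self_mem_cent _⟩
  have c1 := Set.ncard_inter_add_ncard_sdiff_eq_ncard {t | t * t = 1} (C1(x) : Set (P2 F))
  rw [eC, Set.ncard_union_eq (Set.disjoint_right.2 (by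
    rintro _ (rfl | rfl) k
    exacts [k.2 (one_mem _), k.2 ⟨_, self_mem_cent _, rfl⟩])), Set.ncard_pair x1.symm, Set.ncard_sdiff TD] at c1
  have c2 : {t : P2 F | t * t = 1}.ncard = C1(x).index + 1 := by
    rw [eI, Set.ncard_insert_of_notMem (s := {t | IsConj x t}) fun k => x1 (isConj_one_left.1 k), ← card_cls_eq_index]; rfl
  have c3 := C1(x).card_mul_index
  have c4 := card_P2 (F := F)
  have c5 := ss.card_TN
  have c6 := card_map_pr (neg_mem_cent (J0 F))
  rw [d_odd ho] at c4 c5 c6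
  rw [← cD, cT] at c5
  simp only [← Nat.card_coe_set_eq, SetLike.coe_sort_coe] at c1
  simp only [Nat.card_coe_set_eq] at c1
  rw [e, Set.ncard_union_eq dj, ncard_inv xx le_rfl, cA]
  obtain ⟨n, hn⟩ : ∃ n, q = n + 1 := ⟨q - 1, by omega⟩
  have c7 : Nat.card C1(x) = q + 1 := by omega
  rw [← c3, c7] at c4
  have c8 : C1(x).index * 2 = q * (q - 1) := Nat.eq_of_mul_eq_mul_left (Nat.succ_pos q) (by linarith)
  rw [c2, c7] at c1
  rw [c7]; rw [cT] at c6; rw [hn] at c1 c6 c8 ⊢; simp only [Nat.add_sub_cancel] at c8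
  have : Nat.card (C1(J0 F).map pr) ≤ n + 1 + 1 := by omega
  zify [this] at c1 c6 c8 ⊢
  linear_combination 2 * c1 + c8 + c6

theorem sol_gen {p : ℕ} [Fact p.Prime] [CharP F p] (h : MS p F) {x : P2 F} (n1 : x ≠ 1) (n2 : ¬ orderOf x ∣ 2)
    (n3 : ¬ p ∣ orderOf x) : (orderOf x ∣ q - 1 → (Sol x).ncard * Nat.gcd 2 (q - 1) = 2 * (q * (q - 1))) ∧
      (orderOf x ∣ q + 1 → (Sol x).ncard * Nat.gcd 2 (q - 1) = 2 * (q + 1)) := by
  obtain ⟨s, rfl⟩ := pr_surj x
  have a : pr s * pr s ≠ 1 := fun e => n2 (orderOf_dvd_iff_pow_eq_one.2 ((pow_two _).trans e))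
  have b : p = 3 → pr s ^ 3 ≠ 1 := fun e k => n3 (by rw [e, orderOf_eq_prime k n1])
  have o := (Dvd.intro _ rfl).trans (order_pr s)
  have two : orderOf (pr s) ∣ q - 1 → orderOf (pr s) ∣ q + 1 → False := fun u v => n2 (by
    have := two_le_q (F := F)
    have := Nat.dvd_sub v u
    rwa [show q + 1 - (q - 1) = 2 by omega] at this)
  rcases casesS s with k | (k | ⟨u, z, n, k⟩) | ⟨u, k, n⟩
  · exact (n1 (pr_eq_one.2 k)).elim
  · exact ⟨fun e => (two e (k.card_centS ▸ o)).elim, fun _ => sol_ell h k a b⟩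
  · exact ⟨fun _ => sol_spl h k n a b, fun e => (two (k.card_centS_spl n ▸ o) e).elim⟩
  · exact (n3 (jor_pr p k n ▸ dvd_rfl)).elim

theorem conj_unip {p : ℕ} [Fact p.Prime] [CharP F p] {x : P2 F} (o : orderOf x = p) : ∃ y ≠ 0, IsConj x (pr (utS 1 y)) := by
  obtain ⟨s, rfl⟩ := pr_surj x
  have d := o ▸ (Dvd.intro _ rfl).trans (order_pr s)
  rcases casesS s with k | k | ⟨u, k, n⟩
  · exact absurd (o.symm.trans (orderOf_eq_one_iff.2 (pr_eq_one.2 k))) (Fact.out : p.Prime).ne_one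
  · rcases k.card_cases with e | e <;> rw [e] at d
    exacts [(not_dvd_q_sub p d).elim, (not_dvd_q_add p d).elim]
  · exact jor_conj k n

end CfsgH1.L2
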