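import Mathlib
set_option autoImplicit false
set_option linter.unusedSectionVars false
open Module Function Matrix

namespace CfsgH1.Sp43

theorem ent : ∀ a b c d : ZMod 5, a * d - b * c = 1 → !![a, b; c, d] * !![a, b; c, d] * !![a, b; c, d] = 1 →
    !![a, b; c, d] ≠ 1 → ∃ t : ZMod 5,
      (!![a, b; c, d] * (!![1, t; 0, 1] * !![a, b; c, d] * !![1, -t; 0, 1]) + 1) *
        (!![a, b; c, d] * (!![1, t; 0, 1] * !![a, b; c, d] * !![1, -t; 0, 1]) + 1) = 0 ∧
      (!![a, b; c, d] * (!![1, t; 0, 1] * !![a, b; c, d] * !![1, -t; 0, 1])) *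
        (!![a, b; c, d] * (!![1, t; 0, 1] * !![a, b; c, d] * !![1, -t; 0, 1])) ≠ 1 := by
  decide +kernel

theorem grp (x : SpecialLinearGroup (Fin 2) (ZMod 5)) (h3 : x ^ 3 = 1) (h1 : x ≠ 1) :
    ∃ g, ((x * (g * x * g⁻¹)) ^ 2) ^ 5 = 1 ∧ (x * (g * x * g⁻¹)) ^ 2 ≠ 1 := by
  have : Fact (Nat.Prime 5) := ⟨by norm_num⟩
  obtain ⟨a, b, c, d, hx⟩ : ∃ a b c d, x.1 = !![a, b; c, d] := ⟨_, _, _, _, eta_fin_two _⟩
  obtain ⟨t, e1, e2⟩ := ent a b c d (by simpa [hx, det_fin_two] using x.2)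
    (by rw [← hx]; exact congrArg Subtype.val ((pow_three' x).symm.trans h3))
    (fun e => h1 (Subtype.ext (hx.trans e)))
  obtain ⟨g, hg⟩ : ∃ g : SpecialLinearGroup (Fin 2) (ZMod 5), g.1 = !![1, t; 0, 1] :=
    ⟨⟨!![1, t; 0, 1], by simp [det_fin_two]⟩, rfl⟩
  have gi : (g⁻¹).1 = !![1, -t; 0, 1] := by simp [hg, adjugate_fin_two]
  have z : (x * (g * x * g⁻¹)).1 =
      !![a, b; c, d] * (!![1, t; 0, 1] * !![a, b; c, d] * !![1, -t; 0, 1]) := by rw [← gi, ← hg, ← hx]; rfl
  refine ⟨g, Subtype.ext ?_, fun e => e2 ?_⟩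
  · rw [← pow_mul]
    refine (Matrix.SpecialLinearGroup.coe_pow _ _).trans ?_
    show (x * (g * x * g⁻¹)).1 ^ (2 * 5) = 1
    rw [z]
    generalize !![a, b; c, d] * (!![1, t; 0, 1] * !![a, b; c, d] * !![1, -t; 0, 1]) = Z at e1
    have := sub_pow_char_of_commute (p := 5) (Commute.one_right (Z + 1))
    rw [add_sub_cancel_right, show (Z + 1) ^ 5 = (Z + 1) * (Z + 1) * (Z + 1) ^ 3 by simp [pow_succ, mul_assoc], e1] at this
    rw [mul_comm 2 5, pow_mul, this]; simp
  · rw [← z]; exact congrArg Subtype.val ((sq (x * (g * x * g⁻¹))).symm.trans e)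

variable {F V G : Type*} [Field F] [Fintype F] [AddCommGroup V] [Module F V] [FiniteDimensional F V] [Group G]

theorem map_ge (N : Module.End F V) (U : Submodule F V) :
    finrank F U ≤ finrank F (U.map N) + finrank F (LinearMap.ker N) := by
  have := (N.domRestrict U).finrank_range_add_finrank_ker
  rw [LinearMap.range_domRestrict, LinearMap.ker_domRestrict] at this
  have a := Submodule.finrank_mono (Submodule.map_comap_le U.subtype (LinearMap.ker N))
  rw [Submodule.finrank_map_subtype_eq] at a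
  omega

theorem nil (hF : Fintype.card F = 3) {M : Module.End F V} (h : M ^ 3 = 1) : (M - 1) ^ 3 = 0 := by
  have h3 : (3 : F) = 0 := by exact_mod_cast hF ▸ FiniteField.cast_card_eq_zero F
  have : (M - 1) ^ 3 = M ^ 3 - 1 - (3 : F) • (M ^ 2 - M) := by
    simp only [pow_succ, pow_zero, one_mul, mul_sub, sub_mul, mul_one]; module
  rw [this, h, h3]; simp

theorem dim (hF : Fintype.card F = 3) (h4 : finrank F V = 4) (ρ : G →* Module.End F V) (hρ : Injective ρ) {x g : G}
    (h3 : x ^ 3 = 1) (h1 : x ≠ 1) (z1 : ((x * (g * x * g⁻¹)) ^ 2) ^ 5 = 1) (z2 : (x * (g * x * g⁻¹)) ^ 2 ≠ 1) :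
    finrank F (LinearMap.ker (ρ x - 1)) = 2 := by
  classical
  have lt : ∀ y, y ≠ 1 → finrank F (LinearMap.ker (ρ y - 1)) < 4 := fun y k => h4 ▸ Submodule.finrank_lt fun e =>
    k (hρ (by rw [map_one]; exact sub_eq_zero.1 (LinearMap.ker_eq_top.1 e)))
  have n3 := nil hF (M := ρ x) (by rw [← map_pow, h3, map_one])
  have a1 := map_ge (ρ x - 1) ⊤
  have a2 := map_ge (ρ x - 1) (Submodule.map (ρ x - 1) ⊤)
  have a3 := map_ge (ρ x - 1) (Submodule.map (ρ x - 1) (Submodule.map (ρ x - 1) ⊤))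
  have a4 : Submodule.map (ρ x - 1) (Submodule.map (ρ x - 1) (Submodule.map (ρ x - 1) ⊤)) = ⊥ := by
    rw [← Submodule.map_comp, ← Submodule.map_comp]
    have : ((ρ x - 1) ∘ₗ (ρ x - 1)) ∘ₗ (ρ x - 1) = 0 := by rw [← n3]; simp [pow_succ, Module.End.mul_eq_comp]
    rw [this, Submodule.map_zero]
  rw [a4, finrank_bot] at a3
  rw [finrank_top, h4] at a1
  have := lt x h1
  by_contra k
  have e3 : finrank F (LinearMap.ker (ρ x - 1)) = 3 := by omega
  have mem : ∀ y v, v ∈ LinearMap.ker (ρ y - 1) ↔ ρ y v = v := fun y v => by simp [sub_eq_zero]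
  have gi : Injective (ρ g) := LeftInverse.injective (g := ρ g⁻¹) fun v => by
    rw [← Module.End.mul_apply, ← map_mul]; simp
  have b1 : 3 ≤ finrank F (LinearMap.ker (ρ (g * x * g⁻¹) - 1)) := by
    rw [← e3, (Submodule.equivMapOfInjective _ gi _).finrank_eq]
    refine Submodule.finrank_mono ?_
    rintro _ ⟨v, hv, rfl⟩
    rw [mem, ← Module.End.mul_apply, ← map_mul, inv_mul_cancel_right, map_mul, Module.End.mul_apply, (mem x v).1 hv]
  have b2 := Submodule.finrank_sup_add_finrank_inf_eq (LinearMap.ker (ρ x - 1)) (LinearMap.ker (ρ (g * x * g⁻¹) - 1))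
  have b3 := Submodule.finrank_le (LinearMap.ker (ρ x - 1) ⊔ LinearMap.ker (ρ (g * x * g⁻¹) - 1))
  generalize g * x * g⁻¹ = y at *
  have b4 := Submodule.finrank_mono (show LinearMap.ker (ρ x - 1) ⊓ LinearMap.ker (ρ y - 1) ≤
      LinearMap.ker (ρ ((x * y) ^ 2) - 1) from fun v k => by
    rw [mem]; simp [sq, (mem x v).1 k.1, (mem y v).1 k.2])
  have b5 := lt _ z2
  generalize (x * y) ^ 2 = u at *
  have : Finite V := Module.finite_of_finite F
  have := Fintype.ofFinite V
  have : Fact (Nat.Prime 5) := ⟨by norm_num⟩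
  have c := Equiv.Perm.card_fixedPoints_modEq (α := V) (f := fun v => ρ u v) (p := 5) (n := 1) (funext fun v => by
    have : (ρ u ^ 5) v = v := by rw [← map_pow, z1, map_one]; rfl
    exact this)
  have c1 : Fintype.card V = 81 := by rw [Module.card_eq_pow_finrank (K := F), hF, h4]; rfl
  have c2 : Fintype.card (fixedPoints (ρ u : V → V)) = 3 ^ finrank F (LinearMap.ker (ρ u - 1)) := by
    rw [← hF, ← Module.card_eq_pow_finrank]
    exact Fintype.card_congr (Equiv.subtypeEquivRight fun v => (mem u v).symm)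
  rw [c1] at c
  have c3 : 81 ≡ 3 ^ finrank F (LinearMap.ker (ρ u - 1)) [MOD 5] := by rw [← c2]; convert c
  generalize finrank F (LinearMap.ker (ρ u - 1)) = m at *
  have : 2 ≤ m := by omega
  interval_cases m <;> revert c3 <;> decide

theorem iso (M : Module.End F V) (B : LinearMap.BilinForm F V) (ha : ∀ v, B v v = 0) (hi : ∀ v w, B (M v) (M w) = B v w)
    (h3 : (M - 1) ^ 3 = 0) (h1 : M ≠ 1) (h2 : finrank F (LinearMap.ker (M - 1)) = 2) {v w : V} (hv : M v = v)
    (hw : M w = w) : B v w = 0 := by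
  have pp : ∀ a b, M b = b → B ((M - 1) a) b = 0 := fun a b k => by
    have := hi a b
    rw [k] at this
    simp [this]
  obtain ⟨a, a1, a2⟩ : ∃ a, (M - 1) a ≠ 0 ∧ (M - 1) ((M - 1) a) = 0 := by
    obtain ⟨a, k⟩ : ∃ a, (M - 1) a ≠ 0 := by
      by_contra! k
      exact h1 (sub_eq_zero.1 (LinearMap.ext k))
    by_cases l : (M - 1) ((M - 1) a) = 0
    · exact ⟨a, k, l⟩
    · exact ⟨_, l, by simpa only [pow_succ, pow_zero, one_mul, Module.End.mul_apply, LinearMap.zero_apply] using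
        LinearMap.congr_fun h3 a⟩
  have p1 := pp a v hv
  have p2 := pp a w hw
  generalize (M - 1) a = u at *
  have sk : B w v = -B v w := by
    have := ha (v + w)
    simp only [map_add, LinearMap.add_apply, ha] at this
    linear_combination this
  have : ¬ LinearIndependent F ![(⟨u, a2⟩ : LinearMap.ker (M - 1)), ⟨v, by simp [hv]⟩, ⟨w, by simp [hw]⟩] := fun l => by
    have := l.fintype_card_le_finrank
    simp [h2] at this
  obtain ⟨c, c1, i, c2⟩ := Fintype.not_linearIndependent_iff.1 this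
  have c3 : c 0 • u + c 1 • v + c 2 • w = 0 := by simpa [Fin.sum_univ_three] using congrArg Subtype.val c1
  have d1 := congrArg (fun t => B t w) c3
  have d2 := congrArg (fun t => B t v) c3
  simp only [map_add, map_smul, LinearMap.add_apply, LinearMap.smul_apply, p1, p2, ha, sk, smul_eq_mul, mul_zero,
    zero_add, add_zero, map_zero, LinearMap.zero_apply, mul_eq_zero, neg_eq_zero] at d1 d2
  by_contra k
  have e1 := d1.resolve_right k
  have e2 := d2.resolve_right k
  rw [e1, e2, zero_smul, zero_smul, add_zero, add_zero, smul_eq_zero, or_iff_left a1] at c3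
  fin_cases i <;> simp_all

end CfsgH1.Sp43
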