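import Cfsg.Agent.S0425
import Cfsg.Agent.H1.Code

/-! The ternary Golay code. -/

set_option autoImplicit false
set_option linter.style.haveILetI false
set_option linter.unusedSectionVars false

namespace CfsgH1.Code

open Cfsg Equiv
open scoped Pointwise

abbrev Z3 := ZMod 3

def ix (p : ArrayPt) : ℕ := 3 * p.1.1 + p.2.val
def bt (k j : ℕ) : ℕ := 14749199671377121909350931365093898204808193 / 4 ^ (12 * k + j) % 4
def B (k : Fin 6) (p : ArrayPt) : Z3 := (bt k.1 (ix p) : ℕ)
def vl (n j : ℕ) : ℕ := n % 3 * bt 0 j + n / 3 % 3 * bt 1 j + n / 9 % 3 * bt 2 j + n / 27 % 3 * bt 3 j +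
  n / 81 % 3 * bt 4 j + n / 243 % 3 * bt 5 j
def enc (n : ℕ) (p : ArrayPt) : Z3 := (vl n (ix p) : ℕ)
def lin (a b c d e f : Z3) : ArrayPt → Z3 := a • B 0 + b • B 1 + c • B 2 + d • B 3 + e • B 4 + f • B 5

theorem enc_lin (n : ℕ) : enc n = lin (n % 3 : ℕ) (n / 3 % 3 : ℕ) (n / 9 % 3 : ℕ) (n / 27 % 3 : ℕ)
    (n / 81 % 3 : ℕ) (n / 243 % 3 : ℕ) := by
  ext p
  simp only [enc, vl, lin, B, Nat.cast_add, Nat.cast_mul, Pi.add_apply, Pi.smul_apply, smul_eq_mul]
  rfl

def W (x : ArrayPt → Z3) : Prop := ∃ s : Z3, (∀ i : Fin 4, ∑ r : Z3, x (i, r) = -s) ∧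
  ∀ a b : Z3, ∑ i : Fin 4, x (i, a * ![0, 1, 1, 1] i + b * ![1, 0, 1, 2] i) = s

instance : DecidablePred W := fun x => by unfold W; infer_instance

theorem mem_W {x : ArrayPt → Z3} : x ∈ ternaryGolayCode ↔ W x := by
  refine exists_congr fun s => and_congr_right fun _ => ⟨fun h a b => ?_, fun h t ht => ?_⟩
  · exact h (a • ![0, 1, 1, 1] + b • ![1, 0, 1, 2]) (Submodule.mem_span_pair.2 ⟨a, b, rfl⟩)
  · obtain ⟨a, b, rfl⟩ := Submodule.mem_span_pair.1 ht
    exact h a b

theorem B_mem (i : Fin 6) : B i ∈ ternaryGolayCode := by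
  rw [mem_W]; revert i; decide +kernel

theorem lin_mem {C : Submodule Z3 (ArrayPt → Z3)} (h : ∀ i, B i ∈ C) (a b c d e f : Z3) : lin a b c d e f ∈ C := by
  have k : ∀ (a : Z3) i, a • B i ∈ C := fun a i => C.smul_mem _ (h i)
  exact add_mem (add_mem (add_mem (add_mem (add_mem (k _ _) (k _ _)) (k _ _)) (k _ _)) (k _ _)) (k _ _)

theorem enc_mem (n : ℕ) : enc n ∈ ternaryGolayCode := enc_lin n ▸ lin_mem B_mem ..

def I : Fin 6 → ArrayPt := ![(0, 0), (0, 1), (0, 2), (1, 0), (1, 1), (2, 0)]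

theorem key0 {y : ArrayPt → Z3} (h : y ∈ ternaryGolayCode) (h0 : ∀ i, y (I i) = 0) : y = 0 := by
  obtain ⟨s, h1, h2⟩ := mem_W.1 h
  have e3 : ∀ f : Z3 → Z3, ∑ r, f r = f 0 + f 1 + f 2 := fun f => Fin.sum_univ_three f
  simp only [e3, Fin.sum_univ_four] at h1 h2
  have a0 : y (0, 0) = 0 := h0 0
  have a1 : y (0, 1) = 0 := h0 1
  have a2 : y (0, 2) = 0 := h0 2
  have a3 : y (1, 0) = 0 := h0 3
  have a4 : y (1, 1) = 0 := h0 4
  have a5 : y (2, 0) = 0 := h0 5
  have c0 := h1 0
  have c1 := h1 1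
  have c2 := h1 2
  have c3 := h1 3
  have t0 : y (0, 0) + y (1, 0) + y (2, 0) + y (3, 0) = s := h2 0 0
  have t1 : y (0, 0) + y (1, 1) + y (2, 1) + y (3, 1) = s := h2 1 0
  have t2 : y (0, 1) + y (1, 0) + y (2, 1) + y (3, 2) = s := h2 0 1
  have t3 : y (0, 1) + y (1, 1) + y (2, 2) + y (3, 0) = s := h2 1 1
  rw [a0, a1, a2] at c0
  have s0 : s = 0 := by simpa using c0
  have b0 : y (1, 2) = 0 := by simpa [a3, a4, s0] using c1
  have b1 : y (3, 0) = 0 := by simpa [a0, a3, a5, s0] using t0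
  have b2 : y (2, 2) = 0 := by simpa [a1, a4, b1, s0] using t3
  have b3 : y (2, 1) = 0 := by simpa [a5, b2, s0] using c2
  have b4 : y (3, 1) = 0 := by simpa [a0, a4, b3, s0] using t1
  have b5 : y (3, 2) = 0 := by simpa [a1, a3, b3, s0] using t2
  ext ⟨i, r⟩
  fin_cases i <;> fin_cases r <;> assumption

theorem BI : ∀ i j, B i (I j) = if i = j then 1 else 0 := by decide +kernel

theorem eq_lin {x : ArrayPt → Z3} (hx : x ∈ ternaryGolayCode) :
    x = lin (x (I 0)) (x (I 1)) (x (I 2)) (x (I 3)) (x (I 4)) (x (I 5)) :=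
  sub_eq_zero.1 (key0 (sub_mem hx (lin_mem B_mem ..)) fun i => by fin_cases i <;> simp [lin, BI])

theorem eq_enc {x : ArrayPt → Z3} (hx : x ∈ ternaryGolayCode) : ∃ n < 729, enc n = x := by
  have h := fun i => ZMod.val_lt (x (I i))
  have h0 := h 0
  have h1 := h 1
  have h2 := h 2
  have h3 := h 3
  have h4 := h 4
  have h5 := h 5
  refine ⟨(x (I 0)).val + 3 * (x (I 1)).val + 9 * (x (I 2)).val + 27 * (x (I 3)).val + 81 * (x (I 4)).val +
    243 * (x (I 5)).val, by omega, ?_⟩
  rw [enc_lin]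
  conv_rhs => rw [eq_lin hx]
  congr 1 <;> (rw [eq_comm, ← ZMod.natCast_zmod_val (x _)]; congr 1; rw [ZMod.val_natCast]; omega)

theorem enc_inj : Set.InjOn enc (Finset.range 729) := fun n hn m hm e => by
  have k : ∀ n ∈ Finset.range 729, (enc n (I 0)).val + 3 * (enc n (I 1)).val + 9 * (enc n (I 2)).val +
    27 * (enc n (I 3)).val + 81 * (enc n (I 4)).val + 243 * (enc n (I 5)).val = n := by decide +kernel
  rw [← k n hn, e, k m hm]

theorem ncard_eq (P : (ArrayPt → Z3) → Prop) [DecidablePred P] :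
    {x | x ∈ ternaryGolayCode ∧ P x}.ncard = ((Finset.range 729).filter fun u => P (enc u)).card := by
  rw [← Set.ncard_coe_finset, ← Set.InjOn.ncard_image (enc_inj.mono (Finset.coe_subset.2 (Finset.filter_subset _ _)))]
  congr 1
  ext x
  simp only [Set.mem_ofPred_eq, Set.mem_image, Finset.coe_filter, Finset.mem_range]
  refine ⟨fun ⟨h, k⟩ => ?_, fun ⟨u, h, k⟩ => k ▸ ⟨enc_mem u, h.2⟩⟩
  obtain ⟨n, hn, rfl⟩ := eq_enc h
  exact ⟨n, ⟨hn, k⟩, rfl⟩

def wN (n : ℕ) : ℕ := ((List.range 12).filter fun j => vl n j % 3 != 0).length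

theorem wt_enc (n : ℕ) : (ternarySupport (enc n)).card = wN n := by
  have : ∀ q : ℕ → Bool, (Finset.univ.filter fun p : ArrayPt => q (ix p)).card = ((List.range 12).filter q).length :=
    fun q => by
    rw [← List.toFinset_card_of_nodup (List.nodup_range.filter _)]
    refine Finset.card_bij (fun p _ => ix p) (fun p hp => ?_) (fun p _ q _ e => (by decide : Function.Injective ix) e) fun j hj => ?_
    · have : ∀ p, ix p < 12 := by decide
      simpa [this] using hp
    · have : ∀ j < 12, ∃ p, ix p = j := by decide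
      simp only [List.mem_toFinset, List.mem_filter, List.mem_range] at hj
      obtain ⟨p, rfl⟩ := this j hj.1
      exact ⟨p, by simpa using hj.2, rfl⟩
  rw [wN, ← this, ternarySupport]
  congr 1; ext p
  simp [enc, ZMod.natCast_eq_zero_iff, Nat.dvd_iff_mod_eq_zero]

theorem wt : ∀ x ∈ ternaryGolayCode, x ≠ 0 → (ternarySupport x).card = 6 ∨ (ternarySupport x).card = 9 ∨
    (ternarySupport x).card = 12 := fun x hx h0 => by
  obtain ⟨n, hn, rfl⟩ := eq_enc hx
  have : ∀ n < 729, n = 0 ∨ wN n = 6 ∨ wN n = 9 ∨ wN n = 12 := by decide +kernel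
  rw [wt_enc]
  exact (this n hn).resolve_left (by rintro rfl; exact h0 (by ext p; simp [enc, vl]))

theorem cnt (k : ℕ) : {x | x ∈ ternaryGolayCode ∧ (ternarySupport x).card = k}.ncard =
    ((Finset.range 729).filter fun n => wN n = k).card := by
  simp only [ncard_eq, wt_enc]

theorem card_code : Nat.card ternaryGolayCode = 729 := by
  have := ncard_eq fun _ => True
  simp only [and_true, Finset.filter_true] at this
  exact (Nat.card_coe_set_eq _).trans (this.trans (by simp))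

theorem self0 : ∀ x ∈ ternaryGolayCode, ∑ p, x p * x p = 0 := fun x hx => by
  have k : ∀ a : Z3, a * a = if a ≠ 0 then 1 else 0 := by decide
  simp only [k, Finset.sum_boole]
  by_cases h : x = 0
  · simp [h]
  rcases wt x hx h with e | e | e <;> (rw [ternarySupport] at e; rw [e]; rfl)

theorem le_span : ternaryGolayCode ≤ Submodule.span Z3 (Set.range B) := fun x hx => by
  rw [eq_lin hx]; exact lin_mem (fun i => Submodule.subset_span (Set.mem_range_self i)) _ _ _ _ _ _

def Hx : Set (Finset ArrayPt) := {h | ∃ x ∈ ternaryGolayCode, ternarySupport x = h ∧ h.card = 6}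

theorem supp_eq {x y : ArrayPt → Z3} (hx : x ∈ ternaryGolayCode) (hy : y ∈ ternaryGolayCode)
    (x6 : (ternarySupport x).card = 6) (y6 : (ternarySupport y).card = 6)
    (h : 5 ≤ (Finset.univ.filter fun p => x p ≠ 0 ∧ y p ≠ 0).card) : x = y ∨ x = -y := by
  have k : ∀ a b : Z3, (if a + b ≠ 0 then 1 else 0) + (if a - b ≠ 0 then 1 else 0) +
      3 * (if a ≠ 0 ∧ b ≠ 0 then 1 else 0) = 2 * (if a ≠ 0 then 1 else 0) + 2 * (if b ≠ 0 then 1 else 0) := by
    decide
  have e : (ternarySupport (x + y)).card + (ternarySupport (x - y)).card +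
      3 * (Finset.univ.filter fun p => x p ≠ 0 ∧ y p ≠ 0).card =
      2 * (ternarySupport x).card + 2 * (ternarySupport y).card := by
    simp only [ternarySupport, Finset.card_filter, Finset.mul_sum, ← Finset.sum_add_distrib]
    exact Finset.sum_congr rfl fun p _ => k _ _
  by_contra hc
  push Not at hc
  have h1 := wt _ (add_mem hx hy) fun e => hc.2 (eq_neg_of_add_eq_zero_left e)
  have h2 := wt _ (sub_mem hx hy) fun e => hc.1 (sub_eq_zero.1 e)
  omega

theorem diag (c : ArrayPt → Z3ˣ) (h : ∀ x ∈ ternaryGolayCode, monomialMap 1 c x ∈ ternaryGolayCode)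
    (p q : ArrayPt) : c p = c q := by
  have k : ∀ i p q, B i p ≠ 0 → B i q ≠ 0 → c p = c q := fun i p q hp hq => by
    have b6 : ∀ i, (ternarySupport (B i)).card = 6 := by decide +kernel
    have s : ∀ p, monomialMap 1 c (B i) p = c p * B i p := fun p => rfl
    have e : ternarySupport (monomialMap 1 c (B i)) = ternarySupport (B i) := by
      ext p; simp [ternarySupport, s]
    rcases supp_eq (h _ (B_mem i)) (B_mem i) (e ▸ b6 i) (b6 i) (by
      refine (show 5 ≤ 6 by omega).trans (b6 i ▸ Finset.card_le_card fun p hp => ?_)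
      simpa [ternarySupport, s] using hp) with e | e
    · have e1 := congrFun e p
      have e2 := congrFun e q
      rw [s, mul_left_eq_self₀] at e1 e2
      exact Units.ext ((e1.resolve_right hp).trans (e2.resolve_right hq).symm)
    · have e1 := congrFun e p
      have e2 := congrFun e q
      rw [s, Pi.neg_apply, ← neg_one_mul (B i _)] at e1 e2
      exact Units.ext ((mul_right_cancel₀ hp e1).trans (mul_right_cancel₀ hq e2).symm)
  have t : ∀ p, ∃ i j r, B i p ≠ 0 ∧ B i r ≠ 0 ∧ B j r ≠ 0 ∧ B j (3, 2) ≠ 0 := by decide +kernel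
  have : ∀ p, c p = c (3, 2) := fun p => by
    obtain ⟨i, j, r, h1, h2, h3, h4⟩ := t p
    exact (k i p r h1 h2).trans (k j r _ h3 h4)
  rw [this p, this q]

def D : List (ℕ × ℕ) := [(205163983024656,0), (114875801285121,0), (171143312191746,0), (203987229090051,630), (149235455697156,630),
  (188533650432261,630), (203028566319366,634), (111366534013191,636), (98289112523016,624),
  (134738834825481,634), (77607836262666,624), (163099914215691,636), (148896472117536,0),
  (183040958800176,1866), (117199865061696,1866), (167587380142416,1866), (95969627808096,1862),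
  (186389881889136,2236), (128339622961536,2224), (82852190560656,1862), (199520902390176,2224),
  (148040433476016,2236), (167926364906256,2764), (135818296632336,2764), (201938729903376,2764),
  (152511949514256,2758), (92816805144336,1338), (165301675304976,1328), (185219212847376,2758),
  (115772311677456,1328), (76520923278096,1338), (147865428247056,0), (186605193351696,0), (199605510955536,6),
  (116911320035856,4090), (96304787325456,4092), (128266436579856,6), (82916315210256,4092),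
  (167424912765456,4090), (132399770186256,0), (183942805598736,6), (80841396400656,4090),
  (110731096240656,4092), (153208536773136,6), (164327252963856,4092), (95285065495056,4090)]

def pt (n : ℕ) : ArrayPt := (Fin.ofNat 4 (n / 3), (n : Z3))
def fn (d : ℕ × ℕ) (p : ArrayPt) : ArrayPt := pt (d.1 / 16 ^ ix p % 16)
def sg (d : ℕ × ℕ) (p : ArrayPt) : Z3ˣ := if d.2 / 2 ^ ix p % 2 = 0 then 1 else -1
def yN (d : ℕ × ℕ) (i : Fin 6) (p : ArrayPt) : ℕ := (1 + d.2 / 2 ^ ix p % 2) * bt i.1 (ix (fn d p)) % 3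

theorem D1 : ∀ d ∈ D, Function.Injective (fn d) ∧ ∀ i p, vl (yN d i (0, 0) + 3 * yN d i (0, 1) + 9 * yN d i (0, 2) +
    27 * yN d i (1, 0) + 81 * yN d i (1, 1) + 243 * yN d i (2, 0)) (ix p) % 3 = yN d i p := by decide +kernel

theorem D1' {d : ℕ × ℕ} (hd : d ∈ D) (i : Fin 6) : (fun p => sg d p * B i (fn d p)) ∈ ternaryGolayCode := by
  convert enc_mem (yN d i (0, 0) + 3 * yN d i (0, 1) + 9 * yN d i (0, 2) +
    27 * yN d i (1, 0) + 81 * yN d i (1, 1) + 243 * yN d i (2, 0)) using 1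
  ext p
  rw [enc, ← ZMod.natCast_mod, (D1 d hd).2 i p, yN, ZMod.natCast_mod, Nat.cast_mul, sg, B]
  congr 1
  rcases Nat.mod_two_eq_zero_or_one (d.2 / 2 ^ ix p) with e | e <;> rw [e] <;> rfl

theorem D2 : ∀ (k : Fin 5) (j : ArrayPt), (∀ i < k, j ≠ pt i.1) →
    ∃ d ∈ D, fn d (pt k.1) = j ∧ ∀ i < k, fn d (pt i.1) = pt i.1 := by decide +kernel

theorem K_act : ∀ σ ∈ K ternaryGolayCode, ∀ h ∈ Hx, σ • h ∈ Hx := by
  rintro σ ⟨c, hc⟩ _ ⟨x, hx, rfl, h6⟩
  refine ⟨_, hc x hx, ?_, by rwa [Finset.card_smul_finset]⟩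
  ext p
  rw [← Finset.inv_smul_mem_iff]
  simp [ternarySupport, monomialMap, Perm.inv_def]

theorem K_le : K ternaryGolayCode ≤ setSystemAut Hx := by
  intro σ hσ
  rw [MulAction.mem_stabilizer_iff]
  ext h
  rw [Set.mem_smul_set_iff_inv_smul_mem]
  exact ⟨fun k => by simpa using K_act σ hσ _ k, K_act _ (inv_mem hσ) h⟩

theorem K5 {x : Fin 5 → ArrayPt} (hx : Function.Injective x) : ∃ g ∈ K ternaryGolayCode, ∀ i, g (x i) = pt i.1 :=
  chain (K ternaryGolayCode) (fun i : Fin 5 => pt i.1) (fun k j hj => by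
    obtain ⟨d, hd, h1, h2⟩ := D2 k j hj
    obtain ⟨g, hg, e⟩ := mem_K le_span (D1 d hd).1 (sg d) (by rintro _ ⟨i, rfl⟩; exact D1' hd i)
    exact ⟨g, hg, fun i hi => by simpa only [h2 i hi] using e (pt i.1), h1 ▸ e _⟩) hx

theorem steiner : IsSteinerSystem 5 6 Hx := by
  refine ⟨fun b ⟨_, _, _, h⟩ => h, fun s hs => ?_⟩
  obtain ⟨g, hg, e⟩ := K5 (Subtype.val_injective.comp (Finset.equivFinOfCardEq hs).symm.injective)
  obtain ⟨n, n6, hn⟩ : ∃ n < 729, wN n = 6 ∧ ∀ i : Fin 5, enc n (pt i.1) ≠ 0 := ⟨229, by decide +kernel⟩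
  obtain ⟨y, hy, e1, y6⟩ := K_act _ (inv_mem hg) _ ⟨_, enc_mem n, rfl, (wt_enc n).trans hn.1⟩
  have h : s ⊆ ternarySupport y := fun p hp => by
    rw [e1, Finset.inv_smul_mem_iff.symm, inv_inv]
    have := e (Finset.equivFinOfCardEq hs ⟨p, hp⟩)
    simp only [Function.comp_apply, symm_apply_apply] at this
    simpa [ternarySupport, this] using hn.2 _
  rw [← e1] at y6
  refine ⟨ternarySupport y, ⟨⟨_, hy, rfl, y6⟩, h⟩, ?_⟩
  rintro _ ⟨⟨x, hx, rfl, x6⟩, k⟩
  rcases supp_eq hx hy x6 y6 (hs ▸ Finset.card_le_card fun p hp => by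
    simpa [ternarySupport] using And.intro (k hp) (h hp)) with e | e
  · rw [e]
  · rw [e]; simp [ternarySupport]

theorem K_eq : K ternaryGolayCode = setSystemAut Hx := by
  refine le_antisymm K_le fun σ hσ => ?_
  have hb : Function.Injective fun i : Fin 5 => pt i.1 := by decide
  obtain ⟨g, hg, e⟩ := K5 (σ.injective.comp hb)
  have := (Cfsg.Agent.S0425.result (by simp) steiner).2.2 ⟨_, hb⟩
  have k : (⟨g * σ, mul_mem (K_le hg) hσ⟩ : setSystemAut Hx) ∈ MulAction.stabilizer _ (⟨_, hb⟩ : Fin 5 ↪ _) :=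
    Function.Embedding.ext e
  rw [this] at k
  rw [eq_inv_of_mul_eq_one_right (congrArg Subtype.val k)]
  exact inv_mem hg

end CfsgH1.Code
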