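import Cfsg.Agent.H1.Prim
import Cfsg.Agent.H2.TwoGroup
import Cfsg.Agent.H5.U3a

/-! The structure of `PSU₃(2)`. -/

set_option autoImplicit false
set_option linter.style.haveILetI false

namespace CfsgH1

open Subgroup Cfsg CfsgH2 CfsgH5

theorem u32_aux {G Ω : Type*} [Group G] [Finite G] [Group.IsSolvable G] [MulAction G Ω] [FaithfulSMul G Ω] {a : Ω} {t : G}
    {Q : Subgroup G} (S : IsRankOneSetup G Ω a t Q) (c72 : Nat.card G = 72) (cQ : Nat.card Q = 8) (pQ : IsPGroup 2 Q)
    (u : UniqInv Q) {x y : Q} (nc : x * y ≠ y * x) : ∃ (N : Subgroup G) (_ : N.Normal), Nat.card N = 9 ∧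
      (∀ x ∈ N, x ^ 3 = 1) ∧ Nonempty (G ⧸ N ≃* QuaternionGroup 2) := by
  haveI : Nontrivial G := Finite.one_lt_card_iff_nontrivial.1 (by omega)
  have P := prim_stabilizer (MulAction.isPreprimitive_of_is_two_pretransitive S.two_transitive) a
  obtain ⟨M, p, hp, hn, h0, hc, -, he, -⟩ := exists_minNormal_of_isSolvable (G := G)
  have cp : IsComplement' M (MulAction.stabilizer G a) :=
    isComplement'_of_disjoint_and_mul_eq_univ (disjoint_iff.2 (P.inf_eq_bot h0 (le_centralizer M)))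
      (by rw [← normal_mul, P.sup h0]; rfl)
  have c1 := cp.card_mul_card
  obtain ⟨k, c2⟩ := card_dvd_of_le S.le
  have c3 := cp.index_eq_card
  have c4 := card_dvd_of_injective _ ((MonoidHom.ker_eq_bot_iff _).1 ((normalCore_eq_ker _).symm.trans P.core))
  rw [Nat.card_perm, c72, ← index_eq_card, c3] at c4
  rw [cQ] at c2
  have c5 : Nat.card M * k = 9 := by rw [c2, c72] at c1; linarith
  have c6 : Nat.card M = 9 := by
    obtain ⟨j, hj, e⟩ := (Nat.dvd_prime_pow Nat.prime_three (m := 2)).1 (Dvd.intro _ c5)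
    interval_cases j
    · rw [e] at c4; exact absurd c4 (by decide)
    · rw [e] at c4; exact absurd c4 (by decide)
    · exact e
  obtain rfl : k = 1 := by rw [c6] at c5; omega
  have eQ : Q = MulAction.stabilizer G a := eq_of_le_of_card_ge S.le (by rw [c2, cQ])
  obtain rfl : p = 3 := by
    obtain ⟨⟨g, hg⟩, g1⟩ := (nontrivial_iff_exists_ne (1 : M)).1 ((nontrivial_iff_ne_bot M).2 h0)
    haveI := Fact.mk hp
    have := M.orderOf_dvd_natCard hg
    rw [orderOf_eq_prime (he g hg) fun e => g1 (Subtype.ext e), c6] at this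
    exact (Nat.prime_dvd_prime_iff_eq hp Nat.prime_three).1 (hp.dvd_of_dvd_pow (n := 2) this)
  obtain ⟨r, ⟨f⟩⟩ := (cyclic_or_quat' pQ u).resolve_left fun c => nc (mul_comm' x y)
  obtain rfl : r = 0 := by
    have := Nat.card_congr f.toEquiv
    rw [cQ, Nat.card_eq_fintype_card, QuaternionGroup.card, pow_succ] at this
    have : 2 ^ r = 2 ^ 0 := by omega
    exact Nat.pow_right_injective le_rfl this
  exact ⟨M, hn, c6, he, ⟨(eQ ▸ cp.symm).QuotientMulEquiv.trans f⟩⟩

theorem uniqInv_UH {F G : Type*} [Field F] [Fintype F] [Group G] (hF : Fintype.card F = 2 ^ 2) {Q : Subgroup G}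
    (e : UHq hF ≃* Q) : UniqInv Q := fun g hg h hh og oh => by
  have h2 : (2 : F) = 0 := by
    have := FiniteField.cast_card_eq_zero F
    rw [hF] at this
    exact pow_eq_zero_iff two_ne_zero |>.1 (by exact_mod_cast this)
  have k : ∀ g (hg : g ∈ Q), orderOf g = 2 → e.symm ⟨g, hg⟩ ∈ center (UHq hF) ∧ e.symm ⟨g, hg⟩ ≠ 1 := fun g hg o =>
    ⟨(UH.mem_center_iff (frobQ_ne hF)).2 ((UH.mul_self_eq_one h2).1 (by
      rw [← map_mul, MulEquiv.map_eq_one_iff]; exact Subtype.ext (by simpa [pow_two] using orderOf_dvd_iff_pow_eq_one.1 o.dvd))),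
      fun k => by rw [show g = 1 from congrArg Subtype.val ((MulEquiv.map_eq_one_iff _).1 k)] at o; simp at o⟩
  obtain ⟨v, -, hv⟩ := (Nat.card_eq_two_iff' (1 : center (UHq hF))).1 (card_center_UH hF)
  have := (hv ⟨_, (k g hg og).1⟩ fun e => (k g hg og).2 (congrArg Subtype.val e)).trans
    (hv ⟨_, (k h hh oh).1⟩ fun e => (k h hh oh).2 (congrArg Subtype.val e)).symm
  exact congrArg Subtype.val (e.symm.injective (congrArg Subtype.val this))

end CfsgH1
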